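import Cfsg.Agent.DL.Dat.Sub

/-!
# S5765, `BoxMax`: frames adapted to a toral subset (helper50)

* `exists_conj_le_T` : an `F`-stable subset of a conjugate of `T` lies in the torus of a conjugate datum;
* `exists_reframe` : for `Z ⊆ T` with `F`-stable root system there is a conjugate datum (by an element of the connected
  centraliser) in which `F` preserves the positive roots trivial on `Z`.
-/

set_option autoImplicit false
set_option linter.unusedSectionVars false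

namespace Cfsg.Agent.SB.Exc.Max

open CoxeterSystem Cfsg.Agent.ChevalleyStructure.CoxeterGeom Cfsg.Agent.Tits.Roots Cfsg.Agent.Nodes.Reps
  Cfsg.Agent.Nodes.BNOf Cfsg.Agent.Nodes.Bruhat Cfsg.Agent.LangThm Cfsg.Agent.Nodes.SubComb
  Cfsg.Agent.Nodes.Coroot Cfsg.Agent.Nodes.Slope Cfsg.Agent.Nodes.NormalForm Cfsg.Agent.DL.Base Cfsg.Agent.DL
open scoped Pointwise commutatorElement

attribute [local instance] fintypeSmp decSmp

variable {p : ℕ} [Fact p.Prime] {k : Type} [Field k] [CharP k p] {Y : Type} [Group Y] {N : Type} [Fintype N]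
  [DecidableEq N] {ρ : Y →* GL N k} {F : MulAut Y} {G : Subgroup Y} [IsAlgClosed k] (D : Datum p ρ F G)

/-- An `F`-stable subset of a conjugate of `T` lies in an `F`-stable conjugate of `T`. -/
theorem exists_conj_le_T {Z : Set Y} (hF : ∀ z ∈ Z, F z ∈ Z) {x : Y} (hx : x ∈ G) (hZ : ∀ z ∈ Z, x⁻¹ * z * x ∈ D.T) :
    ∃ (y : Y) (hy : y ∈ G) (hy' : y⁻¹ * F y ∈ D.NN), Z ⊆ (D.conj hy hy').T ∧ ∀ z ∈ Z, y⁻¹ * z * y = x⁻¹ * z * x := by
  have ha : x⁻¹ * F x ∈ G := mul_mem (inv_mem hx) (D.F_mem_G hx)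
  obtain ⟨c, hc, m, hm, h1, h2⟩ := D.exists_conj_form (s := fun z : Z => F (x⁻¹ * z * x))
    (t := fun z : Z => x⁻¹ * F z * x) (fun z => D.F_mem_T (hZ z z.2)) (fun z => hZ _ (hF z z.2)) ha
    (fun z => by rw [map_mul, map_mul, map_inv]; group)
  have hr : Set.range (fun z : Z => x⁻¹ * F z * x) = (fun z => x⁻¹ * z * x) '' Z := by
    ext u
    constructor
    · rintro ⟨z, rfl⟩
      exact ⟨_, hF z z.2, rfl⟩
    · rintro ⟨z, hz, rfl⟩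
      refine ⟨⟨F⁻¹ z, (D.amb.mem_iff hF _).1 (by rwa [MulAut.apply_inv_self])⟩, ?_⟩
      show x⁻¹ * F (F⁻¹ z) * x = _
      rw [MulAut.apply_inv_self]
  rw [hr] at hc
  have hZ' : (fun z => x⁻¹ * z * x) '' Z ⊆ (D.twist hm).T := by
    rintro _ ⟨z, hz, rfl⟩
    exact hZ z hz
  have hF' : ∀ z ∈ (fun z => x⁻¹ * z * x) '' Z, (MulAut.conj m * F) z ∈ (fun z => x⁻¹ * z * x) '' Z := by
    rintro _ ⟨z, hz, rfl⟩
    refine ⟨F z, hF z hz, ?_⟩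
    show x⁻¹ * F z * x = m * F (x⁻¹ * z * x) * m⁻¹
    rw [h1 ⟨z, hz⟩, mul_inv_cancel_right]
  obtain ⟨b, hb, h3⟩ := (D.twist hm).lang_S (A := D.Sz ((fun z => x⁻¹ * z * x) '' Z)) D.Sz_root
    (fun a ha => (D.twist hm).g_mem_Sz hZ' hF' ha) hc
  have hbG : b ∈ G := D.S_le_G D.Sz_root hb
  have hbc : ∀ z ∈ Z, b * (x⁻¹ * z * x) * b⁻¹ = x⁻¹ * z * x := fun z hz => by
    have := D.cen_le_centralizer hZ' (D.S_le_cen _ hb) _ ⟨z, hz, rfl⟩
    rw [← this, mul_inv_cancel_right]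
  have h4 : (x * b⁻¹)⁻¹ * F (x * b⁻¹) = m := by
    rw [MulAut.mul_apply, MulAut.conj_apply] at h3
    calc _ = b * (x⁻¹ * F x) * (F b)⁻¹ := by rw [map_mul, map_inv]; group
      _ = m := by rw [h2, h3]; group
  have h5 : ∀ z ∈ Z, (x * b⁻¹)⁻¹ * z * (x * b⁻¹) = x⁻¹ * z * x := fun z hz => by
    rw [← hbc z hz]; group
  refine ⟨x * b⁻¹, mul_mem hx (inv_mem hbG), h4 ▸ hm, fun z hz => ?_, h5⟩
  show z ∈ cj (x * b⁻¹) D.T
  rw [mem_cj, h5 z hz]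
  exact hZ z hz

/-- A conjugate datum in which `F` preserves the positive roots trivial on `Z`. -/
theorem exists_reframe {Z : Set Y} (hZ : Z ⊆ D.T) (hF : ∀ a ∈ D.Sz Z, D.g a ∈ D.Sz Z) :
    ∃ (y : Y) (hy : y ∈ G) (hy' : y⁻¹ * F y ∈ D.NN), y ∈ D.cen Z ∧ y⁻¹ * F y ∈ D.cen Z ∧
      ∀ a ∈ D.Sz Z, 0 ≤ a → 0 ≤ (D.conj hy hy').g a := by
  obtain ⟨y, hy, hy', hq⟩ := (D.sub hZ hF rfl).exists_qs
  have h1 : y⁻¹ * F y ∈ D.NN ⊓ D.cen Z := D.sub_NN hZ hF rfl ▸ hy'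
  refine ⟨y, D.cen_le_G Z hy, h1.1, hy, h1.2, fun a ha h0 => ?_⟩
  obtain ⟨c, hc, rfl⟩ := exists_root (Λ := D.Lam Z) ha.1 ha.2
  have h2 := hq c hc ((iota_nonneg_iff hc).1 h0)
  rw [Datum.conj_g] at h2 ⊢
  have h3 : D.pr (y⁻¹ * F y) = D.subW Z ((D.sub hZ hF rfl).pr (y⁻¹ * F y)) :=
    Datum.Rp.pr_eq (D.rp_of_sub hZ hF rfl ((D.sub hZ hF rfl).rp_pr hy'))
  have h4 := D.sub_g hZ hF rfl (c := c) hc
  rw [h3]
  erw [← h4, D.act_subW hZ hF rfl]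
  exact iota_nonneg h2

end Cfsg.Agent.SB.Exc.Max
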