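import Cfsg.Agent.SB.Exc.Max.Frame

/-!
# S5765, `BoxMax`: coordinates on unipotent subgroups (helper50)

* `exists_perturb`, `exists_generic`, `eq_one_of_sum` : functionals on the root lattice;
* `S_ind`, `inf_S`, `pel_of_uni`;
* `CRel D C` : commutator relations with supports `C a b`; `Crd D A B κ` : the coordinates at the roots in `B ⊆ A` are
  homomorphisms on `D.S A`; `exists_crd`, `Crd.map`, `Crd.exists_fix`.
-/

set_option autoImplicit false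
set_option linter.unusedSectionVars false

namespace Cfsg.Agent.SB.Exc.Max

open CoxeterSystem Cfsg.Agent.ChevalleyStructure.CoxeterGeom Cfsg.Agent.Tits.Roots Cfsg.Agent.Nodes.Reps
  Cfsg.Agent.Nodes.BNOf Cfsg.Agent.Nodes.Bruhat Cfsg.Agent.LangThm Cfsg.Agent.Nodes.SubComb
  Cfsg.Agent.Nodes.Coroot Cfsg.Agent.Nodes.Slope Cfsg.Agent.Nodes.NormalForm Cfsg.Agent.DL.Base Cfsg.Agent.DL
open scoped Pointwise commutatorElement

section Fun

variable {V : Type*} [AddCommGroup V]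

theorem exists_perturb {S : Set V} (hS : S.Finite) (lam mu : V →+ ℤ) : ∃ f : V →+ ℤ, ∀ v ∈ S,
    (0 < lam v → 0 < f v) ∧ (lam v < 0 → f v < 0) ∧ (lam v = 0 → f v = mu v) := by
  obtain ⟨n, hn⟩ := (hS.image fun v => |mu v|).bddAbove
  refine ⟨(n + 1) • lam + mu, fun v hv => ?_⟩
  have h1 : |mu v| ≤ n := hn ⟨v, hv, rfl⟩
  have h2 := abs_le.1 h1
  have h3 : 0 ≤ n := (abs_nonneg _).trans h1
  have e : ((n + 1) • lam + mu) v = (n + 1) * lam v + mu v := by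
    rw [AddMonoidHom.add_apply, AddMonoidHom.zsmul_apply, smul_eq_mul]
  rw [e]
  refine ⟨fun h => ?_, fun h => ?_, fun h => by rw [h, mul_zero, zero_add]⟩
  · nlinarith
  · nlinarith

theorem exists_generic {I : Type*} {S : Set (I → ℤ)} (hS : S.Finite) (h0 : ∀ v ∈ S, v ≠ 0) :
    ∃ f : (I → ℤ) →+ ℤ, ∀ v ∈ S, f v ≠ 0 := by
  induction S, hS using Set.Finite.induction_on with
  | empty => exact ⟨0, fun _ h => h.elim⟩
  | @insert a S _ hS ih =>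
    obtain ⟨f, hf⟩ := ih fun v hv => h0 v (Set.mem_insert_of_mem _ hv)
    obtain ⟨i, hi⟩ := Function.ne_iff.1 (h0 a (Set.mem_insert _ _))
    obtain ⟨f', hf'⟩ := exists_perturb (hS.insert a) f (Pi.evalAddMonoidHom (fun _ => ℤ) i)
    refine ⟨f', fun v hv => ?_⟩
    obtain ⟨h1, h2, h3⟩ := hf' v hv
    rcases lt_trichotomy (f v) 0 with h | h | h
    · exact (h2 h).ne
    · rcases hv with rfl | hv
      · rw [h3 h]; exact hi
      · exact absurd h (hf v hv)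
    · exact (h1 h).ne'

end Fun

variable {p : ℕ} [Fact p.Prime] {k : Type} [Field k] [CharP k p] {Y : Type} [Group Y] {N : Type} [Fintype N]
  [DecidableEq N] {ρ : Y →* GL N k} {F : MulAut Y} {G : Subgroup Y} (D : Datum p ρ F G)

theorem act_mul (v w : D.W) (a : D.I → ℤ) : D.act (v * w) a = D.act v (D.act w a) := by
  rw [Datum.act, map_mul]; rfl

theorem act_one (a : D.I → ℤ) : D.act 1 a = a := by
  rw [Datum.act, map_one]; rfl

theorem act_inv_act (w : D.W) (a : D.I → ℤ) : D.act w⁻¹ (D.act w a) = a := by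
  rw [← act_mul, inv_mul_cancel, act_one]

theorem act_act_inv (w : D.W) (a : D.I → ℤ) : D.act w (D.act w⁻¹ a) = a := by
  rw [← act_mul, mul_inv_cancel, act_one]

theorem act_neg (w : D.W) (a : D.I → ℤ) : D.act w (-a) = -D.act w a := map_neg _ _

theorem act_add (w : D.W) (a b : D.I → ℤ) : D.act w (a + b) = D.act w a + D.act w b := map_add _ _ _

/-- an element of `W` preserving the positive roots is trivial -/
theorem eq_one_of_pos {w : D.W} (h : ∀ i, 0 ≤ D.act w (sr i)) : w = 1 := eq_one_of_nonneg D.cs D.h _ h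

/-- an element of `W` fixing a regular functional is trivial -/
theorem eq_one_of_fix_fun {w : D.W} (f : (D.I → ℤ) →+ ℤ) (hf : ∀ a, D.Rt a → f a ≠ 0)
    (hw : ∀ a, D.Rt a → f (D.act w a) = f a) : w = 1 := by
  obtain ⟨v, hv⟩ := D.exists_chamber f hf
  have h1 : v⁻¹ * w * v = 1 := eq_one_of_pos D fun i => by
    have h2 := isRoot_sr D.cs D.h i
    rw [← hv _ (h2.act _), ← act_mul, show v * (v⁻¹ * w * v) = w * v by group, act_mul, hw _ (h2.act _), hv _ h2]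
    exact sr_nonneg i
  calc w = v * (v⁻¹ * w * v) * v⁻¹ := by group
    _ = 1 := by rw [h1]; group

theorem eq_one_of_sum {w : D.W} {s : ℕ} (hs : w ^ s = 1)
    (h : ∀ a, D.Rt a → ∑ i ∈ Finset.range s, D.act (w ^ i) a ≠ 0) : w = 1 := by
  obtain ⟨f, hf⟩ := exists_generic (S := (fun a => ∑ i ∈ Finset.range s, D.act (w ^ i) a) '' {a | D.Rt a})
    (D.finite_roots.image _) (by rintro _ ⟨a, ha, rfl⟩; exact h a ha)
  let Sg : (D.I → ℤ) →+ (D.I → ℤ) := ∑ i ∈ Finset.range s, (rep D.cs D.h (w ^ i)).toAddMonoidHom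
  have e : ∀ a, Sg a = ∑ i ∈ Finset.range s, D.act (w ^ i) a := fun a => by
    simp only [Sg, AddMonoidHom.finsetSum_apply]; rfl
  refine eq_one_of_fix_fun D (f.comp Sg) (fun a ha => ?_) fun a _ => ?_
  · rw [AddMonoidHom.comp_apply, e]
    exact hf _ ⟨a, ha, rfl⟩
  · rw [AddMonoidHom.comp_apply, AddMonoidHom.comp_apply, e, e]
    congr 1
    have h1 := Finset.sum_range_succ (fun i => D.act (w ^ i) a) s
    rw [Finset.sum_range_succ', hs, pow_zero] at h1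
    rw [← add_right_cancel h1]
    exact Finset.sum_congr rfl fun i _ => by rw [← act_mul, pow_succ]

variable {D}

theorem S_ind {A : Set (D.I → ℤ)} (hA : ∀ a ∈ A, D.Rt a) {P : Y → Prop} (h1 : P 1)
    (hx : ∀ a ∈ A, ∀ s, P (D.x a s)) (hm : ∀ y ∈ D.S A, ∀ y' ∈ D.S A, P y → P y' → P (y * y')) {y : Y}
    (hy : y ∈ D.S A) : P y := by
  refine Subgroup.iSup_induction' (fun z : A => D.X z.1) (C := fun y _ => P y) (fun a u hu => ?_) h1
    (fun u v hu hv => hm u hu v hv) hy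
  obtain ⟨s, rfl⟩ := (D.mem_X a (hA a a.2) _).1 hu
  exact hx a a.2 s

theorem x_mem_S {A : Set (D.I → ℤ)} {a : D.I → ℤ} (ha : a ∈ A) (hr : D.Rt a) (s : k) : D.x a s ∈ D.S A :=
  RGD.le_Sup (X := D.X) ha (D.x_mem hr s)

theorem inf_S {A B : Set (D.I → ℤ)} (hA : D.Uni A) (hB : D.Uni B) {u : Y} (h1 : u ∈ D.S A) (h2 : u ∈ D.S B) :
    u ∈ D.S (A ∩ B) := by
  obtain ⟨lam, hl⟩ := hA.pos
  obtain ⟨ell, he⟩ := hB.pos
  obtain ⟨a, ha, c, hc, e⟩ := D.split hA.cl lam ell hl h1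
  have h3 : c = 1 := by
    refine D.sup_inf_sup' ell lam ?_ (RGD.Sup_mono ?_ hc)
    · rw [show c = a⁻¹ * u by rw [e, inv_mul_cancel_left]]
      refine mul_mem (inv_mem (RGD.Sup_mono ?_ ha)) (RGD.Sup_mono ?_ h2)
      · exact fun x hx => ⟨hA.root x hx.1, hx.2⟩
      · exact fun x hx => ⟨hB.root x hx, he x hx⟩
    · exact fun x hx => ⟨hA.root x hx.1, hx.2, hl x hx.1⟩
  rw [h3, mul_one] at e
  have h4 := Datum.S_inf_S (hA.cl.pos ell) hB.cl ell (by rintro x (hx | hx); exacts [hx.2, he x hx])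
  have h5 : u ∈ D.S ({x | x ∈ A ∧ 0 < ell x} ∩ B) := h4 ▸ (⟨e ▸ ha, h2⟩ : u ∈ D.S _ ⊓ D.S B)
  refine RGD.Sup_mono ?_ h5
  exact fun x hx => ⟨hx.1.1, hx.2⟩

theorem pel_of_pos {A : Set (D.I → ℤ)} (hA : ∀ a ∈ A, D.Rt a) (lam : (D.I → ℤ) →+ ℤ) (hl : ∀ a ∈ A, 0 < lam a) {u : Y}
    (hu : u ∈ D.S A) : ∃ j : ℕ, u ^ p ^ j = 1 := by
  obtain ⟨f, hf⟩ := exists_perturb D.finite_roots lam htHom
  obtain ⟨w, hw⟩ := D.exists_chamber f fun a ha => by
    obtain ⟨h1, h2, h3⟩ := hf a ha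
    rcases lt_trichotomy (lam a) 0 with h | h | h
    · exact (h2 h).ne
    · rw [h3 h]
      rcases ha.pos_or_neg with h4 | h4
      · exact (D.ht_pos_of_pos a ⟨ha, h4⟩).ne'
      · have := D.ht_pos_of_pos (-a) ⟨ha.neg, neg_nonneg.2 h4⟩
        rw [map_neg] at this
        omega
    · exact (h1 h).ne'
  obtain ⟨m, hm, -⟩ := D.exists_rp w⁻¹
  have h1 : m * u * m⁻¹ ∈ D.U := D.conj_mem_S (S' := RGD.Pos D.cs D.h) hm hA (fun a ha => ⟨(hA a ha).act _, by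
    rw [← hw _ ((hA a ha).act _), act_act_inv]
    exact (hf a (hA a ha)).1 (hl a ha)⟩) hu
  obtain ⟨j, hj⟩ := D.isPGroup_U ⟨_, h1⟩
  refine ⟨j, ?_⟩
  have h2 : (m * u * m⁻¹) ^ p ^ j = 1 := congrArg Subtype.val hj
  rw [conj_pow] at h2
  exact conj_eq_one_iff.1 h2

theorem pel_of_uni {A : Set (D.I → ℤ)} (hA : D.Uni A) {u : Y} (hu : u ∈ D.S A) : ∃ j : ℕ, u ^ p ^ j = 1 := by
  obtain ⟨lam, hl⟩ := hA.pos
  exact pel_of_pos hA.root lam hl hu

theorem eq_one_of_T_pel {t : Y} (ht : t ∈ D.T) {j : ℕ} (h : t ^ p ^ j = 1) : t = 1 := by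
  obtain ⟨c, rfl⟩ := (D.mem_T t).1 ht
  rw [← map_pow, ← map_one D.τ] at h
  have h1 := D.τ_inj h
  rw [show c = 1 from ?_, map_one]
  funext i
  have h2 : ((c i : kˣ) : k) ^ p ^ j = 1 := by
    have := congrArg (fun d => ((d i : kˣ) : k)) h1
    simpa using this
  apply Units.ext
  have h3 : (((c i : kˣ) : k) - 1) ^ p ^ j = 0 := by rw [sub_pow_char_pow, h2, one_pow, sub_self]
  exact sub_eq_zero.1 (pow_eq_zero_iff (pow_ne_zero _ (Fact.out : p.Prime).ne_zero) |>.1 h3)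

theorem x_pow_p {a : D.I → ℤ} (ha : D.Rt a) (s : k) : D.x a s ^ p = 1 := by
  have h : ∀ n : ℕ, D.x a s ^ n = D.x a (n * s) := fun n => by
    induction n with
    | zero => rw [pow_zero, Nat.cast_zero, zero_mul, D.x_zero ha]
    | succ n ih => rw [pow_succ, ih, ← D.x_add a ha, Nat.cast_succ, add_mul, one_mul]
  rw [h, CharP.cast_eq_zero, zero_mul, D.x_zero ha]

theorem x_comm {a : D.I → ℤ} (ha : D.Rt a) {u v : Y} (hu : u ∈ D.X a) (hv : v ∈ D.X a) : u * v = v * u := by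
  obtain ⟨s, rfl⟩ := (D.mem_X a ha _).1 hu
  obtain ⟨t, rfl⟩ := (D.mem_X a ha _).1 hv
  rw [← D.x_add a ha, ← D.x_add a ha, add_comm]

/-- `y` commutes with `D.S A` if it commutes with the root groups -/
theorem comm_S {A : Set (D.I → ℤ)} {y : Y} (h : ∀ a ∈ A, ∀ u ∈ D.X a, y * u = u * y) {u : Y} (hu : u ∈ D.S A) :
    y * u = u * y :=
  ((RGD.Sup_le fun a ha u hu => Subgroup.mem_centralizer_singleton_iff.2 (h a ha u hu).symm :
    D.S A ≤ Subgroup.centralizer {y}) hu) y rfl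

theorem comm_S_S {A B : Set (D.I → ℤ)} (h : ∀ a ∈ A, ∀ b ∈ B, ∀ u ∈ D.X a, ∀ v ∈ D.X b, u * v = v * u) {u v : Y}
    (hu : u ∈ D.S A) (hv : v ∈ D.S B) : u * v = v * u :=
  comm_S (fun b hb v hv => (comm_S (fun a ha u hu => (h a ha b hb u hu v hv).symm) hu).symm) hv

/-- conjugation preserves `D.S B` if it maps the root groups into it -/
theorem conj_S {B : Set (D.I → ℤ)} {H : Subgroup Y} {y : Y} (h : ∀ b ∈ B, ∀ v ∈ D.X b, y * v * y⁻¹ ∈ H) {v : Y}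
    (hv : v ∈ D.S B) : y * v * y⁻¹ ∈ H :=
  (RGD.Sup_le fun b hb v hv => h b hb v hv : D.S B ≤ H.comap (MulAut.conj y).toMonoidHom) hv

theorem conj_S_S {A B : Set (D.I → ℤ)} (hA : ∀ a ∈ A, D.Rt a)
    (h : ∀ a ∈ A, ∀ b ∈ B, ∀ u ∈ D.X a, ∀ v ∈ D.X b, u * v * u⁻¹ ∈ D.S B) {u : Y} (hu : u ∈ D.S A) :
    ∀ v ∈ D.S B, u * v * u⁻¹ ∈ D.S B := by
  refine S_ind hA (P := fun u => ∀ v ∈ D.S B, u * v * u⁻¹ ∈ D.S B) (fun v hv => by simpa using hv)
    (fun a ha s v hv => conj_S (fun b hb => h a ha b hb _ (D.x_mem (hA a ha) s)) hv) (fun y _ y' _ h1 h2 v hv => ?_) hu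
  have := h1 _ (h2 v hv)
  convert this using 1
  group

variable (D) in
/-- commutator relations with supports `C a b` -/
def CRel (C : (D.I → ℤ) → (D.I → ℤ) → Set (D.I → ℤ)) : Prop :=
  ∀ a b, D.Rt a → D.Rt b → a ≠ b → a ≠ -b →
    (∀ c ∈ C a b, Btwn D.cs D.h a b c) ∧ ∀ u ∈ D.X a, ∀ v ∈ D.X b, ⁅u, v⁆ ∈ D.S (C a b)

variable {C : (D.I → ℤ) → (D.I → ℤ) → Set (D.I → ℤ)}

theorem ne_neg_of_pos {V : Type*} [AddCommGroup V] {lam : V →+ ℤ} {a b : V} (ha : 0 < lam a) (hb : 0 < lam b) :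
    a ≠ -b := fun h => by
  rw [h, map_neg] at ha
  omega

theorem CRel.conj (hC : CRel D C) {r : D.I → ℤ} {A : Set (D.I → ℤ)} (hr : D.Rt r) (hA : ∀ a ∈ A, D.Rt a ∧ r ≠ -a)
    (h : ∀ a ∈ A, r ≠ a → C r a ⊆ A) {u v : Y} (hu : u ∈ D.X r) (hv : v ∈ D.S A) : u * v * u⁻¹ ∈ D.S A := by
  refine conj_S (fun a ha v hv => ?_) hv
  by_cases e : r = a
  · subst e
    rw [x_comm hr hu hv, mul_inv_cancel_right]
    exact RGD.le_Sup (X := D.X) ha hv
  · have h1 := RGD.Sup_mono (h a ha e) ((hC r a hr (hA a ha).1 e (hA a ha).2).2 u hu v hv)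
    have h2 := mul_mem h1 (RGD.le_Sup (X := D.X) ha hv)
    rwa [commutatorElement_def, inv_mul_cancel_right] at h2

theorem exists_split {r : D.I → ℤ} {A : Set (D.I → ℤ)} (hr : D.Rt r) (hA : ∀ a ∈ A, D.Rt a)
    (h : ∀ u ∈ D.X r, ∀ v ∈ D.S (A \ {r}), u * v * u⁻¹ ∈ D.S (A \ {r})) {y : Y} (hy : y ∈ D.S A) :
    ∃ t, (r ∉ A → t = 0) ∧ (D.x r t)⁻¹ * y ∈ D.S (A \ {r}) := by
  refine S_ind hA (P := fun y => ∃ t, (r ∉ A → t = 0) ∧ (D.x r t)⁻¹ * y ∈ D.S (A \ {r}))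
    ⟨0, fun _ => rfl, by rw [D.x_zero hr, inv_one, one_mul]; exact one_mem _⟩ (fun a ha s => ?_) ?_ hy
  · by_cases e : a = r
    · subst e
      exact ⟨s, fun h => absurd ha h, by rw [inv_mul_cancel]; exact one_mem _⟩
    · exact ⟨0, fun _ => rfl, by rw [D.x_zero hr, inv_one, one_mul]; exact x_mem_S (A := A \ {r}) ⟨ha, e⟩ (hA a ha) s⟩
  · rintro y - y' - ⟨t, ht0, ht⟩ ⟨t', ht0', ht'⟩
    refine ⟨t + t', fun h => by rw [ht0 h, ht0' h, add_zero], ?_⟩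
    have := mul_mem (h _ (inv_mem (D.x_mem hr t')) _ ht) ht'
    rw [D.x_add r hr]
    convert this using 1
    group

theorem exists_lp_cr (hC : CRel D C) (lam : (D.I → ℤ) →+ ℤ) : ∀ {L : List (D.I → ℤ)}, Conv L →
    (∀ a ∈ L, D.Rt a ∧ 0 < lam a) → ∀ {A : Set (D.I → ℤ)}, (∀ a ∈ A, ∀ b ∈ A, a ≠ b → C a b ⊆ A) → (∀ a ∈ A, a ∈ L) →
      ∀ {u : Y}, u ∈ D.S A → ∃ c : (D.I → ℤ) → k, (∀ a, a ∉ A → c a = 0) ∧ u = D.lp L c
  | [], _, _, A, _, hA, u, hu => by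
    have : A = ∅ := Set.eq_empty_of_forall_notMem fun a ha => by simpa using hA a ha
    rw [this, Datum.S, Nodes.OppDec.Sup_empty, Subgroup.mem_bot] at hu
    exact ⟨0, fun _ _ => rfl, hu⟩
  | r :: L, ⟨⟨f, hf0, hf⟩, hL⟩, hr, A, hcl, hA, u, hu => by
    classical
    have hr0 := hr r List.mem_cons_self
    have hr' : ∀ a ∈ L, D.Rt a ∧ 0 < lam a := fun a ha => hr a (List.mem_cons_of_mem _ ha)
    have hrL : r ∉ L := fun h => (hf r h).ne' hf0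
    have hA' : ∀ a ∈ A \ {r}, a ∈ L := fun a ha => (List.mem_cons.1 (hA a ha.1)).resolve_left ha.2
    have key : ∀ a ∈ A, ∀ b ∈ A \ {r}, a ≠ b → C a b ⊆ A \ {r} := fun a ha b hb hab c hc => by
      refine ⟨hcl a ha b hb.1 hab hc, fun e => ?_⟩
      have h1 := hr a (hA a ha)
      have h2 := hr b (hA b hb.1)
      have h3 := ((hC a b h1.1 h2.1 hab (ne_neg_of_pos h1.2 h2.2)).1 c hc).symm
      have h4 : 0 ≤ f a := by
        rcases List.mem_cons.1 (hA a ha) with rfl | h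
        · exact hf0.ge
        · exact (hf a h).le
      have h5 := btwn_pos' h3 f (hf b (hA' b hb)) h4
      rw [Set.mem_singleton_iff.1 e, hf0] at h5
      exact lt_irrefl _ h5
    obtain ⟨t, ht0, ht⟩ : ∃ t, (r ∉ A → t = 0) ∧ (D.x r t)⁻¹ * u ∈ D.S (A \ {r}) := by
      by_cases hrA : r ∈ A
      · exact exists_split hr0.1 (fun a ha => (hr a (hA a ha)).1) (fun u hu v hv => hC.conj hr0.1
          (fun a ha => ⟨(hr' a (hA' a ha)).1, ne_neg_of_pos hr0.2 (hr' a (hA' a ha)).2⟩) (key r hrA) hu hv) hu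
      · refine ⟨0, fun _ => rfl, ?_⟩
        rwa [D.x_zero hr0.1, inv_one, one_mul, Set.sdiff_singleton_eq_self hrA]
    obtain ⟨c, hc0, hc⟩ := exists_lp_cr hC lam hL hr' (fun a ha => key a ha.1) hA' ht
    refine ⟨Function.update c r t, fun x hx => ?_, ?_⟩
    · by_cases e : x = r
      · rw [e, Function.update_self, ht0 (e ▸ hx)]
      · rw [Function.update_of_ne e]
        exact hc0 x fun h => hx h.1
    · rw [Datum.lp_cons, Function.update_self, ← D.lp_congr (c := c)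
        fun x hx => (Function.update_of_ne (fun h : x = r => hrL (h ▸ hx)) _ _).symm, ← hc, mul_inv_cancel_left]

variable (D) in
/-- the coordinates at the roots of `B` -/
structure Crd (A B : Set (D.I → ℤ)) (κ : (D.I → ℤ) → Y → k) : Prop where
  root : ∀ a ∈ A, D.Rt a
  sub : B ⊆ A
  mul : ∀ b ∈ B, ∀ y ∈ D.S A, ∀ y' ∈ D.S A, κ b (y * y') = κ b y + κ b y'
  self : ∀ b ∈ B, ∀ s, κ b (D.x b s) = s
  ne : ∀ b ∈ B, ∀ a ∈ A, a ≠ b → ∀ s, κ b (D.x a s) = 0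
  ker : ∀ y ∈ D.S A, (∀ b ∈ B, κ b y = 0) → y ∈ D.S (A \ B)

theorem exists_crd (hC : CRel D C) {A B : Set (D.I → ℤ)} (hA : ∀ a ∈ A, D.Rt a) (lam : (D.I → ℤ) →+ ℤ)
    (hl : ∀ a ∈ A, 0 < lam a) (hB : B ⊆ A) (h : ∀ a ∈ A, ∀ a' ∈ A, a ≠ a' → C a a' ⊆ A \ B) : ∃ κ, Crd D A B κ := by
  classical
  obtain ⟨L, hL, hLA⟩ := exists_conv hA lam hl
  have hL' : ∀ a ∈ L, D.Rt a ∧ 0 < lam a := fun a ha => ⟨hA a ((hLA a).1 ha), hl a ((hLA a).1 ha)⟩
  have hcl : ∀ b ∈ B, ∀ a ∈ A, ∀ a' ∈ A, a ≠ a' → C a a' ⊆ A \ {b} := fun b hb a ha a' ha' hne c hc =>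
    ⟨(h a ha a' ha' hne hc).1, fun e => (h a ha a' ha' hne hc).2 (e ▸ hb)⟩
  have hz : ∀ b ∈ B, ∀ c, D.lp L c ∈ D.S (A \ {b}) → c b = 0 := fun b hb c hc => by
    obtain ⟨c', h0, e⟩ := exists_lp_cr hC lam hL hL' (fun a ha a' ha' => hcl b hb a ha.1 a' ha'.1)
      (fun a ha => (hLA a).2 ha.1) hc
    rw [D.lp_inj lam hL hL' e b ((hLA b).2 (hB hb))]
    exact h0 b fun h => h.2 rfl
  have hn : ∀ b ∈ B, ∀ u ∈ D.X b, ∀ v ∈ D.S (A \ {b}), u * v * u⁻¹ ∈ D.S (A \ {b}) := fun b hb u hu v hv =>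
    hC.conj (hA b (hB hb)) (fun a ha => ⟨hA a ha.1, ne_neg_of_pos (hl b (hB hb)) (hl a ha.1)⟩)
      (fun a ha => hcl b hb b (hB hb) a ha.1) hu hv
  have hx : ∀ b ∈ B, ∀ t, D.x b t ∈ D.S (A \ {b}) → t = 0 := fun b hb t ht => by
    have hb1 : D.Cl {b} := ⟨fun a ha => hA a (ha ▸ hB hb), by
      rintro x rfl y rfl z ⟨hz, m, i, j, hm, hi, hj, e⟩
      exact eq_of_cross hz (hA _ (hB hb)) hm (add_pos hi hj) (by rw [e, add_smul])⟩
    obtain ⟨c, h0, e⟩ := D.exists_lp lam hL hL' hb1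
      (fun a ha => (hLA a).2 (ha ▸ hB hb)) (x_mem_S (A := {b}) rfl (hA b (hB hb)) t)
    have h1 := hz b hb c (e ▸ ht)
    have h2 : D.lp L c = 1 := by
      have : D.lp L c ∈ (⊥ : Subgroup Y) := D.lp_mem (fun a ha => (hL' a ha).1) fun a _ h3 =>
        absurd (by by_cases h4 : a = b; exacts [h4 ▸ h1, h0 a h4]) h3
      exact this
    exact (D.x_eq_one_iff (hA b (hB hb))).1 (e.trans h2)
  have huniq : ∀ b ∈ B, ∀ y t t', (D.x b t)⁻¹ * y ∈ D.S (A \ {b}) → (D.x b t')⁻¹ * y ∈ D.S (A \ {b}) → t = t' :=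
    fun b hb y t t' h1 h2 => by
      have h3 := mul_mem h1 (inv_mem h2)
      rw [show (D.x b t)⁻¹ * y * ((D.x b t')⁻¹ * y)⁻¹ = (D.x b t)⁻¹ * D.x b t' by group,
        ← D.x_neg (hA b (hB hb)), ← D.x_add b (hA b (hB hb))] at h3
      linear_combination -(hx b hb _ h3)
  let κ : (D.I → ℤ) → Y → k := fun b y => if h : ∃ t, (D.x b t)⁻¹ * y ∈ D.S (A \ {b}) then h.choose else 0
  have hκ : ∀ b ∈ B, ∀ y ∈ D.S A, (D.x b (κ b y))⁻¹ * y ∈ D.S (A \ {b}) := fun b hb y hy => by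
    obtain ⟨t, -, ht⟩ := exists_split (hA b (hB hb)) hA (hn b hb) hy
    have h1 : ∃ t, (D.x b t)⁻¹ * y ∈ D.S (A \ {b}) := ⟨t, ht⟩
    simp only [κ, dif_pos h1]
    exact h1.choose_spec
  refine ⟨κ, hA, hB, fun b hb y hy y' hy' => huniq b hb _ _ _ (hκ b hb _ (mul_mem hy hy')) ?_,
    fun b hb s => huniq b hb _ _ _ (hκ b hb _ (x_mem_S (hB hb) (hA b (hB hb)) s)) ?_,
    fun b hb a ha hne s => huniq b hb _ _ _ (hκ b hb _ (x_mem_S ha (hA a ha) s)) ?_, fun y hy h0 => ?_⟩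
  · have := mul_mem (hn b hb _ (inv_mem (D.x_mem (hA b (hB hb)) (κ b y'))) _ (hκ b hb y hy)) (hκ b hb y' hy')
    rw [D.x_add b (hA b (hB hb))]
    convert this using 1
    group
  · rw [inv_mul_cancel]; exact one_mem _
  · rw [D.x_zero (hA b (hB hb)), inv_one, one_mul]
    exact x_mem_S (A := A \ {b}) ⟨ha, hne⟩ (hA a ha) s
  · obtain ⟨c, hc0, rfl⟩ := exists_lp_cr hC lam hL hL' (fun a ha a' ha' hne c hc => (h a ha a' ha' hne hc).1)
      (fun a ha => (hLA a).2 ha) hy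
    refine D.lp_mem_S (fun a ha => (hL' a ha).1) fun a ha h1 => ⟨(hLA a).1 ha, fun hb => h1 (hz a hb c ?_)⟩
    have h2 := hκ a hb _ hy
    rwa [h0 a hb, D.x_zero (hL' a ha).1, inv_one, one_mul] at h2

theorem exists_crd_uni (hC : CRel D C) {A B : Set (D.I → ℤ)} (hA : D.Uni A) (hB : B ⊆ A)
    (h : ∀ a ∈ A, ∀ a' ∈ A, a ≠ a' → ∀ b ∈ B, b ∉ C a a') : ∃ κ, Crd D A B κ := by
  obtain ⟨lam, hl⟩ := hA.pos
  exact exists_crd hC hA.root lam hl hB fun a ha a' ha' hne c hc =>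
    ⟨hA.cl.btw a ha a' ha' c ((hC a a' (hA.root a ha) (hA.root a' ha') hne
      (ne_neg_of_pos (hl a ha) (hl a' ha'))).1 c hc), fun e => h a ha a' ha' hne c e hc⟩

theorem crel_btwn : CRel D fun a b => {c | Btwn D.cs D.h a b c} := fun _ _ ha hb h1 h2 =>
  ⟨fun _ hc => hc, fun _ hu _ hv => D.comm ha hb h1 h2 hu hv⟩

namespace Crd

variable {A B : Set (D.I → ℤ)} {κ : (D.I → ℤ) → Y → k} (H : Crd D A B κ)
include H

theorem one {b : D.I → ℤ} (hb : b ∈ B) : κ b 1 = 0 := by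
  have := H.mul b hb 1 (one_mem _) 1 (one_mem _)
  rw [mul_one] at this
  linear_combination -this

theorem inv {b : D.I → ℤ} (hb : b ∈ B) {y : Y} (hy : y ∈ D.S A) : κ b y⁻¹ = -κ b y := by
  have := H.mul b hb y hy y⁻¹ (inv_mem hy)
  rw [mul_inv_cancel, H.one hb] at this
  linear_combination -this

theorem conj {b : D.I → ℤ} (hb : b ∈ B) {u y : Y} (hu : u ∈ D.S A) (hy : y ∈ D.S A) : κ b (u * y * u⁻¹) = κ b y := by
  rw [H.mul b hb _ (mul_mem hu hy) _ (inv_mem hu), H.mul b hb _ hu _ hy, H.inv hb hu]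
  ring

theorem pow {b : D.I → ℤ} (hb : b ∈ B) {y : Y} (hy : y ∈ D.S A) (n : ℕ) : κ b (y ^ n) = n * κ b y := by
  induction n with
  | zero => rw [pow_zero, H.one hb, Nat.cast_zero, zero_mul]
  | succ n ih => rw [pow_succ, H.mul b hb _ (pow_mem hy n) _ hy, ih, Nat.cast_succ]; ring

theorem zero_of_mem {b : D.I → ℤ} (hb : b ∈ B) {A' : Set (D.I → ℤ)} (hA' : A' ⊆ A) (hb' : b ∉ A') {y : Y}
    (hy : y ∈ D.S A') : κ b y = 0 :=
  S_ind (fun a ha => H.root a (hA' ha)) (P := fun y => κ b y = 0) (H.one hb)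
    (fun a ha s => H.ne b hb a (hA' ha) (fun e => hb' (e ▸ ha)) s)
    (fun y hy y' hy' h1 h2 => by rw [H.mul b hb y (RGD.Sup_mono hA' hy) y' (RGD.Sup_mono hA' hy'), h1, h2, add_zero]) hy

/-- equivariance of the coordinates -/
theorem map (β : MulAut Y) {h : (D.I → ℤ) → (D.I → ℤ)} (hA : ∀ a ∈ A, h a ∈ A)
    (hx : ∀ a ∈ A, ∀ s, β (D.x a s) ∈ D.X (h a)) {b : D.I → ℤ} (hb : b ∈ B) (hb' : h b ∈ B)
    (hi : ∀ a ∈ A, h a = h b → a = b) {d : k} {j : ℕ} (hd : ∀ s, β (D.x b s) = D.x (h b) (d * s ^ p ^ j)) {y : Y}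
    (hy : y ∈ D.S A) : κ (h b) (β y) = d * κ b y ^ p ^ j := by
  have hp : p ^ j ≠ 0 := pow_ne_zero _ (Fact.out : p.Prime).ne_zero
  have hm : ∀ y ∈ D.S A, β y ∈ D.S A := fun y hy =>
    S_ind H.root (P := fun y => β y ∈ D.S A) (by rw [map_one]; exact one_mem _)
      (fun a ha s => RGD.le_Sup (X := D.X) (hA a ha) (hx a ha s))
      (fun y _ y' _ h1 h2 => by rw [map_mul]; exact mul_mem h1 h2) hy
  refine S_ind H.root (P := fun y => κ (h b) (β y) = d * κ b y ^ p ^ j) ?_ (fun a ha s => ?_)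
    (fun y hy y' hy' h1 h2 => ?_) hy
  · rw [map_one, H.one hb', H.one hb, zero_pow hp, mul_zero]
  · by_cases e : a = b
    · rw [e, hd, H.self _ hb', H.self _ hb]
    · obtain ⟨t, ht⟩ := (D.mem_X _ (H.root _ (hA a ha)) _).1 (hx a ha s)
      rw [← ht, H.ne _ hb' _ (hA a ha) (fun e' => e (hi a ha e')), H.ne _ hb a ha e, zero_pow hp, mul_zero]
  · rw [map_mul, H.mul _ hb' _ (hm y hy) _ (hm y' hy'), h1, h2, H.mul _ hb _ hy _ hy', add_pow_char_pow, mul_add]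

theorem tor {b : D.I → ℤ} (hb : b ∈ B) {t y : Y} (ht : t ∈ D.T) (hy : y ∈ D.S A) :
    κ b (t * y * t⁻¹) = D.χ b t * κ b y := by
  have := H.map (MulAut.conj t) (h := id) (fun _ ha => ha) (fun a ha s => by
    rw [MulAut.conj_apply, D.tor' (H.root a ha) ht]; exact D.x_mem (H.root a ha) _) hb hb (fun _ _ e => e)
    (d := D.χ b t) (j := 0) (fun s => by rw [MulAut.conj_apply, D.tor' (H.root b (H.sub hb)) ht, pow_zero, pow_one]; rfl) hy
  rwa [pow_zero, pow_one] at this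

theorem exists_val (t : (D.I → ℤ) → k) : ∃ y ∈ D.S A, ∀ b ∈ B, κ b y = t b := by
  have hf : B.Finite := D.finite_roots.subset fun b hb => H.root b (H.sub hb)
  suffices h : ∀ B' : Set (D.I → ℤ), B'.Finite → B' ⊆ B → ∃ y ∈ D.S A, ∀ b ∈ B', κ b y = t b from h B hf subset_rfl
  intro B' hB'
  induction B', hB' using Set.Finite.induction_on with
  | empty => exact fun _ => ⟨1, one_mem _, fun _ h => h.elim⟩
  | @insert a B' ha _ ih =>
    intro hs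
    obtain ⟨y, hy, h1⟩ := ih ((Set.subset_insert _ _).trans hs)
    have haB := hs (Set.mem_insert _ _)
    have hx := x_mem_S (H.sub haB) (H.root a (H.sub haB)) (t a - κ a y)
    refine ⟨_, mul_mem hy hx, ?_⟩
    rintro b (rfl | hb)
    · rw [H.mul b haB _ hy _ hx, H.self b haB]; ring
    · have hbB := hs (Set.mem_insert_of_mem _ hb)
      rw [H.mul b hbB _ hy _ hx, H.ne b hbB a (H.sub haB) (fun e => ha (e ▸ hb)), h1 b hb, add_zero]

end Crd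

open Classical in
variable (D) in
/-- the constants of `F` -/
noncomputable def cF (a : D.I → ℤ) : k := if h : D.Rt a then (D.F_x a h).choose else 1

theorem cF_ne (a : D.I → ℤ) : cF D a ≠ 0 := by
  unfold cF
  split_ifs with h
  · exact (D.F_x a h).choose_spec.1
  · exact one_ne_zero

theorem F_x {a : D.I → ℤ} (ha : D.Rt a) (u : k) : F (D.x a u) = D.x (D.g a) (cF D a * u ^ p ^ D.ex a) := by
  unfold cF
  rw [dif_pos ha]
  exact (D.F_x a ha).choose_spec.2 u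

variable [IsAlgClosed k]

theorem Crd.mapF {A B : Set (D.I → ℤ)} {κ : (D.I → ℤ) → Y → k} (H : Crd D A B κ) (hA : ∀ a ∈ A, D.g a ∈ A)
    {b : D.I → ℤ} (hb : b ∈ B) (hb' : D.g b ∈ B) {y : Y} (hy : y ∈ D.S A) :
    κ (D.g b) (F y) = cF D b * κ b y ^ p ^ D.ex b :=
  H.map F hA (fun a ha s => D.F_mem_X (H.root a ha) (D.x_mem (H.root a ha) s)) hb hb'
    (fun a ha e => D.g_inj (H.root a ha) (H.root b (H.sub hb)) e) (F_x (H.root b (H.sub hb))) hy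

/-- fixed elements with prescribed coordinates -/
theorem Crd.exists_fix {A B : Set (D.I → ℤ)} {κ : (D.I → ℤ) → Y → k} (H : Crd D A B κ) (hA : ∀ a ∈ A, D.g a ∈ A)
    (hB : ∀ b ∈ B, D.g b ∈ B) {t : (D.I → ℤ) → k} (ht : ∀ b ∈ B, t (D.g b) = cF D b * t b ^ p ^ D.ex b) :
    ∃ y ∈ D.S A, F y = y ∧ ∀ b ∈ B, κ b y = t b := by
  obtain ⟨y, hy, h1⟩ := H.exists_val t
  have hFy : F y ∈ D.S A := D.F_mem_S H.root hA hy
  have hb := D.g_bijOn (fun b hb => H.root b (H.sub hb)) hB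
  have h2 : y⁻¹ * F y ∈ D.S (A \ B) := H.ker _ (mul_mem (inv_mem hy) hFy) fun b hb' => by
    obtain ⟨a, ha, rfl⟩ := hb.surjOn hb'
    rw [H.mul _ hb' _ (inv_mem hy) _ hFy, H.inv hb' hy, H.mapF hA ha hb' hy, h1 _ hb', h1 a ha, ht a ha]
    ring
  obtain ⟨z, hz, e⟩ := D.lang_S (A := A \ B) (fun a ha => H.root a ha.1) (fun a ha => ⟨hA a ha.1, fun h => by
    obtain ⟨b, hb', e⟩ := hb.surjOn h
    exact ha.2 (D.g_inj (H.root b (H.sub hb')) (H.root a ha.1) e ▸ hb')⟩) h2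
  have hz' : z ∈ D.S A := RGD.Sup_mono Set.sdiff_subset hz
  refine ⟨y * z⁻¹, mul_mem hy (inv_mem hz'), ?_, fun b hb' => ?_⟩
  · rw [map_mul, map_inv, ← mul_inv_cancel_left y (F y), e]
    group
  · rw [H.mul b hb' _ hy _ (inv_mem hz'), H.zero_of_mem hb' Set.sdiff_subset (fun h => h.2 hb') (inv_mem hz), add_zero,
      h1 b hb']

end Cfsg.Agent.SB.Exc.Max
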