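import Cfsg.Agent.SB.Exc.Max.Iface
import Cfsg.Agent.SB.Exc.Crit.Main
import Cfsg.Agent.SB.Exc.CI.Red
import Cfsg.Agent.DS.Ex.TorFrame
import Cfsg.Agent.DS.Nt.Glue
import Cfsg.Agent.S0058

/-!
# S5765, `BoxMax` from the abstract form (helper64)

`he_grp` : coprime action on the Fitting subgroup; `gc`, `hyp`, `bad` : the hypotheses of `BoxMain`; `boxMax_of`.
-/

set_option autoImplicit false
set_option linter.unusedSectionVars false

namespace Cfsg.Agent.SB.Exc.Max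

open CoxeterSystem Cfsg Cfsg.Lie Cfsg.Lie.ChevalleyDatum
open Cfsg.Agent.ChevalleyStructure Cfsg.Agent.ChevalleyStructure.CoxeterGeom Cfsg.Agent.Tits.Roots
  Cfsg.Agent.Nodes.RGDChev Cfsg.Agent.KFacts.RgdChevCoord Cfsg.Agent.BpExc.TorChev Cfsg.Agent.BpExc.Fr
  Cfsg.Agent.BpExc.LangFr
open Cfsg.Agent.H469.Exc Cfsg.Agent.H316.U6 Cfsg.Agent.H129.TorusChar Cfsg.Agent.DS.Ex Cfsg.Agent.H786.FC
open Cfsg.Agent.SB.Exc.NT Cfsg.Agent.SB.Exc.Crit

section Grp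

variable {G : Type} [Group G] [Finite G] {S H : Subgroup G}

theorem nm_fit_of (hN : Nm S H) : Nm S (fit H) := by
  rintro s hs _ ⟨v, hv, rfl⟩
  let α : H ≃* H :=
    { toFun := fun g => ⟨s * g * s⁻¹, hN s hs _ g.2⟩
      invFun := fun g => ⟨s⁻¹ * g * s⁻¹⁻¹, hN _ (inv_mem hs) _ g.2⟩
      left_inv := fun g => Subtype.ext (by simp [mul_assoc])
      right_inv := fun g => Subtype.ext (by simp [mul_assoc])
      map_mul' := fun a b => Subtype.ext (by simp [mul_assoc]) }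
  have h1 : (fittingSubgroup H).map α.toMonoidHom ≤ fittingSubgroup H := by
    have hn : (fittingSubgroup H).Normal := Lib.Cores.fittingSubgroup_normal
    have hnil : Group.IsNilpotent (fittingSubgroup H) := Lib.Cores.fittingSubgroup_isNilpotent
    exact Lib.Cores.le_fittingSubgroup (hn.map _ α.surjective)
      (Group.nilpotent_of_surjective _ (α.toMonoidHom.subgroupMap_surjective _))
  exact ⟨α v, h1 (Subgroup.mem_map_of_mem _ hv), rfl⟩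

/-- **Coprime action of `E_{p²}` on the Fitting subgroup.** -/
theorem he_grp {p : ℕ} (hp : p.Prime) (hS : Group.IsSolvable S) (hH : H ≤ S) (hN : Nm S H)
    (hF : ∀ f ∈ fit S, f ∈ H → ∀ j : ℕ, f ^ p ^ j = 1 → f = 1) {a e : G} (ha : a ∈ H) (he : e ∈ H) (hap : a ^ p = 1)
    (hep : e ^ p = 1) (ha1 : a ≠ 1) (hc : a * e = e * a) (hz : e ∉ Subgroup.zpowers a) :
    ∃ e' ∈ Subgroup.closure {a, e}, e' ≠ 1 ∧ ∃ f ∈ H, f * e' = e' * f ∧ ∀ j : ℕ, (a⁻¹ * (f * a * f⁻¹)) ^ p ^ j ≠ 1 := by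
  have := Fact.mk hp
  have hle := NT.le_fit ((fit_le H).trans hH) (nm_fit_of hN) (fit_nilpotent H)
  have h1 : ∀ f ∈ fit H, ∀ j : ℕ, f ^ p ^ j = 1 → f = 1 := fun f hf => hF f (hle hf) (fit_le H hf)
  have hco : ∀ x ∈ ({a, e} : Set G), ∀ y ∈ ({a, e} : Set G), x * y = y * x := by
    rintro x (rfl | rfl) y (rfl | rfl)
    exacts [rfl, hc, hc.symm, rfl]
  have hE : Subgroup.closure {a, e} ≤ H := (Subgroup.closure_le _).2 (by
    rintro x (rfl | rfl)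
    exacts [ha, he])
  have hcomm : IsMulCommutative (Subgroup.closure ({a, e} : Set G)) := Subgroup.isMulCommutative_closure hco
  have hexp : ∀ x ∈ Subgroup.closure ({a, e} : Set G), x ^ p = 1 := fun x hx => by
    induction hx using Subgroup.closure_induction with
    | mem x hx =>
      rcases hx with rfl | rfl
      exacts [hap, hep]
    | one => exact one_pow p
    | mul x y hx hy h2 h3 =>
      rw [(show Commute x y from congrArg Subtype.val (hcomm.1.1 ⟨x, hx⟩ ⟨y, hy⟩)).mul_pow, h2, h3, one_mul]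
    | inv x _ h2 => rw [inv_pow, h2, inv_one]
  have haE : a ∈ Subgroup.closure ({a, e} : Set G) := Subgroup.subset_closure (Or.inl rfl)
  have hcyc : ¬ IsCyclic (Subgroup.closure ({a, e} : Set G)) := fun h => by
    have h2 : Nat.card (Subgroup.closure ({a, e} : Set G)) ∣ p := by
      rw [← IsCyclic.exponent_eq_card]
      exact Monoid.exponent_dvd_of_forall_pow_eq_one fun x => Subtype.ext (hexp x x.2)
    have h3 := Subgroup.eq_of_le_of_card_ge (Subgroup.zpowers_le.2 haE) (by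
      rw [Nat.card_zpowers, orderOf_eq_prime hap ha1]
      exact Nat.le_of_dvd hp.pos h2)
    exact hz (h3.ge (Subgroup.subset_closure (Or.inr rfl)))
  have hcop : (Nat.card (Subgroup.closure ({a, e} : Set G))).Coprime (Nat.card (fit H)) := by
    obtain ⟨n, hn⟩ := IsPGroup.iff_card.1 (show IsPGroup p (Subgroup.closure ({a, e} : Set G)) from
      fun x => ⟨1, Subtype.ext (by rw [pow_one]; exact hexp x x.2)⟩)
    rw [hn]
    refine (hp.coprime_iff_not_dvd.2 fun h => ?_).pow_left n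
    obtain ⟨x, hx⟩ := exists_prime_orderOf_dvd_card' p h
    have h2 : x = 1 := Subtype.ext (h1 x x.2 1 (by
      rw [pow_one]
      exact congrArg Subtype.val (hx ▸ pow_orderOf_eq_one x)))
    rw [h2, orderOf_one] at hx
    exact hp.ne_one hx.symm
  have h2 := S0058.result _ (fit H) hcyc (hE.trans (le_normalizer_of_conj fun s hs v hv => fit_conj hs hv)) hcop
  by_contra h
  push Not at h
  have h3 : fit H ≤ Subgroup.centralizer {a} := by
    rw [← h2]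
    refine iSup₂_le fun e' he' f hf => ?_
    obtain ⟨j, hj⟩ := h e' he'.1 he'.2 f (fit_le H hf.1) (Subgroup.mem_centralizer_singleton_iff.1 hf.2)
    have h4 : a⁻¹ * (f * a * f⁻¹) ∈ fit H := by
      rw [show a⁻¹ * (f * a * f⁻¹) = a⁻¹ * f * a⁻¹⁻¹ * f⁻¹ by group]
      exact mul_mem (fit_conj (inv_mem ha) hf.1) (inv_mem hf.1)
    have h5 := inv_mul_eq_one.1 (h1 _ h4 j hj)
    exact Subgroup.mem_centralizer_singleton_iff.2 (mul_inv_eq_iff_eq_mul.1 h5.symm)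
  have := Group.isSolvable_of_isSolvable_injective (f := Subgroup.inclusion hH) (Subgroup.inclusion_injective _)
  refine ha1 (h1 a (Subgroup.mem_map_of_mem H.subtype (x := ⟨a, ha⟩) (S0044.result ?_)) 1 (by rwa [pow_one]))
  exact Subgroup.mem_centralizer_iff.2 fun n hn =>
    Subtype.ext (Subgroup.mem_centralizer_singleton_iff.1 (h3 (Subgroup.mem_map_of_mem _ hn)))

end Grp

variable {D : ChevalleyDatum} {l : ℕ} {M : CoxeterMatrix (Fin l)} {hp : IsType D l M} {p : ℕ} [Fact p.Prime]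
  {q : ℕ} {G : Type} [Group G] [Finite G] {T S : Subgroup G}

open DS.Nt in
theorem gc (C : Ctx p T S) (F : XF hp p q T) :
    GC p F.L.σ (F.L.GH S) F.L.ι.range (im F.L (S ⊓ T)) (im F.L (fit S ⊓ T)) := by
  have h1 : ∀ M₀, Inv (F.L.GH S) M₀ → Nm S (pb F.L M₀) := fun M₀ hM => nm_of_le (norm_pb C.as.normal (F.L.inv_iff.2 hM))
  have h2 : ∀ M₀, Inv (F.L.GH S) M₀ → ¬ F.L.ι.range ≤ M₀ → pb F.L M₀ ≤ S := fun M₀ hM hK =>
    C.max.le_of_inv C.as (pb_le M₀) (fun e => hK (by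
      rintro _ ⟨x, rfl⟩
      exact coe_mem_pb.1 (e.ge x.2))) (h1 M₀ hM)
  refine ⟨F.L.σ_mem_GH C.as.normal C.as.cent S, fun φ hφ => F.L.σ_apply (F.L.GH_le S hφ), ?_, ?_, F.L.pel,
    fun y h => F.L.cent y fun x => h _ ⟨x, rfl⟩, ?_, ?_, ?_⟩
  · rintro _ ⟨x, rfl⟩
    exact F.L.fix x
  · rintro _ ⟨x, hx, rfl⟩
    exact F.L.conj_mem_GH C.as.normal C.as.cent hx.1
  · rintro M₀ hM hK _ hy ⟨x, rfl⟩
    exact ι_mem_im.2 ⟨h2 M₀ hM hK (coe_mem_pb.2 hy), x.2⟩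
  · intro M₀ hM hK a ha e he a1 e1 a2 e2 a3 hc hz
    obtain ⟨a, rfl⟩ := F.L.pel a a1 ⟨1, by rwa [pow_one]⟩
    obtain ⟨e, rfl⟩ := F.L.pel e e1 ⟨1, by rwa [pow_one]⟩
    have h3 : ∀ x : T, F.L.ι x ^ p = 1 → (x : G) ^ p = 1 := fun x h =>
      congrArg Subtype.val (F.L.inj (a₁ := x ^ p) (a₂ := 1) (by rw [map_pow, h, map_one]))
    obtain ⟨e', b1, b2, f, b3, b4, b5⟩ := he_grp Fact.out C.solv (h2 M₀ hM hK) (h1 M₀ hM)
      (fun f hf hf' j => eq_one_of_p (F := F) C hf (le_ID _ (pb_le M₀ hf'))) (coe_mem_pb.2 ha) (coe_mem_pb.2 he)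
      (h3 a a2) (h3 e e2) (fun h => a3 (by rw [show a = 1 from Subtype.ext h, map_one]))
      (congrArg Subtype.val (F.L.inj (a₁ := a * e) (a₂ := e * a) (by rw [map_mul, map_mul, hc])))
      (fun ⟨k, hk⟩ => hz ⟨k, by rw [show e = a ^ k from Subtype.ext hk.symm, map_zpow]⟩)
    obtain ⟨c1, c2⟩ := mem_pb.1 ((Subgroup.closure_le (pb F.L (Subgroup.closure {F.L.ι a, F.L.ι e}))).2 (by
      rintro x (rfl | rfl)
      exacts [coe_mem_pb.2 (Subgroup.subset_closure (Or.inl rfl)), coe_mem_pb.2 (Subgroup.subset_closure (Or.inr rfl))]) b1)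
    obtain ⟨c3, c4⟩ := mem_pb.1 b3
    refine ⟨_, c2, fun h => b2 (congrArg Subtype.val (F.L.inj (h.trans (map_one _).symm))), _, c4, F.L.fix _, ?_,
      fun j h => b5 j ?_⟩
    · rw [← map_mul, ← map_mul]
      exact congrArg _ (Subtype.ext b4)
    · rw [← map_inv, ← map_inv, ← map_mul, ← map_mul, ← map_mul, ← map_pow] at h
      exact congrArg Subtype.val (F.L.inj (h.trans (map_one _).symm))
  · rintro _ ⟨x, hx, rfl⟩ j h
    rw [← map_pow] at h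
    rw [show x = 1 from Subtype.ext (eq_one_of_p (F := F) C hx.1 (le_ID _ x.2)
      (congrArg Subtype.val (F.L.inj (h.trans (map_one _).symm)))), map_one]

variable (F : XF hp p q T)

theorem isFA_pos {φ : F.L.Γ} (h : 0 < F.deg φ) : ∃ ex, IsFA F.dat (φ : MulAut (YY D p)) ex := by
  obtain ⟨h1, y, g, ex, Mx, h2⟩ := F.pos φ h
  exact ⟨ex, y⁻¹, _, g, ⟨h1.conj_mul y, h2.root, h2.x, Mx, h2.τ⟩, by rw [map_inv, inv_mul_cancel_left]⟩

theorem isFA_frob {φ : F.L.Γ} {j : ℕ} (hj : 0 < j) (h : F.deg φ = F.κ * j) :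
    IsFA F.dat (φ : MulAut (YY D p)) fun _ => j := by
  obtain ⟨h1, y, g, h2⟩ := F.frob φ j h
  let D' := DL.Ex.chevFr hp (locFin p) hj (h1.conj_mul y) h2
  exact ⟨y⁻¹, _, g, ⟨D'.amb, D'.g_root, D'.F_x, D'.Mx, D'.F_τ⟩, by rw [map_inv, inv_mul_cancel_left]⟩

theorem deg_pos (φ : F.L.Γ) : ∃ n : ℕ, 0 < F.deg (φ * sg F ^ n) ∧ F.deg (φ * sg F ^ n) = F.deg φ + n * (F.κ * F.m.e) := by
  have h1 : ∀ n : ℕ, F.deg (φ * sg F ^ n) = F.deg φ + n * (F.κ * F.m.e) := fun n => by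
    rw [F.deg_mul, ← zpow_natCast, deg_zpow, deg_sg]
  refine ⟨(F.deg φ).natAbs + 1, ?_, h1 _⟩
  have h2 : (1 : ℤ) ≤ F.κ * F.m.e := by exact_mod_cast Nat.mul_pos (kappa_pos (F := F)) F.m.he
  have h3 := neg_le_abs (F.deg φ)
  rw [h1]
  push_cast
  nlinarith [abs_nonneg (F.deg φ)]

theorem coe_sg (φ : F.L.Γ) (n : ℕ) : ((φ * sg F ^ n : F.L.Γ) : MulAut (YY D p)) = φ * F.m.σ ^ n := by
  rw [← F.hσ]
  rfl

omit F in
theorem adj_id (f : (Fin l → ℤ) →+ ℤ) (a : Fin l → ℤ) : ∑ j, a j * f (sr j) = f a := by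
  conv_rhs => rw [IsMC.eq_sum_sr a, map_sum]
  exact Finset.sum_congr rfl fun j _ => (map_zsmul f _ _).symm

theorem hyp (hC : BoxMC) (hD : Typ D) (S : Subgroup G) : Hyp F.dat F.m.e (F.L.GH S) where
  he := F.m.he
  ex _ _ := rfl
  cz := DS.Ex.Tor.commZ hp p
  ir := hC.ir D l M hp hD
  adj f := ⟨_, adj_id (l := l) f⟩
  fa φ hφ := by
    obtain ⟨n, h, -⟩ := deg_pos F ⟨φ, F.L.GH_le S hφ⟩
    obtain ⟨ex, h1⟩ := isFA_pos F h
    rw [coe_sg] at h1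
    exact ⟨n, ex, h1⟩
  typ := by
    by_cases h : D = chevF4 → p = 2
    · exact Or.inl (hC.dc D l M hp hD p h)
    · push Not at h
      obtain ⟨rfl, h2⟩ := h
      refine Or.inr ⟨h2, hC.f4 l M hp, fun φ hφ => ?_⟩
      obtain ⟨n, h, -⟩ := deg_pos F ⟨φ, F.L.GH_le S hφ⟩
      obtain ⟨j, hj⟩ := Int.eq_ofNat_of_zero_le h.le
      have h1 := isFA_frob F (j := j) (by omega) (by
        rw [hj, F.hκ.resolve_right fun h => h2 h.2.1, Nat.cast_one, one_mul])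
      rw [coe_sg] at h1
      exact ⟨n, j, h1⟩

open DS.Nt in
theorem bad (C : Ctx p T S) {x : T} {φ : F.L.Γ} (h1 : F.L.π φ ∈ fit S) (h2 : (x : G)⁻¹ * F.L.π φ * x ∈ S) :
    Bad (F.L.GH S) (im F.L (S ⊓ T)) (im F.L (fit S ⊓ T)) (F.L.ι x) φ := by
  let ξ : F.L.Γ := ⟨MulAut.conj (F.L.ι x), F.L.full _ x (ind_iota x)⟩
  have h3 : F.L.π ξ = x := F.L.π_eq C.as.normal C.as.cent ξ (ind_iota x)
  refine ⟨F.L.mem_GH.2 ⟨φ.2, fit_le S h1⟩, F.L.mem_GH.2 ⟨(ξ⁻¹ * φ * ξ).2, ?_⟩, ?_⟩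
  · show F.L.π (ξ⁻¹ * φ * ξ) ∈ S
    rwa [map_mul, map_mul, map_inv, h3]
  · rintro _ ⟨r, hr, rfl⟩
    rw [act' C.as.normal, ← map_inv F.L.ι, ← map_mul]
    refine ι_mem_im.2 ⟨?_, Subtype.prop _⟩
    show F.L.π φ * r * (F.L.π φ)⁻¹ * (r : G)⁻¹ ∈ fit S
    rw [mul_assoc, mul_assoc, ← mul_assoc (r : G)]
    exact mul_mem h1 (fit_conj hr.1 (inv_mem h1))

theorem kinds (hC : BoxMC) (C : Ctx p T S) (he : F.m.e = 1) {c : G} (hc : c ∈ fit S) (hs : (orderOf c).Prime) :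
    ∃ φ : F.L.Γ, F.L.π φ = c ∧ (Inner p (φ : MulAut (YY D p)) ∨ Graph F.dat φ ∨ OddD F.dat φ) := by
  obtain ⟨φ₀, rfl⟩ := F.L.surj c
  have h0 : F.deg (sg F) = F.κ := by rw [deg_sg, he, Nat.cast_one, mul_one]
  by_cases h : (F.κ : ℤ) ∣ F.deg φ₀
  · obtain ⟨j, hj⟩ := h
    have h1 : F.deg (φ₀ * sg F ^ (-j)) = 0 := by
      rw [F.deg_mul, deg_zpow, h0, hj]
      ring
    have h2 : F.L.π (φ₀ * sg F ^ (-j)) = F.L.π φ₀ := by rw [map_mul, map_zpow, pi_sg C.as, one_zpow, mul_one]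
    refine ⟨_, h2, ?_⟩
    rcases F.alg _ h1 with ⟨y, hy⟩ | ⟨rfl, y, g, w, Φ, hg⟩
    · have h3 := ind_of_conj hy
      rw [h2] at h3
      have h4 := orderOf_ind C.as h3
      refine Or.inl ⟨y, _, hs, fun e => ?_, h4 ▸ pow_orderOf_eq_one y, fun e => ?_, hy⟩
      · rw [eq_one_of_p C hc ⟨y, h3⟩ (k := 1) (by rw [pow_one, ← orderOf_dvd_iff_pow_eq_one, e]), orderOf_one] at hs
        exact Nat.not_prime_one hs
      · rw [← h4, e, orderOf_one] at hs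
        exact Nat.not_prime_one hs
    · have h3 := isFA_frob F (φ := sg F * (φ₀ * sg F ^ (-j))) one_pos (by
        rw [F.deg_mul, h1, h0, Nat.cast_one, mul_one, add_zero])
      refine Or.inr (Or.inl ⟨hC.e6 l M hp, ?_, y, w, fun t ht => (Φ.tor t).2 ht, fun a ha u hu => ?_⟩)
      · rwa [Subgroup.coe_mul, show (sg F : MulAut (YY chevE6 p)) = F.m.σ from F.hσ] at h3
      · exact (congrArg (fun b => _ ∈ XX chevE6 l (KK p) b) (hg a)).mp ((Φ.map a ha u).2 hu)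
  · have h1 : F.κ = 2 := (F.hκ.resolve_left fun e => h (by rw [e]; exact one_dvd _)).2.2
    obtain ⟨n, h2, h3⟩ := deg_pos F φ₀
    obtain ⟨m, hm⟩ := Int.eq_ofNat_of_zero_le h2.le
    refine ⟨φ₀ * sg F ^ n, by rw [map_mul, map_pow, pi_sg C.as, one_pow, mul_one], Or.inr (Or.inr
      ⟨isFA_pos F h2, m, ?_, fun y => ?_⟩)⟩
    · rw [h1] at h h3
      rw [he] at h3
      rw [Nat.odd_iff]
      omega
    · have h4 := (F.frob ((φ₀ * sg F ^ n) * (φ₀ * sg F ^ n)) m (by rw [F.deg_mul, hm, h1, Nat.cast_ofNat, two_mul])).1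
      rw [pow_two, mul_assoc, ← mul_assoc _ (MulAut.conj y), mul_conj_eq, mul_assoc, ← mul_assoc, ← map_mul]
      exact CI.fq (by omega) (h4.conj_mul _)

/-- **`BoxMax` from the abstract form.** -/
theorem boxMax_of (hM : BoxMain) (hC : BoxMC) : BoxMax := by
  intro D l M hp hD p _ G _ _ T S C q F A₀ h0 hA ⟨z, h1, b, hb, h2⟩
  obtain ⟨he, _, ⟨x, rfl⟩, h⟩ := hM p (KK p) _ _ _ _ F.dat F.m.e _ _ _ _ A₀ (F.hσ ▸ gc C F) (hyp F hC hD S) h0
    (F.L.inv_iff.1 hA) ⟨z⁻¹, fun a ha => by rw [inv_inv]; exact h1 a ha, b, hb, fun a ha => by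
      obtain ⟨c, hc⟩ := (DL.Ex.mem_TT_iff hp _).1 (h1 a ha)
      rw [inv_inv, ← h2 a ha, ← hc]
      exact (F.dat.χ_τ b c).trans (DL.Ex.cX_tau hp c b).symm⟩
  refine ⟨x, x.2, fun v hv hx => ?_⟩
  by_contra h3
  obtain ⟨s, hs, hd⟩ := Nat.exists_prime_and_dvd (mt orderOf_eq_one_iff.1 fun e : (v : G) = 1 => h3 (Subtype.ext e))
  have h4 : (v : G) ^ (orderOf (v : G) / s) ∈ fit S := pow_mem (Subgroup.mem_map_of_mem S.subtype hv) _
  obtain ⟨φ, h5, h6⟩ := kinds F hC C he h4 (by rwa [orderOf_pow_orderOf_div (orderOf_pos _).ne' hd])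
  refine h φ (bad F C (h5 ▸ h4) ?_) h6
  have h7 := pow_mem (show (x : G)⁻¹ * v * (x : G)⁻¹⁻¹ ∈ S by rwa [inv_inv]) (orderOf (v : G) / s)
  rwa [conj_pow, inv_inv, ← h5] at h7

end Cfsg.Agent.SB.Exc.Max
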