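import Cfsg.Agent.SB.Exc.Defs
import Cfsg.Agent.Nodes.Coroot
import Cfsg.Agent.BpExc.FixRel

/-!
# S5765, `BoxMax`: the facts on root systems (interface, helper50)
-/

set_option autoImplicit false
set_option linter.unusedSectionVars false

namespace Cfsg.Agent.SB.Exc.Max

open CoxeterSystem Cfsg Cfsg.Lie Cfsg.Lie.ChevalleyDatum
open Cfsg.Agent.ChevalleyStructure Cfsg.Agent.ChevalleyStructure.Elts Cfsg.Agent.ChevalleyStructure.CoxeterGeom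
  Cfsg.Agent.ChevalleyStructure.CoxeterGeomTypes
open Cfsg.Agent.Tits.Roots Cfsg.Agent.Tits.Core Cfsg.Agent.Nodes Cfsg.Agent.Nodes.Reps Cfsg.Agent.Nodes.BNOf
  Cfsg.Agent.Nodes.RGDChev Cfsg.Agent.Nodes.Bruhat Cfsg.Agent.Nodes.Coroot
open Cfsg.Agent.KFacts.RgdField Cfsg.Agent.KFacts.RgdChevCoord
open Cfsg.Agent.BpExc Cfsg.Agent.BpExc.TorCent Cfsg.Agent.BpExc.TorChev Cfsg.Agent.BpExc.Tow
  Cfsg.Agent.BpExc.TowChev Cfsg.Agent.BpExc.Fr Cfsg.Agent.BpExc.LangFr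
open Cfsg.Agent.H469.Exc Cfsg.Agent.H316.U6 Cfsg.Agent.H129.TorusChar Cfsg.Agent.DS.Ex Cfsg.Agent.H786.FC

section Gen

variable {I W : Type*} [Fintype I] [DecidableEq I] [Group W] {M : CoxeterMatrix I}
  (cs : CoxeterSystem M W) {A : I → I → ℤ} (h : IsCartan M A)

/-- root groups of roots with non-negative inner product commute -/
def DC {Y : Type*} [Group Y] (X : (I → ℤ) → Subgroup Y) : Prop :=
  ∀ a b, IsRoot cs h a → IsRoot cs h b → 0 ≤ cpr cs h b a → ∀ u ∈ X a, ∀ v ∈ X b, u * v = v * u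

/-- every root has three neighbours -/
def IR3 : Prop := ∀ b, IsRoot cs h b → ∃ c₁ c₂ c₃, IsRoot cs h c₁ ∧ IsRoot cs h c₂ ∧ IsRoot cs h c₃ ∧
  c₁ ≠ c₂ ∧ c₁ ≠ c₃ ∧ c₂ ≠ c₃ ∧ cpr cs h c₁ b = 1 ∧ cpr cs h c₂ b = 1 ∧ cpr cs h c₃ b = 1

/-- long roots -/
def Lg (a : I → ℤ) : Prop := ∀ c, IsRoot cs h c → c ≠ a → cpr cs h c a ≤ 1

/-- facts on `F₄` -/
structure F4C : Prop where
  long : ∀ a c, IsRoot cs h a → IsRoot cs h c → c ≠ a → 2 ≤ cpr cs h c a → Lg cs h c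
  even : ∀ a b, IsRoot cs h a → IsRoot cs h b → ¬ Lg cs h a → Lg cs h b → Even (cpr cs h b a)
  pair : ∃ b b', IsRoot cs h b ∧ IsRoot cs h b' ∧ Lg cs h b ∧ Lg cs h b' ∧ cpr cs h b' b = 1
  short : ∃ a, IsRoot cs h a ∧ ¬ Lg cs h a
  add : ∀ a a', IsRoot cs h a → IsRoot cs h a' → ¬ Lg cs h a → ¬ Lg cs h a' → cpr cs h a' a = 0 → IsRoot cs h (a + a')

/-- facts on `E₆` -/
structure E6C : Prop where
  /-- simply laced -/
  symm : ∀ a b, IsRoot cs h a → IsRoot cs h b → cpr cs h a b = cpr cs h b a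
  /-- a symmetric set of mutually orthogonal roots to which no root is orthogonal is `4 A₁` in `D₄` -/
  orth : ∀ P : Set (I → ℤ), (∀ a ∈ P, IsRoot cs h a) → (∀ a ∈ P, -a ∈ P) →
    (∀ a ∈ P, ∀ b ∈ P, b = a ∨ b = -a ∨ cpr cs h b a = 0) →
    (∀ r, IsRoot cs h r → ∃ a ∈ P, cpr cs h r a ≠ 0) →
    (∃ f : (I → ℤ) →+ ℤ, f ≠ 0 ∧ ∀ a ∈ P, f a = 0) ∧
    ∃ a ∈ P, ∃ b ∈ P, ∃ c ∈ P, ∃ d ∈ P, ∃ r, IsRoot cs h r ∧ (2 : ℤ) • r = a + b + c + d ∧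
      cpr cs h a r = 1 ∧ cpr cs h b r = 1 ∧ cpr cs h c r = 1 ∧ a ≠ b ∧ a ≠ c ∧ b ≠ c
  /-- an `A₂` is orthogonal to an `A₂` -/
  perp : ∀ a b, IsRoot cs h a → IsRoot cs h b → cpr cs h a b = -1 → ∃ r r', IsRoot cs h r ∧ IsRoot cs h r' ∧
    cpr cs h r' r = -1 ∧ cpr cs h r a = 0 ∧ cpr cs h r b = 0 ∧ cpr cs h r' a = 0 ∧ cpr cs h r' b = 0
  /-- no element of `W` inverts an `A₂ + A₁` -/
  inv : ∀ (w : W) a b c, IsRoot cs h a → IsRoot cs h b → IsRoot cs h c → cpr cs h a b = -1 → cpr cs h c a = 0 →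
    cpr cs h c b = 0 → ¬ (rep cs h w a = -a ∧ rep cs h w b = -b ∧ rep cs h w c = -c)

end Gen

/-- [MC] the facts on the root systems and root groups -/
structure BoxMC : Prop where
  dc : ∀ (D : ChevalleyDatum) (l : ℕ) (M : CoxeterMatrix (Fin l)) (hp : IsType D l M), Typ D →
    ∀ (p : ℕ) [Fact p.Prime], (D = chevF4 → p = 2) → DC M.toCoxeterSystem hp.isCartan (XX D l (KK p))
  ir : ∀ (D : ChevalleyDatum) (l : ℕ) (M : CoxeterMatrix (Fin l)) (hp : IsType D l M), Typ D →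
    IR3 M.toCoxeterSystem hp.isCartan
  f4 : ∀ (l : ℕ) (M : CoxeterMatrix (Fin l)) (hp : IsType chevF4 l M), F4C M.toCoxeterSystem hp.isCartan
  e6 : ∀ (l : ℕ) (M : CoxeterMatrix (Fin l)) (hp : IsType chevE6 l M), E6C M.toCoxeterSystem hp.isCartan

end Cfsg.Agent.SB.Exc.Max
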