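import Cfsg.Agent.SB.Exc.Max.Root
import Cfsg.Agent.SB.Exc.Max.Defs
import Cfsg.Agent.SB.Exc.Card

/-!
# S5765, `BoxMax`: the abstract form (interface, helper50)

`Y` with a datum `D` of `σ` on `⊤`, `Γ` the lifts of the elements of `S`, `K = ι T`, `R = ι (S ⊓ T)`, `F0 = ι (F(S) ⊓ T)`.

* `FA D β h ex` : frame automorphisms, `FA.dat`, `FA.twist`, `FA.conj`;
* `HE`, `GC` : the group theoretic hypotheses; `Hyp` : the hypotheses on the datum, `Hyp.conj`;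
* `Sit` : an invariant subgroup `Z` of the torus; `Sit.str`, `Sit.inv_S`, `Sit.he`;
* boxes `BoxShape`, `BoxLoc` (shape of the invariant subsystems), `BoxPerp`, `BoxF4`, `BoxE6`, `BoxMain`.
-/

set_option autoImplicit false
set_option linter.unusedSectionVars false

namespace Cfsg.Agent.SB.Exc.Max

open CoxeterSystem Cfsg.Agent.ChevalleyStructure.CoxeterGeom Cfsg.Agent.Tits.Roots Cfsg.Agent.Nodes.Reps
  Cfsg.Agent.Nodes.BNOf Cfsg.Agent.Nodes.Bruhat Cfsg.Agent.LangThm Cfsg.Agent.Nodes.SubComb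
  Cfsg.Agent.Nodes.Coroot Cfsg.Agent.Nodes.Slope Cfsg.Agent.Nodes.NormalForm Cfsg.Agent.DL.Base Cfsg.Agent.DL
  Cfsg.Agent.BpExc.Zc
open scoped Pointwise commutatorElement

section Grp

variable {Y : Type} [Group Y]

/-- `M` is invariant under `Γ` -/
def Inv (Γ : Subgroup (MulAut Y)) (M : Subgroup Y) : Prop := ∀ φ ∈ Γ, ∀ m ∈ M, φ m ∈ M

/-- coprime action on the Fitting subgroup of `M ^ F` -/
def HE (p : ℕ) (F : MulAut Y) (M : Subgroup Y) : Prop :=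
  ∀ a ∈ M, ∀ e ∈ M, F a = a → F e = e → a ^ p = 1 → e ^ p = 1 → a ≠ 1 → a * e = e * a → e ∉ Subgroup.zpowers a →
    ∃ e' ∈ Subgroup.closure {a, e}, e' ≠ 1 ∧ ∃ f ∈ M, F f = f ∧ f * e' = e' * f ∧
      ∀ j : ℕ, (a⁻¹ * (f * a * f⁻¹)) ^ p ^ j ≠ 1

/-- the group theoretic context -/
structure GC (p : ℕ) (σ : MulAut Y) (Γ : Subgroup (MulAut Y)) (K R F0 : Subgroup Y) : Prop where
  σ_mem : σ ∈ Γ
  comm : ∀ φ ∈ Γ, ∀ y, σ (φ y) = φ (σ y)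
  fix : ∀ y ∈ K, σ y = y
  conj_mem : ∀ r ∈ R, MulAut.conj r ∈ Γ
  pel : ∀ u, σ u = u → (∃ j : ℕ, u ^ p ^ j = 1) → u ∈ K
  cent : ∀ y, (∀ x ∈ K, y * x = x * y) → y = 1
  inv : ∀ M, Inv Γ M → ¬ K ≤ M → ∀ y ∈ M, y ∈ K → y ∈ R
  he : ∀ M, Inv Γ M → ¬ K ≤ M → HE p σ M
  F0_pel : ∀ f ∈ F0, ∀ j : ℕ, f ^ p ^ j = 1 → f = 1

/-- `φ` lifts an element `c` of `F(S)` with `x⁻¹ c x ∈ S` -/
structure Bad (Γ : Subgroup (MulAut Y)) (R F0 : Subgroup Y) (x : Y) (φ : MulAut Y) : Prop where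
  mem : φ ∈ Γ
  mem' : (MulAut.conj x)⁻¹ * φ * MulAut.conj x ∈ Γ
  fit : ∀ r ∈ R, φ r * r⁻¹ ∈ F0

/-- inner automorphisms of prime order `≠ p` -/
def Inner (p : ℕ) (φ : MulAut Y) : Prop := ∃ (y : Y) (s : ℕ), s.Prime ∧ s ≠ p ∧ y ^ s = 1 ∧ y ≠ 1 ∧ φ = MulAut.conj y

end Grp

variable {p : ℕ} [Fact p.Prime] {k : Type} [Field k] [CharP k p] {Y : Type} [Group Y] {N : Type} [Fintype N]
  [DecidableEq N] {ρ : Y →* GL N k} {σ : MulAut Y} {G : Subgroup Y} [IsAlgClosed k]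

/-- frame automorphisms -/
structure FA (D : Datum p ρ σ G) (β : MulAut Y) (h : (D.I → ℤ) → (D.I → ℤ)) (ex : (D.I → ℤ) → ℕ) : Prop where
  amb : Amb p ρ β
  root : ∀ a, D.Rt a → D.Rt (h a)
  x : ∀ a, D.Rt a → ∃ c : k, c ≠ 0 ∧ ∀ u, β (D.x a u) = D.x (h a) (c * u ^ p ^ ex a)
  τ : ∃ Mx : Matrix D.R D.R ℤ, ∀ c, β (D.τ c) = D.τ (mon Mx c)

section FA

variable {D : Datum p ρ σ G} {β : MulAut Y} {h : (D.I → ℤ) → (D.I → ℤ)} {ex : (D.I → ℤ) → ℕ}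

/-- the datum of a frame automorphism -/
@[reducible] noncomputable def FA.dat (H : FA D β h ex) : Datum p ρ β G :=
  D.newF H.amb h ex H.root H.x H.τ.choose H.τ.choose_spec

theorem fa_self (D : Datum p ρ σ G) : FA D σ D.g D.ex := ⟨D.amb, D.g_root, D.F_x, D.Mx, D.F_τ⟩

theorem FA.congr (H : FA D β h ex) {ex' : (D.I → ℤ) → ℕ} (e : ∀ a, D.Rt a → ex a = ex' a) : FA D β h ex' :=
  ⟨H.amb, H.root, fun a ha => by rw [← e a ha]; exact H.x a ha, H.τ⟩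

theorem FA.twist (H : FA D β h ex) {m : Y} (hm : m ∈ D.NN) :
    FA D (MulAut.conj m * β) (fun a => D.act (D.pr m) (h a)) ex :=
  ⟨(H.dat.twist hm).amb, (H.dat.twist hm).g_root, (H.dat.twist hm).F_x, _, (H.dat.twist hm).F_τ⟩

theorem FA.conj (H : FA D β h ex) {y : Y} (hy : y ∈ G) (hF : y⁻¹ * σ y ∈ D.NN) :
    FA (D.conj hy hF) (MulAut.conj (y * (β y)⁻¹) * β) h ex := by
  refine ⟨H.amb.conj_mul _, H.root, fun a ha => ?_, ?_⟩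
  · obtain ⟨c, hc, e⟩ := H.x a ha
    refine ⟨c, hc, fun u => ?_⟩
    rw [Datum.conj_x, Datum.conj_x, ← e, MulAut.mul_apply, MulAut.conj_apply, map_mul, map_mul, map_inv]
    group
  · obtain ⟨Mx, e⟩ := H.τ
    refine ⟨Mx, fun c => ?_⟩
    rw [Datum.conj_tau, Datum.conj_tau, ← e, MulAut.mul_apply, MulAut.conj_apply, map_mul, map_mul, map_inv]
    group

end FA

/-- `ψ` is a frame automorphism up to an inner automorphism -/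
def IsFA (D : Datum p ρ σ G) (ψ : MulAut Y) (ex : (D.I → ℤ) → ℕ) : Prop :=
  ∃ y β h, FA D β h ex ∧ ψ = MulAut.conj y * β

theorem IsFA.conj {D : Datum p ρ σ G} {ψ : MulAut Y} {ex : (D.I → ℤ) → ℕ} (H : IsFA D ψ ex) {y : Y} (hy : y ∈ G)
    (hF : y⁻¹ * σ y ∈ D.NN) : IsFA (D.conj hy hF) ψ ex := by
  obtain ⟨z, β, h, H, rfl⟩ := H
  exact ⟨z * (y * (β y)⁻¹)⁻¹, _, h, H.conj hy hF, by rw [← mul_assoc, ← map_mul, inv_mul_cancel_right]⟩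

/-- `φ` acts on the roots as `-w`, up to an inner automorphism -/
def NegFr (D : Datum p ρ σ G) (φ : MulAut Y) : Prop :=
  ∃ (y : Y) (w : D.W), (∀ t ∈ D.T, (MulAut.conj y * φ) t ∈ D.T) ∧
    ∀ a, D.Rt a → ∀ u ∈ D.X a, (MulAut.conj y * φ) u ∈ D.X (-D.act w a)

theorem NegFr.conj {D : Datum p ρ σ G} {φ : MulAut Y} (H : NegFr D φ) {y : Y} (hy : y ∈ G)
    (hF : y⁻¹ * σ y ∈ D.NN) : NegFr (D.conj hy hF) φ := by
  obtain ⟨z, w, h1, h2⟩ := H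
  have e : ∀ t, y⁻¹ * (MulAut.conj (y * z * (φ y)⁻¹) * φ) t * y = (MulAut.conj z * φ) (y⁻¹ * t * y) := fun t => by
    show y⁻¹ * (y * z * (φ y)⁻¹ * φ t * (y * z * (φ y)⁻¹)⁻¹) * y = z * φ (y⁻¹ * t * y) * z⁻¹
    rw [map_mul, map_mul, map_inv]
    group
  refine ⟨y * z * (φ y)⁻¹, w, fun t ht => ?_, fun a ha u hu => ?_⟩
  · rw [Datum.conj_T, mem_cj] at ht ⊢
    rw [e]
    exact h1 _ ht
  · rw [Datum.conj_X, mem_cj] at hu ⊢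
    rw [e]
    exact h2 a ha _ hu

/-- graph automorphisms of `E₆` -/
def Graph (D : Datum p ρ σ G) (φ : MulAut Y) : Prop := E6C D.cs D.h ∧ IsFA D (σ * φ) (fun _ => 1) ∧ NegFr D φ

/-- automorphisms of odd degree of `F₄` in characteristic two -/
def OddD (D : Datum p ρ σ G) (φ : MulAut Y) : Prop :=
  (∃ ex, IsFA D φ ex) ∧ ∃ n, Odd n ∧ ∀ y : Y, Card.Fq p ρ ((MulAut.conj y * φ) ^ 2) n

/-- the hypotheses on the datum -/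
structure Hyp (D : Datum p ρ σ G) (e : ℕ) (Γ : Subgroup (MulAut Y)) : Prop where
  he : 0 < e
  ex : ∀ a, D.Rt a → D.ex a = e
  cz : CommZ D.cs D.h D.X
  ir : IR3 D.cs D.h
  adj : ∀ f : (D.I → ℤ) →+ ℤ, ∃ m : D.R → ℤ, ∀ a, ∑ j, D.wt a j * m j = f a
  fa : ∀ φ ∈ Γ, ∃ (n : ℕ) (ex : (D.I → ℤ) → ℕ), IsFA D (φ * σ ^ n) ex
  typ : DC D.cs D.h D.X ∨ (p ≠ 2 ∧ F4C D.cs D.h ∧ ∀ φ ∈ Γ, ∃ n j : ℕ, IsFA D (φ * σ ^ n) fun _ => j)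

theorem commZ_conj {D : Datum p ρ σ G} (H : CommZ D.cs D.h D.X) {y : Y} (hy : y ∈ G) (hF : y⁻¹ * σ y ∈ D.NN) :
    CommZ D.cs D.h (D.conj hy hF).X := fun a b ha hb h1 h2 u hu v hv => by
  have h3 := H a b ha hb h1 h2 _ (mem_cj.1 hu) _ (mem_cj.1 hv)
  show _ ∈ (D.conj hy hF).S _
  rw [Datum.conj_S, mem_cj]
  convert h3 using 1
  simp only [commutatorElement_def]
  group

theorem comm_cj {y u v : Y} (h : (y⁻¹ * u * y) * (y⁻¹ * v * y) = (y⁻¹ * v * y) * (y⁻¹ * u * y)) : u * v = v * u := by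
  calc u * v = y * ((y⁻¹ * u * y) * (y⁻¹ * v * y)) * y⁻¹ := by group
    _ = v * u := by rw [h]; group

theorem Hyp.conj {D : Datum p ρ σ G} {e : ℕ} {Γ : Subgroup (MulAut Y)} (H : Hyp D e Γ) {y : Y} (hy : y ∈ G)
    (hF : y⁻¹ * σ y ∈ D.NN) : Hyp (D.conj hy hF) e Γ where
  he := H.he
  ex := H.ex
  cz := commZ_conj H.cz hy hF
  ir := H.ir
  adj := H.adj
  fa φ hφ := by
    obtain ⟨n, ex, h⟩ := H.fa φ hφ
    exact ⟨n, ex, h.conj hy hF⟩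
  typ := by
    rcases H.typ with h | ⟨h1, h2, h3⟩
    · exact Or.inl fun a b ha hb h0 u hu v hv => comm_cj (h a b ha hb h0 _ (mem_cj.1 hu) _ (mem_cj.1 hv))
    · refine Or.inr ⟨h1, h2, fun φ hφ => ?_⟩
      obtain ⟨n, j, h⟩ := h3 φ hφ
      exact ⟨n, j, h.conj hy hF⟩

/-- an invariant subgroup of the torus on which a root is trivial -/
structure Sit (D : Datum p ρ σ ⊤) (e : ℕ) (Γ : Subgroup (MulAut Y)) (K R F0 Z : Subgroup Y) : Prop where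
  gc : GC p σ Γ K R F0
  hyp : Hyp D e Γ
  le : (Z : Set Y) ⊆ D.T
  ne : Z ≠ ⊥
  inv : Inv Γ Z
  rt : (D.Sz Z).Nonempty

namespace Sit

variable {D : Datum p ρ σ ⊤} {e : ℕ} {Γ : Subgroup (MulAut Y)} {K R F0 Z : Subgroup Y} (H : Sit D e Γ K R F0 Z)
include H

theorem g_mem {a : D.I → ℤ} (ha : a ∈ D.Sz Z) : D.g a ∈ D.Sz Z := D.g_mem_Sz H.le (H.inv σ H.gc.σ_mem) ha

/-- the form of the lifts -/
theorem str {ψ : MulAut Y} (hψ : ψ ∈ Γ) {ex : (D.I → ℤ) → ℕ} (h : IsFA D ψ ex) :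
    ∃ c ∈ D.S (D.Sz Z), ∃ β h, FA D β h ex ∧ ψ = MulAut.conj c * β ∧ ∀ z ∈ Z, β z ∈ Z := by
  obtain ⟨y, β, h, hβ, e⟩ := h
  obtain ⟨c, hc, m, hm, h1, h2⟩ := D.exists_conj_form (s := fun z : Z => β z) (t := fun z : Z => ψ z)
    (fun z => hβ.dat.F_mem_T (H.le z.2)) (fun z => H.le (H.inv ψ hψ z z.2)) (Subgroup.mem_top y)
    (fun z => by rw [e, MulAut.mul_apply, MulAut.conj_apply, inv_mul_cancel_right])
  have hr : Set.range (fun z : Z => ψ z) = Z := by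
    ext u
    constructor
    · rintro ⟨z, rfl⟩
      exact H.inv ψ hψ z z.2
    · intro hu
      exact ⟨⟨ψ⁻¹ u, H.inv _ (inv_mem hψ) u hu⟩, MulAut.apply_inv_self _ _ _⟩
  rw [hr] at hc
  refine ⟨c, hc, _, _, hβ.twist hm, by rw [e, h2, map_mul, mul_assoc], fun z hz => ?_⟩
  rw [MulAut.mul_apply, MulAut.conj_apply, h1 ⟨z, hz⟩, mul_inv_cancel_right]
  exact H.inv ψ hψ z hz

/-- invariance of a subgroup; `E` describes the exponents -/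
theorem inv_of {M : Subgroup Y} {E : ((D.I → ℤ) → ℕ) → Prop} (hE : E D.ex)
    (hΓ : ∀ φ ∈ Γ, ∃ (n : ℕ) (ex : (D.I → ℤ) → ℕ), E ex ∧ IsFA D (φ * σ ^ n) ex)
    (h1 : ∀ c ∈ D.S (D.Sz Z), ∀ m ∈ M, c * m * c⁻¹ ∈ M)
    (h2 : ∀ β h ex, E ex → FA D β h ex → (∀ z ∈ Z, β z ∈ Z) → ∀ m ∈ M, β m ∈ M) : Inv Γ M := by
  intro φ hφ m hm
  obtain ⟨n, ex, he, h⟩ := hΓ φ hφ
  obtain ⟨c, hc, β, h, hβ, e, hZ⟩ := H.str (mul_mem hφ (pow_mem H.gc.σ_mem n)) h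
  have hσ : ∀ m ∈ M, σ m ∈ M := h2 σ _ _ hE (fa_self D) (H.inv σ H.gc.σ_mem)
  have h3 : (σ ^ n)⁻¹ m ∈ M := by
    rcases Nat.eq_zero_or_pos n with rfl | hn
    · rwa [pow_zero, inv_one]
    · exact ((D.amb.pow hn).mem_iff (H := M) (fun y hy => pow_mem_of_maps hσ n hy) _).1
        (by rwa [MulAut.apply_inv_self])
  have h4 : φ m = (φ * σ ^ n) ((σ ^ n)⁻¹ m) := by rw [MulAut.mul_apply, MulAut.apply_inv_self]
  rw [h4, e]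
  exact h1 c hc _ (h2 β h ex he hβ hZ _ h3)

theorem inv_S {P : Set (D.I → ℤ)} (hP : ∀ a ∈ P, D.Rt a)
    (h1 : ∀ c ∈ D.S (D.Sz Z), ∀ m ∈ D.S P, c * m * c⁻¹ ∈ D.S P)
    (h2 : ∀ β h ex, FA D β h ex → (∀ z ∈ Z, β z ∈ Z) → ∀ a ∈ P, h a ∈ P) : Inv Γ (D.S P) :=
  H.inv_of (E := fun _ => True) trivial
    (fun φ hφ => by obtain ⟨n, ex, h⟩ := H.hyp.fa φ hφ; exact ⟨n, ex, trivial, h⟩) h1
    fun β h ex _ hβ hZ _ hm => hβ.dat.F_mem_S hP (h2 β h ex hβ hZ) hm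

theorem inv_M : Inv Γ (D.S (D.Sz Z)) :=
  H.inv_S D.Sz_root (fun _ hc _ hm => mul_mem (mul_mem hc hm) (inv_mem hc))
    fun _ _ _ hβ hZ _ ha => hβ.dat.g_mem_Sz H.le hZ ha

omit H in
theorem not_le (C : GC p σ Γ K R F0) {M : Subgroup Y} {z : Y} (hz : z ≠ 1) (h : ∀ m ∈ M, z * m = m * z) : ¬ K ≤ M :=
  fun hK => hz (C.cent z fun x hx => h x (hK hx))

theorem not_le_M : ¬ K ≤ D.S (D.Sz Z) := by
  obtain ⟨⟨z, hz⟩, h0⟩ := Subgroup.ne_bot_iff_exists_ne_one.1 H.ne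
  exact not_le H.gc (z := z) (fun e => h0 (Subtype.ext e)) fun m hm =>
    D.cen_le_centralizer H.le (D.S_le_cen _ hm) z hz

theorem he : HE p σ (D.S (D.Sz Z)) := H.gc.he _ H.inv_M H.not_le_M

end Sit

/-! ### the boxes -/

/-- root groups inside `P` commute when the inner product is non-negative -/
def DCon (D : Datum p ρ σ G) (P : Set (D.I → ℤ)) (θ : D.I → ℤ) : Prop :=
  ∀ c ∈ P, 0 ≤ cpr D.cs D.h c θ → ∀ u ∈ D.X θ, ∀ v ∈ D.X c, u * v = v * u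

/-- [SHAPE] the subsystem of `Z` has type `A₁ ^ a A₂ ^ b` -/
def BoxShape : Prop := ∀ (p : ℕ) [Fact p.Prime] (k : Type) [Field k] [CharP k p] [IsAlgClosed k] (Y : Type) [Group Y]
  (N : Type) [Fintype N] [DecidableEq N] (ρ : Y →* GL N k) (σ : MulAut Y) (G : Subgroup Y) (D : Datum p ρ σ G) (e : ℕ)
  (Z : Set Y), 0 < e → (∀ a, D.Rt a → D.ex a = e) → CommZ D.cs D.h D.X → Z ⊆ D.T → (∀ a ∈ D.Sz Z, D.g a ∈ D.Sz Z) →
    HE p σ (D.S (D.Sz Z)) → (∀ θ ∈ D.Sz Z, DCon D (D.Sz Z) θ) →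
      ((D.Sz Z).Nonempty → e = 1 ∧ ∃ y ∈ D.S (D.Sz Z), σ y = y ∧ y ^ p = 1 ∧ y ≠ 1) ∧ Shp D.cs D.h (D.Sz Z) ∧
      (Iso D.cs D.h (D.Sz Z) ∨ (p = 2 ∧ ∃ y ∈ D.S (D.Sz Z), σ y = y ∧ y ^ 4 = 1 ∧ y ^ 2 ≠ 1))

/-- [LOC] the same for a class `Q` of roots, `p` odd -/
def BoxLoc : Prop := ∀ (p : ℕ) [Fact p.Prime] (k : Type) [Field k] [CharP k p] [IsAlgClosed k] (Y : Type) [Group Y]
  (N : Type) [Fintype N] [DecidableEq N] (ρ : Y →* GL N k) (σ : MulAut Y) (G : Subgroup Y) (D : Datum p ρ σ G) (e : ℕ)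
  (Z : Set Y), 0 < e → (∀ a, D.Rt a → D.ex a = e) → CommZ D.cs D.h D.X → Z ⊆ D.T → (∀ a ∈ D.Sz Z, D.g a ∈ D.Sz Z) →
    HE p σ (D.S (D.Sz Z)) → p ≠ 2 → ∀ Q : (D.I → ℤ) → Prop, (∀ a, D.Rt a → Q a → Q (D.g a)) →
      (∀ w a, D.Rt a → Q a → Q (D.act w a)) → (∀ θ ∈ D.Sz Z, Q θ → DCon D (D.Sz Z) θ) →
        ∀ r ∈ D.Sz Z, Q r → Nb D.cs D.h (D.Sz Z) r = ∅

/-- the roots orthogonal to `P` -/
def Perp (D : Datum p ρ σ G) (P : Set (D.I → ℤ)) : Set (D.I → ℤ) := {b | D.Rt b ∧ ∀ a ∈ P, cpr D.cs D.h b a = 0}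

/-- [PERP] the roots orthogonal to the subsystem of `Z` -/
def BoxPerp : Prop := ∀ (p : ℕ) [Fact p.Prime] (k : Type) [Field k] [CharP k p] [IsAlgClosed k] (Y : Type) [Group Y]
  (N : Type) [Fintype N] [DecidableEq N] (ρ : Y →* GL N k) (σ : MulAut Y) (D : Datum p ρ σ ⊤) (e : ℕ)
  (Γ : Subgroup (MulAut Y)) (K R F0 Z : Subgroup Y), Sit D e Γ K R F0 Z → DC D.cs D.h D.X →
    Iso D.cs D.h (Perp D (D.Sz Z)) ∧ (p ≠ 2 → Perp D (D.Sz Z) = ∅)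

/-- [F4] `F₄` in odd characteristic does not occur -/
def BoxF4 : Prop := ∀ (p : ℕ) [Fact p.Prime] (k : Type) [Field k] [CharP k p] [IsAlgClosed k] (Y : Type) [Group Y]
  (N : Type) [Fintype N] [DecidableEq N] (ρ : Y →* GL N k) (σ : MulAut Y) (D : Datum p ρ σ ⊤) (e : ℕ)
  (Γ : Subgroup (MulAut Y)) (K R F0 Z : Subgroup Y), Sit D e Γ K R F0 Z → DC D.cs D.h D.X

/-- [E6] no element of `W(E₆)` inverts the subsystem of `Z` -/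
def BoxE6 : Prop := ∀ (p : ℕ) [Fact p.Prime] (k : Type) [Field k] [CharP k p] [IsAlgClosed k] (Y : Type) [Group Y]
  (N : Type) [Fintype N] [DecidableEq N] (ρ : Y →* GL N k) (σ : MulAut Y) (D : Datum p ρ σ ⊤) (e : ℕ)
  (Γ : Subgroup (MulAut Y)) (K R F0 Z : Subgroup Y), Sit D e Γ K R F0 Z → DC D.cs D.h D.X → E6C D.cs D.h →
    ∀ w : D.W, ¬ ∀ a ∈ D.Sz Z, D.act w a = -a

/-- [MAIN] -/
def BoxMain : Prop := ∀ (p : ℕ) [Fact p.Prime] (k : Type) [Field k] [CharP k p] [IsAlgClosed k] (Y : Type) [Group Y]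
  (N : Type) [Fintype N] [DecidableEq N] (ρ : Y →* GL N k) (σ : MulAut Y) (D : Datum p ρ σ ⊤) (e : ℕ)
  (Γ : Subgroup (MulAut Y)) (K R F0 Z : Subgroup Y), GC p σ Γ K R F0 → Hyp D e Γ → Z ≠ ⊥ → Inv Γ Z →
    (∃ x, (∀ z ∈ Z, x⁻¹ * z * x ∈ D.T) ∧ ∃ b, D.Rt b ∧ ∀ z ∈ Z, D.χ b (x⁻¹ * z * x) = 1) →
      e = 1 ∧ ∃ x ∈ K, ∀ φ, Bad Γ R F0 x φ → ¬ (Inner p φ ∨ Graph D φ ∨ OddD D φ)

end Cfsg.Agent.SB.Exc.Max
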