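import Cfsg.Agent.SB.Exc.Max.Iface

/-!
# S5765, `BoxMax`: `F₄` in odd characteristic does not occur (helper52)
-/

set_option autoImplicit false
set_option linter.unusedSectionVars false

namespace Cfsg.Agent.SB.Exc.Max

open CoxeterSystem Cfsg.Agent.ChevalleyStructure.CoxeterGeom Cfsg.Agent.Tits.Roots Cfsg.Agent.Nodes.Reps
  Cfsg.Agent.Nodes.BNOf Cfsg.Agent.Nodes.Bruhat Cfsg.Agent.LangThm Cfsg.Agent.Nodes.SubComb
  Cfsg.Agent.Nodes.Coroot Cfsg.Agent.Nodes.Slope Cfsg.Agent.Nodes.NormalForm Cfsg.Agent.DL.Base Cfsg.Agent.DL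
  Cfsg.Agent.BpExc.Zc
open scoped Pointwise commutatorElement

namespace FFour

variable {p : ℕ} [Fact p.Prime] {k : Type} [Field k] [CharP k p] {Y : Type} [Group Y] {N : Type} [Fintype N]
  [DecidableEq N] {ρ : Y →* GL N k} {σ : MulAut Y} {G : Subgroup Y} [IsAlgClosed k] {D : Datum p ρ σ G}

/-- root groups commute if no root with pairing at least two lies between them -/
theorem comm_of (hz : CommZ D.cs D.h D.X) {θ c : D.I → ℤ} (hθ : D.Rt θ) (hc : D.Rt c) (h0 : 0 ≤ cpr D.cs D.h c θ)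
    (h : ∀ i j : ℤ, D.Rt (i • θ + j • c) → i • θ + j • c ≠ θ → cpr D.cs D.h (i • θ + j • c) θ ≤ 1) {u v : Y}
    (hu : u ∈ D.X θ) (hv : v ∈ D.X c) : u * v = v * u := by
  by_cases h1 : θ = c
  · subst h1
    exact x_comm hθ hu hv
  have h2 : θ ≠ -c := fun e => by
    rw [neg_eq_iff_eq_neg.1 e.symm, cpr_neg', cpr_self _ _ hθ] at h0
    omega
  have h3 := hz θ c hθ hc h1 h2 u hu v hv
  have h4 : {z | ZB D.cs D.h θ c z} = ∅ := Set.eq_empty_of_forall_notMem fun z hz => by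
    obtain ⟨hr, i, j, hi, hj, rfl⟩ := hz
    have h5 : cpr D.cs D.h (i • θ + j • c) θ = i * 2 + j * cpr D.cs D.h c θ := by
      rw [cpr_add', cpr_smul', cpr_smul', cpr_self _ _ hθ]
    have h6 := mul_nonneg hj.le h0
    by_cases h7 : i • θ + j • c = θ
    · rw [h7, cpr_self _ _ hθ] at h5
      obtain rfl : i = 1 := by omega
      rw [one_smul, add_eq_left, smul_eq_zero] at h7
      exact h7.elim hj.ne' hc.ne_zero
    · have := h i j hr h7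
      omega
  rw [h4] at h3
  exact commutatorElement_eq_one_iff_mul_comm.1
    (Subgroup.mem_bot.1 (RGD.Sup_le (K := ⊥) (fun _ h => h.elim) h3))

theorem dcon_long (hz : CommZ D.cs D.h D.X) {Z : Set Y} {θ : D.I → ℤ} (hθ : θ ∈ D.Sz Z) (hl : Lg D.cs D.h θ) :
    DCon D (D.Sz Z) θ := fun _ hc h0 _ hu _ hv => comm_of hz hθ.1 hc.1 h0 (fun _ _ hr => hl _ hr) hu hv

theorem lg_act (w : D.W) {a : D.I → ℤ} (ha : D.Rt a) (hl : Lg D.cs D.h a) : Lg D.cs D.h (D.act w a) := fun c hc hne => by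
  rw [← act_act_inv D w c, cpr_rep _ _ _ _ ha]
  exact hl _ (hc.act _) fun e => hne (by rw [← e, act_act_inv])

variable {e : ℕ} (hex : ∀ a, D.Rt a → D.ex a = e)
include hex

theorem lg_g {a : D.I → ℤ} (ha : D.Rt a) : Lg D.cs D.h (D.g a) ↔ Lg D.cs D.h a := by
  constructor
  · intro hl c hc hne
    rw [← cpr_g hex hc ha]
    exact hl _ (D.g_root c hc) fun e => hne (D.g_inj hc ha e)
  · intro hl c hc hne
    obtain ⟨c, hc', rfl⟩ := D.g_surj hc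
    rw [cpr_g hex hc' ha]
    exact hl _ hc' fun e => hne (by rw [e])

omit hex in
variable (D) in
/-- the elements of the torus on which the long roots and the roots trivial on `Z` are trivial -/
def Zl (Z : Set Y) : Set Y := {t | t ∈ D.T ∧ ∀ b, D.Rt b → Lg D.cs D.h b ∨ b ∈ D.Sz Z → D.χ b t = 1}

theorem zl_F {Z : Set Y} (hF : ∀ a ∈ D.Sz Z, D.g a ∈ D.Sz Z) : ∀ t ∈ Zl D Z, σ t ∈ Zl D Z := by
  rintro t ⟨ht, h⟩
  refine ⟨D.F_mem_T ht, fun b hb h1 => ?_⟩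
  rcases h1 with h1 | h1
  · obtain ⟨b, hb', rfl⟩ := D.g_surj hb
    rw [D.χ_F hb' ht, h b hb' (Or.inl ((lg_g hex hb').1 h1)), one_pow]
  · obtain ⟨b, hb', rfl⟩ := (D.g_bijOn D.Sz_root hF).surjOn h1
    rw [D.χ_F hb'.1 ht, h b hb'.1 (Or.inr hb'), one_pow]

theorem nb_long (h : BoxLoc) (he : 0 < e) (hz : CommZ D.cs D.h D.X) {Z : Set Y} (hZ : Z ⊆ D.T)
    (hF : ∀ a ∈ D.Sz Z, D.g a ∈ D.Sz Z) (hE : HE p σ (D.S (D.Sz Z))) (hp : p ≠ 2) {r : D.I → ℤ} (hr : r ∈ D.Sz Z)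
    (hl : Lg D.cs D.h r) : Nb D.cs D.h (D.Sz Z) r = ∅ :=
  h p k Y N ρ σ G D e Z he hex hz hZ hF hE hp (Lg D.cs D.h) (fun _ ha => (lg_g hex ha).2) (fun w _ => lg_act w)
    (fun _ => dcon_long hz) r hr hl

theorem iso (h : BoxLoc) (he : 0 < e) (hz : CommZ D.cs D.h D.X) {Z : Set Y} (hZ : Z ⊆ D.T)
    (hF : ∀ a ∈ D.Sz Z, D.g a ∈ D.Sz Z) (hE : HE p σ (D.S (D.Sz Z))) (hp : p ≠ 2) (h4 : F4C D.cs D.h) :
    Iso D.cs D.h (D.Sz Z) := fun r hr => by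
  refine h p k Y N ρ σ G D e Z he hex hz hZ hF hE hp (fun _ => True) (fun _ _ _ => trivial) (fun _ _ _ _ => trivial)
    (fun θ hθ _ c hc h0 u hu v hv => comm_of hz hθ.1 hc.1 h0 (fun i j hr hne => ?_) hu hv) r hr trivial
  by_contra h1
  have h2 : i • θ + j • c ∈ D.Sz Z :=
    ⟨hr, (D.Lam Z).add_mem ((D.Lam Z).zsmul_mem hθ.2 i) ((D.Lam Z).zsmul_mem hc.2 j)⟩
  have h3 : θ ∈ Nb D.cs D.h (D.Sz Z) (i • θ + j • c) := ⟨hθ, hne.symm, (cpr_pos_comm hr hθ.1).1 (by omega)⟩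
  rw [nb_long hex h he hz hZ hF hE hp h2 (h4.long θ _ hθ.1 hr hne (by omega))] at h3
  exact h3

omit hex in
theorem exists_short {Z : Set Y} (h4 : F4C D.cs D.h) (hI : Iso D.cs D.h (D.Sz Z)) :
    ∃ a, D.Rt a ∧ ∀ b, D.Rt b → Lg D.cs D.h b ∨ b ∈ D.Sz Z → Even (cpr D.cs D.h b a) := by
  by_cases h1 : ∃ a ∈ D.Sz Z, ¬ Lg D.cs D.h a
  · obtain ⟨a, ha, hs⟩ := h1
    refine ⟨a, ha.1, fun b hb h2 => ?_⟩
    by_cases h3 : Lg D.cs D.h b
    · exact h4.even a b ha.1 hb hs h3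
    have hb' := h2.resolve_left h3
    rcases hI.orth (fun _ => D.Sz_neg) ha hb' with rfl | rfl | h5
    · rw [cpr_self _ _ hb]
      exact even_two
    · rw [cpr_neg', cpr_self _ _ ha.1]
      exact even_two.neg
    · rw [h5]
      exact Even.zero
  · push Not at h1
    obtain ⟨a, ha, hs⟩ := h4.short
    exact ⟨a, ha, fun b hb h2 => h4.even a b ha hb hs (h2.elim id (h1 b))⟩

omit hex in
theorem exists_zl {Z : Set Y} (hp : p ≠ 2) (h3 : IR3 D.cs D.h) (h4 : F4C D.cs D.h) (hI : Iso D.cs D.h (D.Sz Z)) :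
    ∃ z ∈ Zl D Z, z ≠ 1 := by
  obtain ⟨a, ha, h⟩ := exists_short h4 hI
  have h1 : ∀ b, D.χ b (D.τ (coch (D.cor a) (-1))) = (-1) ^ cpr D.cs D.h b a := fun b => by
    rw [D.χ_τ, chr_coch, D.pair_cor ha, Units.val_zpow_eq_zpow_val, Units.val_neg, Units.val_one]
  refine ⟨_, ⟨D.τ_mem (coch (D.cor a) (-1)), fun b hb h2 => by rw [h1, (h b hb h2).neg_one_zpow]⟩, fun e => ?_⟩
  obtain ⟨c, -, -, -, -, -, -, -, -, hc, -⟩ := h3 a ha
  have h2 := h1 c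
  rw [e, D.χ_one, hc, zpow_one] at h2
  have h5 : ((2 : ℕ) : k) = 0 := by
    rw [Nat.cast_ofNat, ← one_add_one_eq_two]
    exact add_eq_zero_iff_eq_neg.2 h2
  exact hp ((Nat.prime_dvd_prime_iff_eq Fact.out Nat.prime_two).1 ((CharP.cast_eq_zero_iff k p 2).1 h5))

end FFour

open FFour in
theorem boxF4_of (h : BoxLoc) : BoxF4 := by
  intro p _ k _ _ _ Y _ N _ _ ρ σ D e Γ K R F0 Z H
  rcases H.hyp.typ with h0 | ⟨hp, h4, hΓ⟩
  · exact h0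
  exfalso
  obtain ⟨z, hz, hz1⟩ := exists_zl hp H.hyp.ir h4
    (iso H.hyp.ex h H.hyp.he H.hyp.cz H.le (fun _ => H.g_mem) H.he hp h4)
  have hZ : Zl D Z ⊆ D.T := fun _ ht => ht.1
  have hs : ∀ b, D.Rt b → Lg D.cs D.h b ∨ b ∈ D.Sz Z → b ∈ D.Sz (Zl D Z) := fun b hb h1 => ⟨hb, fun t ht => ht.2 b hb h1⟩
  have hI : Inv Γ (D.S (D.Sz (Zl D Z))) := by
    refine H.inv_of (E := fun ex => ∃ j, ∀ a, D.Rt a → ex a = j) ⟨e, H.hyp.ex⟩ (fun φ hφ => ?_) (fun c hc m hm => ?_) ?_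
    · obtain ⟨n, j, h1⟩ := hΓ φ hφ
      exact ⟨n, _, ⟨j, fun _ _ => rfl⟩, h1⟩
    · have h1 : c ∈ D.S (D.Sz (Zl D Z)) := RGD.Sup_mono (fun b hb => hs b hb.1 (Or.inr hb)) hc
      exact mul_mem (mul_mem h1 hm) (inv_mem h1)
    · rintro β g ex ⟨j, hj⟩ hβ hZ' m hm
      exact hβ.dat.F_mem_S D.Sz_root (fun a ha => hβ.dat.g_mem_Sz hZ
        (zl_F (D := hβ.dat) hj fun a ha => hβ.dat.g_mem_Sz H.le hZ' ha) ha) hm
  have hE := H.gc.he _ hI (Sit.not_le H.gc hz1 fun m hm => D.cen_le_centralizer hZ (D.S_le_cen _ hm) z hz)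
  obtain ⟨b, b', hb, hb', l, l', h1⟩ := h4.pair
  have h2 : b' ∈ Nb D.cs D.h (D.Sz (Zl D Z)) b :=
    ⟨hs b' hb' (Or.inl l'), fun e => by rw [e, cpr_self _ _ hb] at h1; omega, by omega⟩
  rw [nb_long H.hyp.ex h H.hyp.he H.hyp.cz hZ (fun a ha => D.g_mem_Sz hZ (zl_F H.hyp.ex fun _ => H.g_mem) ha) hE hp
    (hs b hb (Or.inl l)) l] at h2
  exact h2

end Cfsg.Agent.SB.Exc.Max
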