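import Cfsg.Agent.SB.Exc.Max.Ext

/-!
# S5765, `BoxMax`: the shape of the invariant subsystems (helper50)

`boxShape : BoxShape`, `boxLoc : BoxLoc`, `cov` (every positive root is dominant or one of the two neighbours of a dominant
root).
-/

set_option autoImplicit false
set_option linter.unusedSectionVars false
set_option linter.unusedVariables false

namespace Cfsg.Agent.SB.Exc.Max

open CoxeterSystem Cfsg.Agent.ChevalleyStructure.CoxeterGeom Cfsg.Agent.Tits.Roots Cfsg.Agent.Nodes.Reps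
  Cfsg.Agent.Nodes.BNOf Cfsg.Agent.Nodes.Bruhat Cfsg.Agent.LangThm Cfsg.Agent.Nodes.SubComb
  Cfsg.Agent.Nodes.Coroot Cfsg.Agent.Nodes.Slope Cfsg.Agent.Nodes.NormalForm Cfsg.Agent.DL.Base Cfsg.Agent.DL
  Cfsg.Agent.BpExc.Zc
open scoped Pointwise commutatorElement

attribute [local instance] fintypeSmp decSmp

variable {p : ℕ} [Fact p.Prime] {k : Type} [Field k] [CharP k p] {Y : Type} [Group Y] {N : Type} [Fintype N]
  [DecidableEq N] {ρ : Y →* GL N k} {F : MulAut Y} {G : Subgroup Y} [IsAlgClosed k] {D : Datum p ρ F G}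

theorem conj_mem_roots {y : Y} (hy : y ∈ G) : ∀ m ∈ D.S {a | D.Rt a}, y * m * y⁻¹ ∈ D.S {a | D.Rt a} := by
  obtain ⟨w, u, hu, n, hn, v, hv, rfl⟩ := D.exists_normal_form hy
  intro m hm
  have h0 : D.U ≤ D.S {a | D.Rt a} := RGD.Sup_mono fun _ h => h.1
  have h1 := h0 (D.NW_le_U w hv)
  have h2 := D.conj_mem_S (S' := {a | D.Rt a}) hn (fun _ h => h) (fun a ha => IsRoot.act ha w)
    (mul_mem (mul_mem h1 hm) (inv_mem h1))
  have h3 := mul_mem (mul_mem (h0 hu) h2) (inv_mem (h0 hu))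
  convert h3 using 1
  group

theorem conj_S_roots {y : Y} (hy : y ∈ G) (hF : y⁻¹ * F y ∈ D.NN) :
    (D.conj hy hF).S {a | D.Rt a} = D.S {a | D.Rt a} := by
  rw [Datum.conj_S]
  ext m
  rw [mem_cj]
  refine ⟨fun h => ?_, fun h => ?_⟩
  · have := conj_mem_roots hy _ h
    rwa [show y * (y⁻¹ * m * y) * y⁻¹ = m by group] at this
  · have := conj_mem_roots (inv_mem hy) _ h
    rwa [inv_inv] at this

theorem act_inj (w : D.W) {a b : D.I → ℤ} (h : D.act w a = D.act w b) : a = b := by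
  rw [← act_inv_act D w a, h, act_inv_act]

theorem act_mem_nb (w : D.W) {r c : D.I → ℤ} (hr : D.Rt r) (hc : c ∈ Nb D.cs D.h {a | D.Rt a} r) :
    D.act w c ∈ Nb D.cs D.h {a | D.Rt a} (D.act w r) :=
  ⟨IsRoot.act hc.1 w, fun e => hc.2.1 (act_inj w e), by rw [cpr_act w c hr]; exact hc.2.2⟩

theorem EC.nb {e : ℕ} {θ s : D.I → ℤ} (H : EC D e θ) (hs : s ∈ Nb D.cs D.h {a | D.Rt a} θ) :
    θ = s + D.g s ∧ D.g (D.g s) = s ∧ cpr D.cs D.h s θ = 1 ∧ ¬ Cm D s (D.g s) ∧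
      (∀ c, c ∈ Nb D.cs D.h {a | D.Rt a} θ ↔ c = s ∨ c = D.g s) ∧ p = 2 ∧ ∃ y ∈ D.U, F y = y ∧ y ^ 4 = 1 ∧ y ^ 2 ≠ 1 := by
  obtain ⟨-, hg, -, h | ⟨hp, b, h1, h2, h3, h4, h5, h6⟩⟩ := H.ext
  · rw [h] at hs
    exact hs.elim
  have hb : b ∈ Nb D.cs D.h {a | D.Rt a} θ := by rw [h1]; exact Or.inl rfl
  rw [h1] at hs ⊢
  rcases hs with rfl | rfl
  · exact ⟨h3, h2, h4, h5, fun _ => Iff.rfl, hp, h6⟩
  · rw [h2]
    refine ⟨by rw [add_comm, ← h3], rfl, ?_, fun h => h5 fun u hu v hv => (h v hv u hu).symm, fun _ => or_comm, hp, h6⟩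
    conv_lhs => rw [← hg]
    rw [cpr_g H.ex hb.1 H.root, h4]

theorem shape_qs {e : ℕ} (hq : D.QS) (he : 0 < e) (hex : ∀ a, D.Rt a → D.ex a = e) (cz : CommZ D.cs D.h D.X)
    (hE : HE p F (D.S {a | D.Rt a})) {Q : (D.I → ℤ) → Prop} (hg : ∀ a, D.Rt a → Q a → Q (D.g a))
    (hdc : ∀ θ, D.Rt θ → Q θ → DCon D {a | D.Rt a} θ) {θ : D.I → ℤ} (hθ : D.Rt θ) (hQ : Q θ) (hd : Dom D.A θ) :
    EC D e θ := by
  refine ⟨hq, he, hex, cz, hE, hθ, hd, fun i => hdc _ (D.iterate_g_root i hθ) ?_⟩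
  induction i with
  | zero => exact hQ
  | succ i ih =>
    rw [Function.iterate_succ_apply']
    exact hg _ (D.iterate_g_root i hθ) ih

theorem shape0 {e : ℕ} (he : 0 < e) (hex : ∀ a, D.Rt a → D.ex a = e) (cz : CommZ D.cs D.h D.X)
    (hE : HE p F (D.S {a | D.Rt a})) {Q : (D.I → ℤ) → Prop} (hg : ∀ a, D.Rt a → Q a → Q (D.g a))
    (hw : ∀ w a, D.Rt a → Q a → Q (D.act w a)) (hdc : ∀ θ, D.Rt θ → Q θ → DCon D {a | D.Rt a} θ) {r : D.I → ℤ}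
    (hr : D.Rt r) (hQ : Q r) : (e = 1 ∧ ∃ y ∈ D.S {a | D.Rt a}, F y = y ∧ y ^ p = 1 ∧ y ≠ 1) ∧
      ∀ s ∈ Nb D.cs D.h {a | D.Rt a} r, cpr D.cs D.h s r = 1 ∧
        (∃ s', ∀ c ∈ Nb D.cs D.h {a | D.Rt a} r, c = s ∨ c = s') ∧
        p = 2 ∧ ∃ y ∈ D.S {a | D.Rt a}, F y = y ∧ y ^ 4 = 1 ∧ y ^ 2 ≠ 1 := by
  obtain ⟨z, hz, hF, hq⟩ := D.exists_qs
  obtain ⟨w, hd⟩ := Nodes.Comb.exists_dom_rep D.cs D.h r
  have H : EC (D.conj hz hF) e (D.act w r) := shape_qs hq he hex (commZ_conj cz hz hF)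
    (by rw [conj_S_roots hz hF]; exact hE) (Q := Q) (fun a ha h => hw _ _ (D.g_root a ha) (hg a ha h))
    (fun θ hθ h c hc h0 u hu v hv => comm_cj (hdc θ hθ h c hc h0 _ (mem_cj.1 hu) _ (mem_cj.1 hv))) (hr.act w)
    (hw w r hr hQ) hd
  have hU : (D.conj hz hF).U ≤ D.S {a | D.Rt a} := by
    rw [← conj_S_roots hz hF]
    exact RGD.Sup_mono fun _ h => h.1
  obtain ⟨h1, -, ⟨y, hy, h2⟩, -⟩ := H.ext
  refine ⟨⟨h1, y, hU hy, h2⟩, fun s hs => ?_⟩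
  obtain ⟨-, -, h3, -, h4, h5, y, hy, h6⟩ := H.nb (act_mem_nb w hr hs)
  refine ⟨by rw [← cpr_act w s hr]; exact h3, ⟨D.act w⁻¹ ((D.conj hz hF).g (D.act w s)), fun c hc => ?_⟩, h5, y, hU hy, h6⟩
  rcases (h4 _).1 (act_mem_nb w hr hc) with h | h
  · exact Or.inl (act_inj w h)
  · exact Or.inr (by rw [← h, act_inv_act])

theorem boxLoc : BoxLoc := by
  intro p _ k _ _ _ Y _ N _ _ ρ σ G D e Z he hex cz hZ hF hE hp Q hg hw hdc r hr hQ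
  obtain ⟨r, hr', rfl⟩ := exists_io hZ hF rfl hr
  rw [nb_io hZ hF rfl hr', Set.image_eq_empty, Set.eq_empty_iff_forall_notMem]
  intro s hs
  exact hp ((shape0 (D := D.sub hZ hF rfl) he (fun a ha => hex _ (io_mem hZ hF rfl ha).1) (commZ_sub hZ hF rfl cz)
    (by rw [sub_S_roots]; exact hE) (Q := fun c => Q (D.io Z c))
    (fun a ha h => by rw [D.sub_g hZ hF rfl ha]; exact hg _ (io_mem hZ hF rfl ha).1 h)
    (fun w a ha h => by rw [← D.act_subW hZ hF rfl]; exact hw _ _ (io_mem hZ hF rfl ha).1 h)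
    (fun θ hθ h => dcon_sub hZ hF rfl hθ (hdc _ (io_mem hZ hF rfl hθ) h)) hr' hQ).2 s hs).2.2.1

theorem boxShape : BoxShape := by
  intro p _ k _ _ _ Y _ N _ _ ρ σ G D e Z he hex cz hZ hF hE hdc
  have key := fun r hr => shape0 (D := D.sub hZ hF rfl) he (fun a ha => hex _ (io_mem hZ hF rfl ha).1)
    (commZ_sub hZ hF rfl cz) (by rw [sub_S_roots]; exact hE) (Q := fun _ => True) (fun _ _ _ => trivial)
    (fun _ _ _ _ => trivial) (fun θ hθ _ => dcon_sub hZ hF rfl hθ (hdc _ (io_mem hZ hF rfl hθ))) (r := r) hr trivial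
  refine ⟨?_, ?_, ?_⟩
  · rintro ⟨r, hr⟩
    obtain ⟨r, hr', rfl⟩ := exists_io hZ hF rfl hr
    rw [← sub_S_roots hZ hF rfl]
    exact (key r hr').1
  · rw [← shp_sub_iff hZ hF rfl]
    refine ⟨fun r hr c hc => ((key r hr).2 c hc).1, fun r hr c₁ h₁ c₂ h₂ c₃ h₃ => ?_⟩
    obtain ⟨s', h⟩ := ((key r hr).2 c₁ h₁).2.1
    rcases h c₂ h₂ with e₂ | e₂
    · exact Or.inl e₂.symm
    rcases h c₃ h₃ with e₃ | e₃
    · exact Or.inr (Or.inl e₃.symm)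
    · exact Or.inr (Or.inr (e₂.trans e₃.symm))
  · rw [← iso_sub_iff hZ hF rfl, or_iff_not_imp_left]
    intro h
    unfold Iso at h
    push Not at h
    obtain ⟨r, hr, s, hs⟩ := h
    rw [← sub_S_roots hZ hF rfl]
    exact ((key r hr).2 s hs).2.2

theorem cov0 {e : ℕ} (hq : D.QS) (he : 0 < e) (hex : ∀ a, D.Rt a → D.ex a = e) (cz : CommZ D.cs D.h D.X)
    (hE : HE p F (D.S {a | D.Rt a})) (hdc : DC D.cs D.h D.X) {a : D.I → ℤ} (ha : D.Rt a) (h0 : 0 ≤ a) :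
    ∃ θ, D.Rt θ ∧ Dom D.A θ ∧ D.g θ = θ ∧ (a = θ ∨ (θ = a + D.g a ∧ D.g (D.g a) = a)) := by
  have ec : ∀ θ, D.Rt θ → Dom D.A θ → EC D e θ := fun θ hθ hd => shape_qs hq he hex cz hE (Q := fun _ => True)
    (fun _ _ _ => trivial) (fun θ hθ _ c hc h0 => hdc θ c hθ hc h0) hθ trivial hd
  suffices h : ∃ θ, D.Rt θ ∧ Dom D.A θ ∧ (a = θ ∨ a ∈ Nb D.cs D.h {a | D.Rt a} θ) by
    obtain ⟨θ, h1, h2, h3⟩ := h
    exact ⟨θ, h1, h2, (ec θ h1 h2).ext.2.1, h3.imp_right fun h => ⟨((ec θ h1 h2).nb h).1, ((ec θ h1 h2).nb h).2.1⟩⟩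
  by_contra hc
  obtain ⟨a, ⟨ha, h0, hc⟩, hmax⟩ := Set.Finite.exists_maximalFor htHom
    {a | D.Rt a ∧ 0 ≤ a ∧ ¬ ∃ θ, D.Rt θ ∧ Dom D.A θ ∧ (a = θ ∨ a ∈ Nb D.cs D.h {a | D.Rt a} θ)}
    (D.finite_roots.subset fun _ h => h.1) ⟨a, ha, h0, hc⟩
  have h1 : ¬ Dom D.A a := fun h => hc ⟨a, ha, h, Or.inl rfl⟩
  unfold Dom at h1
  push Not at h1
  obtain ⟨i, hi⟩ := h1
  rw [← cpr_sr D.cs D.h] at hi
  have hs := isRoot_sr D.cs D.h i
  have hs0 : (0 : D.I → ℤ) ≤ sr i := sr_nonneg i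
  have hs1 : htHom (sr i : D.I → ℤ) = 1 := by
    show ∑ j, sr i j = 1
    simp [sr]
  generalize sr i = s at hi hs hs0 hs1
  obtain ⟨n, hn⟩ : ∃ n, cpr D.cs D.h a s = -n := ⟨-cpr D.cs D.h a s, by rw [neg_neg]⟩
  have h2 := isRoot_refl D.cs D.h ha hs
  rw [hn, neg_smul, sub_neg_eq_add] at h2
  have hn0 : 0 < n := by omega
  have h3 : htHom (a + n • s) = htHom a + n := by rw [map_add, map_zsmul, hs1, smul_eq_mul, mul_one]
  have h4 : ∃ θ, D.Rt θ ∧ Dom D.A θ ∧ (a + n • s = θ ∨ a + n • s ∈ Nb D.cs D.h {a | D.Rt a} θ) := by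
    by_contra h5
    have := hmax ⟨h2, add_nonneg h0 (smul_nonneg hn0.le hs0), h5⟩ (by omega)
    omega
  obtain ⟨θ, hθ, hd, h5 | h5⟩ := h4
  · have h6 : cpr D.cs D.h θ s = n := by rw [← h5, cpr_add', cpr_smul', hn, cpr_self _ _ hs]; ring
    have h7 : s ≠ θ := fun e => by
      rw [← e, cpr_self _ _ hs] at h6
      rw [← h6, ← e, two_smul, ← add_assoc, add_eq_right] at h5
      exact ne_neg_of_nonneg ha h0 hs0 (eq_neg_of_add_eq_zero_left h5)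
    obtain ⟨e1, -, -, e2, e3, -⟩ := (ec θ hθ hd).nb ⟨hs, h7, (cpr_pos_comm hθ hs).1 (by omega)⟩
    have h8 : cpr D.cs D.h (D.g s) s < 0 := not_le.1 fun h => e2 (hdc s _ hs (D.g_root s hs) h)
    have h9 : n = 1 := by
      rw [e1, cpr_add', cpr_self _ _ hs] at h6
      omega
    rw [h9, one_smul, e1, add_comm, add_right_inj] at h5
    exact hc ⟨θ, hθ, hd, Or.inr ((e3 a).2 (Or.inr h5))⟩
  · obtain ⟨-, -, e1, -, e3, -⟩ := (ec θ hθ hd).nb h5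
    rw [cpr_add', cpr_smul'] at e1
    have h6 := dom_cpr hd hθ h0
    have h7 := dom_cpr hd hθ hs0
    by_cases h8 : 0 < cpr D.cs D.h a θ
    · exact hc ⟨θ, hθ, hd, or_iff_not_imp_left.2 fun h => ⟨ha, h, h8⟩⟩
    have h9 : n * cpr D.cs D.h s θ = 1 := by omega
    have h10 : cpr D.cs D.h s θ = 1 := Int.eq_one_of_mul_eq_one_left h7 h9
    have h11 := D.ht_pos_of_pos a ⟨ha, h0⟩
    rcases (e3 s).1 ⟨hs, fun e => by rw [e, cpr_self _ _ hθ] at h10; omega, by omega⟩ with h | h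
    · rw [← h, hs1] at h3; omega
    · rw [← ht_g hex hq h2, ← h, hs1] at h3; omega

theorem cov {Z : Set Y} (hZ : Z ⊆ D.T) (hF : ∀ a ∈ D.Sz Z, D.g a ∈ D.Sz Z) (hq : ∀ a ∈ D.Sz Z, 0 ≤ a → 0 ≤ D.g a)
    {e : ℕ} (he : 0 < e) (hex : ∀ a, D.Rt a → D.ex a = e) (cz : CommZ D.cs D.h D.X) (hE : HE p F (D.S (D.Sz Z)))
    (hdc : DC D.cs D.h D.X) {a : D.I → ℤ} (ha : a ∈ Ps D Z) :
    ∃ θ ∈ Ps D Z, Dm D Z θ ∧ D.g θ = θ ∧ (a = θ ∨ (θ = a + D.g a ∧ D.g (D.g a) = a)) := by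
  obtain ⟨c, hc, rfl⟩ := exists_io hZ hF rfl ha.2
  have hqs : (D.sub hZ hF rfl).QS := fun c hc h0 => by
    rw [← io_nonneg hZ hF rfl ((D.sub hZ hF rfl).g_root c hc), D.sub_g hZ hF rfl hc]
    exact hq _ (io_mem hZ hF rfl hc) ((io_nonneg hZ hF rfl hc).2 h0)
  have := (D.sub hZ hF rfl).fW
  obtain ⟨θ, h1, h2, h3, h4⟩ := cov0 hqs he (fun a ha => hex _ (io_mem hZ hF rfl ha).1) (commZ_sub hZ hF rfl cz)
    (by rw [sub_S_roots]; exact hE) (dc_sub hZ hF rfl hdc) hc ((io_nonneg hZ hF rfl hc).1 ha.1.2)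
  have h5 := io_mem hZ hF rfl h1
  refine ⟨D.io Z θ, ⟨⟨h5.1, (io_nonneg hZ hF rfl h1).2 (dom_nonneg h2 h1)⟩, h5⟩, (dom_iff hZ hF rfl).1 h2,
    by rw [← D.sub_g hZ hF rfl h1, h3], h4.imp (congrArg _) fun h => ⟨?_, ?_⟩⟩
  · rw [h.1, map_add, D.sub_g hZ hF rfl hc]
  · rw [← D.sub_g hZ hF rfl hc, ← D.sub_g hZ hF rfl ((D.sub hZ hF rfl).g_root c hc), h.2]

end Cfsg.Agent.SB.Exc.Max
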