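import Cfsg.Agent.SB.Exc.Max.Sub

/-!
# S5765, `BoxMax`: dominant roots of a quasi-split datum with `HE` (helper50)

`EC.up` : the fixed points of the unipotent radical attached to the orbit of a dominant root `θ` have only one subgroup of
order `p`; `EC.ext` : `q = p`, `θ` is fixed, and `θ` has no neighbours, or `p = 2` and the component is of type `²A₂`.
-/

set_option autoImplicit false
set_option linter.unusedSectionVars false
set_option linter.unusedVariables false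

namespace Cfsg.Agent.SB.Exc.Max

open CoxeterSystem Cfsg.Agent.ChevalleyStructure.CoxeterGeom Cfsg.Agent.Tits.Roots Cfsg.Agent.Nodes.Reps
  Cfsg.Agent.Nodes.BNOf Cfsg.Agent.Nodes.Bruhat Cfsg.Agent.LangThm Cfsg.Agent.Nodes.SubComb
  Cfsg.Agent.Nodes.Coroot Cfsg.Agent.Nodes.Slope Cfsg.Agent.Nodes.NormalForm Cfsg.Agent.DL.Base Cfsg.Agent.DL
  Cfsg.Agent.BpExc.Zc
open scoped Pointwise commutatorElement

section Grp

variable {Y : Type*} [Group Y]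

theorem exists_pow_lt {a y : Y} {n : ℕ} (hn : 0 < n) (ha : a ^ n = 1) (hy : y ∈ Subgroup.zpowers a) :
    ∃ i < n, y = a ^ i := by
  obtain ⟨z, rfl⟩ := hy
  have h0 : (0 : ℤ) < n := by exact_mod_cast hn
  have h1 := Int.emod_nonneg z h0.ne'
  have h2 := Int.emod_lt_of_pos z h0
  refine ⟨(z % n).toNat, by omega, ?_⟩
  rw [← zpow_natCast, Int.toNat_of_nonneg h1]
  exact zpow_eq_zpow_emod' z ha

theorem mul_pow_central {x y c : Y} (h : y * x = x * y * c) (hx : Commute c x) (hy : Commute c y) (n : ℕ) :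
    (x * y) ^ n = x ^ n * y ^ n * c ^ n.choose 2 := by
  have h1 : ∀ n : ℕ, y ^ n * x = x * y ^ n * c ^ n := fun n => by
    induction n with
    | zero => simp
    | succ n ih =>
      rw [pow_succ', mul_assoc, ih, ← mul_assoc, ← mul_assoc, h, mul_assoc (x * y), (hy.pow_right n).eq, pow_succ']
      simp only [mul_assoc]
  induction n with
  | zero => simp
  | succ n ih =>
    rw [pow_succ, ih, Nat.choose_succ_succ' n 1, Nat.choose_one_right, mul_assoc _ _ (x * y),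
      ((hx.mul_right hy).pow_left _).eq, ← mul_assoc, ← mul_assoc, mul_assoc (x ^ n), h1, pow_add c, pow_succ x,
      pow_succ y]
    simp only [mul_assoc]
    rw [← mul_assoc (c ^ n), (hy.pow_left n).eq, mul_assoc]

theorem no_three {a x y z : Y} (ha : a ≠ 1) (hx : x ^ 2 = a) (hy : y ^ 2 = a) (hz : z ^ 2 = a) (hxy : (x * y) ^ 2 = a)
    (hxz : (x * z) ^ 2 = a) (hyz : (y * z) ^ 2 = a) (hxyz : (x * (y * z)) ^ 2 = a) : False := by
  have key : ∀ {u v : Y}, u ^ 2 = a → (u * v) ^ 2 = a → u⁻¹ * v * u = v⁻¹ := fun {u v} h1 h2 => by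
    have h3 : u * v * (u * v) = u * u := by rw [← pow_two, ← pow_two, h1, h2]
    calc u⁻¹ * v * u = u⁻¹ * (u⁻¹ * (u * v * (u * v))) * v⁻¹ := by group
      _ = v⁻¹ := by rw [h3]; group
  have h1 : y⁻¹ * z⁻¹ = z⁻¹ * y⁻¹ := by
    rw [← mul_inv_rev y z, ← key hx hxyz, ← key hx hxy, ← key hx hxz]
    group
  have h2 : y⁻¹ * z * y = z := by
    rw [mul_assoc, inv_injective (by rw [mul_inv_rev, mul_inv_rev, h1] : (z * y)⁻¹ = (y * z)⁻¹), inv_mul_cancel_left]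
  rw [key hy hyz] at h2
  exact ha (by rw [← hz, pow_two, ← mul_inv_cancel z, h2])

end Grp

variable {p : ℕ} [Fact p.Prime] {k : Type} [Field k] [CharP k p] {Y : Type} [Group Y] {N : Type} [Fintype N]
  [DecidableEq N] {ρ : Y →* GL N k} {F : MulAut Y} {G : Subgroup Y} [IsAlgClosed k] {D : Datum p ρ F G}

variable (D) in
/-- two root groups commute -/
def Cm (a b : D.I → ℤ) : Prop := ∀ u ∈ D.X a, ∀ v ∈ D.X b, u * v = v * u

variable (D) in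
/-- the supports of the commutators -/
def CZ (a b : D.I → ℤ) : Set (D.I → ℤ) := {c | ZB D.cs D.h a b c ∧ ¬ Cm D a b}

theorem crel_cz (H : CommZ D.cs D.h D.X) : CRel D (CZ D) := fun a b ha hb h1 h2 => by
  refine ⟨?_, fun u hu v hv => ?_⟩
  · rintro c ⟨⟨hc, i, j, hi, hj, e⟩, -⟩
    exact ⟨hc, 1, i, j, one_pos, hi, hj, by rw [one_smul, e]⟩
  · by_cases h : Cm D a b
    · rw [commutatorElement_eq_one_iff_mul_comm.2 (h u hu v hv)]
      exact one_mem _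
    · refine RGD.Sup_mono ?_ (H a b ha hb h1 h2 u hu v hv)
      exact fun c hc => ⟨hc, h⟩

theorem S_le_X {A : Set (D.I → ℤ)} {a : D.I → ℤ} (h : A ⊆ {a}) : D.S A ≤ D.X a :=
  RGD.Sup_le fun b hb => by rw [h hb]

theorem X_pow_p {a : D.I → ℤ} (ha : D.Rt a) {u : Y} (hu : u ∈ D.X a) : u ^ p = 1 := by
  obtain ⟨s, rfl⟩ := (D.mem_X a ha _).1 hu
  exact x_pow_p ha s

theorem Crd.pow_p {A B : Set (D.I → ℤ)} {κ : (D.I → ℤ) → Y → k} (H : Crd D A B κ) {y : Y} (hy : y ∈ D.S A) :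
    y ^ p ∈ D.S (A \ B) :=
  H.ker _ (pow_mem hy p) fun b hb => by rw [H.pow hb hy, CharP.cast_eq_zero, zero_mul]

theorem Crd.pow_p' {A : Set (D.I → ℤ)} {κ : (D.I → ℤ) → Y → k} (H : Crd D A A κ) {y : Y} (hy : y ∈ D.S A) :
    y ^ p = 1 := by
  have := H.pow_p hy
  rwa [Set.sdiff_self, Datum.S, Nodes.OppDec.Sup_empty, Subgroup.mem_bot] at this

theorem cpr_act (w : D.W) (a : D.I → ℤ) {b : D.I → ℤ} (hb : D.Rt b) :
    cpr D.cs D.h (D.act w a) (D.act w b) = cpr D.cs D.h a b := cpr_rep D.cs D.h w a hb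

theorem ht_ne_zero {a : D.I → ℤ} (ha : D.Rt a) : htHom a ≠ 0 := by
  rcases ha.pos_or_neg with h4 | h4
  · exact (D.ht_pos_of_pos a ⟨ha, h4⟩).ne'
  · have := D.ht_pos_of_pos (-a) ⟨ha.neg, neg_nonneg.2 h4⟩
    rw [map_neg] at this
    omega

/-- fixed elements attached to an orbit -/
theorem Crd.exists_orbit {A B : Set (D.I → ℤ)} {κ : (D.I → ℤ) → Y → k} (H : Crd D A B κ) {e : ℕ}
    (hex : ∀ a, D.Rt a → D.ex a = e) (hA : ∀ a ∈ A, D.g a ∈ A) (hB : ∀ b ∈ B, D.g b ∈ B) {b : D.I → ℤ} (hb : b ∈ B) :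
    ∃ C : k, C ≠ 0 ∧ ∀ s, C * s ^ p ^ (e * Function.minimalPeriod D.g b) = s →
      ∃ y ∈ D.S A, F y = y ∧ κ b y = s ∧ ∀ a ∈ B, κ a y ≠ 0 → ∃ i, D.g^[i] b = a := by
  have hr : ∀ b ∈ B, D.Rt b := fun b hb => H.root b (H.sub hb)
  obtain ⟨C, hC, h1⟩ := Max.exists_orbit (cF_ne (D := D)) (q := p ^ e) (pow_ne_zero _ (Fact.out : p.Prime).ne_zero)
    (g_injOn hr) hB hb (periodic (hr b hb))
  refine ⟨C, hC, fun s hs => ?_⟩
  obtain ⟨t, h2, h3, h4⟩ := h1 s (by rwa [← pow_mul])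
  obtain ⟨y, hy, h5, h6⟩ := H.exists_fix hA hB (t := t) fun a ha => by rw [hex a (hr a ha), h2 a ha]
  exact ⟨y, hy, h5, by rw [h6 b hb, h3], fun a ha h => h4 a (by rwa [← h6 a ha])⟩

variable (D) in
/-- the hypotheses -/
structure EC (e : ℕ) (θ : D.I → ℤ) : Prop where
  qs : D.QS
  he : 0 < e
  ex : ∀ a, D.Rt a → D.ex a = e
  cz : CommZ D.cs D.h D.X
  hE : HE p F (D.S {a | D.Rt a})
  root : D.Rt θ
  dom : Dom D.A θ
  dc : ∀ i, DCon D {a | D.Rt a} (D.g^[i] θ)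

variable (D) in
/-- the orbit of `θ` -/
def Orb (θ : D.I → ℤ) : Set (D.I → ℤ) := {a | ∃ i, D.g^[i] θ = a}

namespace EC

variable {e : ℕ} {θ : D.I → ℤ} (H : EC D e θ)
include H

theorem orb {a : D.I → ℤ} (ha : a ∈ Orb D θ) : D.Rt a ∧ Dom D.A a ∧ htHom a = htHom θ := by
  obtain ⟨i, rfl⟩ := ha
  induction i with
  | zero => exact ⟨H.root, H.dom, rfl⟩
  | succ i ih =>
    rw [Function.iterate_succ_apply']
    exact ⟨D.g_root _ ih.1, dom_g H.ex H.qs ih.1 ih.2.1, by rw [ht_g H.ex H.qs ih.1, ih.2.2]⟩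

theorem finite : (Orb D θ).Finite := D.finite_roots.subset fun _ ha => (H.orb ha).1

theorem orth {a b : D.I → ℤ} (ha : a ∈ Orb D θ) (hb : b ∈ Orb D θ) (h : a ≠ b) : cpr D.cs D.h a b = 0 := by
  obtain ⟨a1, a2, a3⟩ := H.orb ha
  obtain ⟨b1, b2, b3⟩ := H.orb hb
  refine le_antisymm (not_lt.1 fun h0 => ?_) (dom_cpr b2 b1 (dom_nonneg a2 a1))
  refine ht_ne_zero (isRoot_sub a1 b1 h (ne_neg_of_nonneg a1 (dom_nonneg a2 a1) (dom_nonneg b2 b1)) h0) ?_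
  rw [map_sub, a3, b3, sub_self]

theorem orth' {a b : D.I → ℤ} (ha : a ∈ Orb D θ) (hb : b ∈ Orb D θ) (h : a ≠ b) (w : D.W) :
    cpr D.cs D.h (D.act w a) b = 0 :=
  cpr_rep_zero (H.orb hb).2.1 (H.orb hb).1 (H.orb ha).2.1 (H.orb ha).1 (H.orth ha hb h) w

theorem cent {a u : Y} (ha : a ∈ D.S (Orb D θ)) (hu : u ∈ D.U) : a * u = u * a := by
  refine comm_S_S ?_ ha hu
  rintro _ ⟨i, rfl⟩ c hc
  have := H.orb ⟨i, rfl⟩
  exact H.dc i c hc.1 (dom_cpr this.2.1 this.1 hc.2)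

/-- the sum of the coroots of the orbit -/
noncomputable def lam : (D.I → ℤ) →+ ℤ := ∑ b ∈ H.finite.toFinset, el D.cs D.h b

theorem lam_apply (a : D.I → ℤ) : H.lam a = ∑ b ∈ H.finite.toFinset, cpr D.cs D.h a b := by
  rw [lam, AddMonoidHom.finsetSum_apply]; rfl

theorem lam_nonneg {a : D.I → ℤ} (ha : 0 ≤ a) : 0 ≤ H.lam a := by
  rw [lam_apply]
  exact Finset.sum_nonneg fun b hb =>
    dom_cpr (H.orb (H.finite.mem_toFinset.1 hb)).2.1 (H.orb (H.finite.mem_toFinset.1 hb)).1 ha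

theorem nonneg_of_lam {a : D.I → ℤ} (ha : D.Rt a) (h : 0 < H.lam a) : 0 ≤ a := by
  by_contra h1
  have := H.lam_nonneg (ha.not_nonneg_iff_neg.1 h1)
  rw [map_neg] at this
  omega

theorem lam_pos {a b : D.I → ℤ} (ha : D.Rt a) (hb : b ∈ Orb D θ) (h : 0 < cpr D.cs D.h a b) : 0 < H.lam a := by
  rw [lam_apply]
  have h0 := nonneg_of_cpr_pos (H.orb hb).2.1 (H.orb hb).1 ha h
  exact Finset.sum_pos' (fun b hb =>
    dom_cpr (H.orb (H.finite.mem_toFinset.1 hb)).2.1 (H.orb (H.finite.mem_toFinset.1 hb)).1 h0)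
    ⟨b, H.finite.mem_toFinset.2 hb, h⟩

theorem lam_orb {a : D.I → ℤ} (ha : a ∈ Orb D θ) : 0 < H.lam a :=
  H.lam_pos (H.orb ha).1 ha (by rw [cpr_self _ _ (H.orb ha).1]; omega)

theorem V_le : D.S {a | D.Rt a ∧ 0 < H.lam a} ≤ D.U := RGD.Sup_mono fun _ ha => ⟨ha.1, H.nonneg_of_lam ha.1 ha.2⟩

theorem conj_V {u v : Y} (hu : u ∈ D.U) (hv : v ∈ D.S {a | D.Rt a ∧ 0 < H.lam a}) :
    u * v * u⁻¹ ∈ D.S {a | D.Rt a ∧ 0 < H.lam a} :=
  conj_S_S (A := RGD.Pos D.cs D.h) (fun _ h => h.1) (fun a ha b hb u hu v hv => crel_btwn.conj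
    (A := {a | D.Rt a ∧ 0 < H.lam a}) ha.1
    (fun c hc => ⟨hc.1, ne_neg_of_nonneg ha.1 ha.2 (H.nonneg_of_lam hc.1 hc.2)⟩)
    (fun c hc _ d hd => ⟨hd.1, btwn_pos' (Btwn.symm hd) H.lam hc.2 (H.lam_nonneg ha.2)⟩) hu
    (RGD.le_Sup (X := D.X) hb hv)) hu v hv

theorem pel_comm {f : Y} (hf : f ∈ G) (hF : F f = f) {y : Y} (hy : y ∈ D.S {a | D.Rt a ∧ 0 < H.lam a}) (hy1 : y ≠ 1)
    (hc : f * y = y * f) {a : Y} (ha : a ∈ D.S (Orb D θ)) : ∃ j : ℕ, (a⁻¹ * (f * a * f⁻¹)) ^ p ^ j = 1 := by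
  obtain ⟨w, u, hu, m, hm, v, hv, rfl⟩ := D.exists_normal_form hf
  have hv' := D.NW_le_U w hv
  have hw : D.Fw w = w := by
    rw [map_mul, map_mul] at hF
    exact (D.eq_of_mem_UNU ((H.qs.F_mem_U u).2 hu) hu hm.mapF hm ((H.qs.F_mem_U v).2 hv') hv' hF).1
  have hiff : ∀ b ∈ Orb D θ, D.act w b = -b ↔ D.act w θ = -θ := by
    rintro _ ⟨i, rfl⟩
    induction i with
    | zero => exact Iff.rfl
    | succ i ih =>
      have hr := (H.orb ⟨i, rfl⟩).1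
      rw [← ih, Function.iterate_succ_apply', ← D.g_neg hr]
      conv_lhs => rw [← hw, ← D.g_act w hr]
      exact ⟨fun h => D.g_inj (hr.act w) hr.neg h, fun h => by rw [h]⟩
  by_cases h0 : D.act w θ = -θ
  · exfalso
    have h1 : m * (v * y * v⁻¹) * m⁻¹ ∈ D.S (Nodes.OppDec.Neg D.cs D.h) := by
      refine D.conj_mem_S (S := {a | D.Rt a ∧ 0 < H.lam a}) (S' := Nodes.OppDec.Neg D.cs D.h) hm (fun _ h => h.1)
        (fun c hc => ⟨hc.1.act w, ?_⟩) (H.conj_V hv' hy)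
      rw [← (hc.1.act w).not_nonneg_iff]
      intro h2
      have h3 : 0 ≤ H.lam (D.act w c) := H.lam_nonneg h2
      have h4 : H.lam (D.act w c) = -H.lam c := by
        rw [lam_apply, lam_apply, ← Finset.sum_neg_distrib]
        refine Finset.sum_congr rfl fun b hb => ?_
        have hb' := H.finite.mem_toFinset.1 hb
        rw [← cpr_act w c (H.orb hb').1, (hiff b hb').2 h0, cpr_neg_right _ _ _ (H.orb hb').1, neg_neg]
      have := hc.2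
      omega
    have h2 : m * (v * y * v⁻¹) * m⁻¹ = u⁻¹ * y * u := by
      calc _ = u⁻¹ * (u * m * v * y) * (v⁻¹ * m⁻¹) := by group
        _ = _ := by rw [hc]; group
    rw [h2] at h1
    have h3 := D.eq_one_of_mem_U_of_mem_UN (mul_mem (mul_mem (inv_mem hu) (H.V_le hy)) hu) h1
    exact hy1 (by rw [← mul_inv_cancel_right y u, ← mul_inv_cancel_left u y, mul_assoc u, h3]; group)
  · have h1 : a⁻¹ * (u * m * v * a * (u * m * v)⁻¹) = u * (a⁻¹ * (m * a * m⁻¹)) * u⁻¹ := by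
      calc _ = a⁻¹ * u * (m * (v * a * v⁻¹) * m⁻¹) * u⁻¹ := by group
        _ = _ := by rw [← H.cent ha hv', H.cent (inv_mem ha) hu]; group
    have hne : ∀ b ∈ Orb D θ, D.act w b ≠ -b := fun b hb h => h0 ((hiff b hb).1 h)
    let μ : (D.I → ℤ) →+ ℤ := ∑ b ∈ H.finite.toFinset, (el D.cs D.h b + el D.cs D.h (D.act w b))
    have hμ : ∀ c b, b ∈ Orb D θ → (∀ b' ∈ Orb D θ, b' ≠ b → cpr D.cs D.h c b' = 0 ∧ cpr D.cs D.h c (D.act w b') = 0) →
        μ c = cpr D.cs D.h c b + cpr D.cs D.h c (D.act w b) := fun c b hb h => by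
      simp only [μ]
      rw [AddMonoidHom.finsetSum_apply, Finset.sum_eq_single b]
      · rfl
      · intro b' hb' hne
        obtain ⟨e1, e2⟩ := h b' (H.finite.mem_toFinset.1 hb') hne
        rw [AddMonoidHom.add_apply, el_apply, el_apply, e1, e2, add_zero]
      · exact fun h => absurd (H.finite.mem_toFinset.2 hb) h
    obtain ⟨j, hj⟩ := pel_of_pos (A := Orb D θ ∪ D.act w '' Orb D θ) (by
      rintro c (hc | ⟨b, hb, rfl⟩)
      exacts [(H.orb hc).1, (H.orb hb).1.act w]) μ (by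
      rintro c (hc | ⟨b, hb, rfl⟩)
      · have hr := (H.orb hc).1
        rw [hμ c c hc fun b' hb' hne => ⟨H.orth hc hb' hne.symm,
          (cpr_zero_comm _ _ ((H.orb hb').1.act w) hr).1 (H.orth' hb' hc hne w)⟩, cpr_self _ _ hr, cpr_rep_symm hr]
        have := cpr_rep_ge hr (hne c hc)
        omega
      · have hr := (H.orb hb).1
        rw [hμ _ b hb fun b' hb' hne => ⟨H.orth' hb hb' hne.symm w, by
          rw [cpr_rep _ _ w b (H.orb hb').1, H.orth hb hb' hne.symm]⟩, cpr_self _ _ (hr.act w)]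
        have : -1 ≤ cpr D.cs D.h (D.act w b) b := cpr_rep_ge hr (hne b hb)
        omega)
      (mul_mem (inv_mem (RGD.Sup_mono Set.subset_union_left ha))
        (D.conj_mem_S hm (fun b hb => (H.orb hb).1) (fun b hb => Or.inr ⟨b, hb, rfl⟩) ha))
    exact ⟨j, by rw [h1, conj_pow, hj, mul_one, mul_inv_cancel]⟩

/-- the unique subgroup of order `p` -/
theorem up {a : Y} (ha : a ∈ D.S (Orb D θ)) (hF : F a = a) (h1 : a ≠ 1) (hp : a ^ p = 1) {y : Y}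
    (hy : y ∈ D.S {a | D.Rt a ∧ 0 < H.lam a}) (hFy : F y = y) (hyp : y ^ p = 1) : y ∈ Subgroup.zpowers a := by
  by_contra h
  have hV : D.S {a | D.Rt a ∧ 0 < H.lam a} ≤ D.S {a | D.Rt a} := RGD.Sup_mono fun _ h => h.1
  have ha' : a ∈ D.S {a | D.Rt a ∧ 0 < H.lam a} := by
    refine RGD.Sup_mono ?_ ha
    exact fun b hb => ⟨(H.orb hb).1, H.lam_orb hb⟩
  obtain ⟨e', he', h2, f, hf, h3, h4, h5⟩ := H.hE a (hV ha') y (hV hy) hF hFy hp hyp h1 (H.cent ha (H.V_le hy)) h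
  have h6 : e' ∈ D.S {a | D.Rt a ∧ 0 < H.lam a} := (Subgroup.closure_le _).2 (by
    rintro _ (rfl | rfl)
    exacts [ha', hy]) he'
  obtain ⟨j, hj⟩ := H.pel_comm (D.S_le_G (fun _ h => h) hf) h3 h6 h2 h4 ha
  exact h5 j hj

theorem fix : e = 1 ∧ D.g θ = θ ∧ ∃ a ∈ D.X θ, F a = a ∧ a ≠ 1 ∧
    ∀ y ∈ D.S {c | D.Rt c ∧ 0 < cpr D.cs D.h c θ}, F y = y → y ^ p = 1 → y ∈ Subgroup.zpowers a := by
  have hp : p.Prime := Fact.out
  have hθ : θ ∈ Orb D θ := ⟨0, rfl⟩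
  have hg : ∀ a ∈ Orb D θ, D.g a ∈ Orb D θ := by
    rintro _ ⟨i, rfl⟩
    exact ⟨i + 1, Function.iterate_succ_apply' _ _ _⟩
  obtain ⟨κ, K⟩ := exists_crd (crel_cz H.cz) (A := Orb D θ) (B := Orb D θ) (fun a ha => (H.orb ha).1) H.lam
    (fun a ha => H.lam_orb ha) subset_rfl fun a ha a' ha' _ c hc => absurd (fun u hu v hv =>
      H.cent (RGD.le_Sup (X := D.X) ha hu) (RGD.le_Sup (X := D.X) (S := RGD.Pos D.cs D.h)
        ⟨(H.orb ha').1, dom_nonneg (H.orb ha').2.1 (H.orb ha').1⟩ hv)) hc.2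
  obtain ⟨C, hC, h1⟩ := K.exists_orbit H.ex hg hg hθ
  have hd := Function.minimalPeriod_pos_of_mem_periodicPts (periodic H.root)
  have hn := Nat.mul_pos H.he hd
  obtain ⟨s₀, hs, hs0⟩ := exists_sol_ne (p := p) hC hn
  obtain ⟨a, ha, hFa, hκ, -⟩ := h1 s₀ hs
  have ha1 : a ≠ 1 := fun h => hs0 (by rw [← hκ, h, K.one hθ])
  have hV : D.S (Orb D θ) ≤ D.S {a | D.Rt a ∧ 0 < H.lam a} :=
    RGD.Sup_mono fun b hb => ⟨(H.orb hb).1, H.lam_orb hb⟩
  have h2 : e * Function.minimalPeriod D.g θ = 1 := by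
    by_contra h3
    obtain ⟨s, h4, h5⟩ := exists_sol (p := p) hC hn (E := (fun i : ℕ => (i : k) * s₀) '' Set.Iio p)
      ((Set.finite_Iio p).image _) (lt_of_le_of_lt (Set.ncard_image_le (Set.finite_Iio p)) (by
        rw [Set.ncard_Iio_nat]
        conv_lhs => rw [← pow_one p]
        exact Nat.pow_lt_pow_right hp.one_lt (by omega)))
    obtain ⟨y, hy, hFy, hκy, -⟩ := h1 s h4
    obtain ⟨i, hi, rfl⟩ := exists_pow_lt hp.pos (K.pow_p' ha)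
      (H.up ha hFa ha1 (K.pow_p' ha) (hV hy) hFy (K.pow_p' hy))
    exact h5 ⟨i, hi, by rw [← hκy, K.pow hθ ha, hκ]⟩
  have h3 : D.g θ = θ := Function.minimalPeriod_eq_one_iff_isFixedPt.1 (Nat.eq_one_of_mul_eq_one_left h2)
  refine ⟨Nat.eq_one_of_mul_eq_one_right h2, h3, a, S_le_X ?_ ha, hFa, ha1, fun y hy hFy hyp =>
    H.up ha hFa ha1 (K.pow_p' ha) (RGD.Sup_mono ?_ hy) hFy hyp⟩
  · rintro _ ⟨i, rfl⟩
    exact Function.iterate_fixed h3 i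
  · exact fun c hc => ⟨hc.1, H.lam_pos hc.1 hθ hc.2⟩

/-- the conclusion -/
theorem ext : e = 1 ∧ D.g θ = θ ∧ (∃ y ∈ D.U, F y = y ∧ y ^ p = 1 ∧ y ≠ 1) ∧
    (Nb D.cs D.h {a | D.Rt a} θ = ∅ ∨ (p = 2 ∧ ∃ b, Nb D.cs D.h {a | D.Rt a} θ = {b, D.g b} ∧ D.g (D.g b) = b ∧
      θ = b + D.g b ∧ cpr D.cs D.h b θ = 1 ∧ ¬ Cm D b (D.g b) ∧ ∃ y ∈ D.U, F y = y ∧ y ^ 4 = 1 ∧ y ^ 2 ≠ 1)) := by
  have hp : p.Prime := Fact.out
  obtain ⟨he, hg, a, ha, hFa, ha1, up⟩ := H.fix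
  have hap := X_pow_p H.root ha
  have hθ0 := dom_nonneg H.dom H.root
  have hθ2 := cpr_self D.cs D.h H.root
  refine ⟨he, hg, ⟨a, RGD.le_Sup (X := D.X) (S := RGD.Pos D.cs D.h) ⟨H.root, hθ0⟩ ha, hFa, hap, ha1⟩, ?_⟩
  have cg : ∀ c, D.Rt c → cpr D.cs D.h (D.g c) θ = cpr D.cs D.h c θ := fun c hc => by
    conv_lhs => rw [← hg]
    exact cpr_g H.ex hc H.root
  have zb : ∀ {a a' c n}, ZB D.cs D.h a a' c → 0 < n → n ≤ cpr D.cs D.h a θ → n ≤ cpr D.cs D.h a' θ →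
      2 * n ≤ cpr D.cs D.h c θ := by
    rintro a a' c n ⟨-, i, j, hi, hj, rfl⟩ h0 h1 h2
    rw [cpr_add', cpr_smul', cpr_smul']
    nlinarith
  have zX : ∀ y ∈ Subgroup.zpowers a, y ∈ D.S {θ} := fun y hy =>
    RGD.le_Sup (X := D.X) (S := {θ}) rfl ((Subgroup.zpowers_le.2 ha) hy)
  -- the neighbours have pairing one
  have one : ∀ c, D.Rt c → c ≠ θ → cpr D.cs D.h c θ ≤ 1 := fun c hc hne => by
    by_contra h1
    obtain ⟨κ, K⟩ := exists_crd (crel_cz H.cz) (A := {c | D.Rt c ∧ 2 ≤ cpr D.cs D.h c θ})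
      (B := {c | D.Rt c ∧ 2 ≤ cpr D.cs D.h c θ}) (fun _ h => h.1) (el D.cs D.h θ)
      (fun a ha => lt_of_lt_of_le two_pos ha.2) subset_rfl fun a ha a' ha' _ c hc => by
        have := zb hc.1 two_pos ha.2 ha'.2
        have := cpr_le_three hc.1.1 H.root
        omega
    have hg2 : ∀ a ∈ {c | D.Rt c ∧ 2 ≤ cpr D.cs D.h c θ}, D.g a ∈ {c | D.Rt c ∧ 2 ≤ cpr D.cs D.h c θ} :=
      fun a ha => ⟨D.g_root a ha.1, by rw [cg a ha.1]; exact ha.2⟩
    have hc2 : c ∈ {c | D.Rt c ∧ 2 ≤ cpr D.cs D.h c θ} := ⟨hc, by omega⟩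
    obtain ⟨C, hC, h2⟩ := K.exists_orbit H.ex hg2 hg2 hc2
    obtain ⟨s, hs, hs0⟩ := exists_sol_ne (p := p) hC
      (Nat.mul_pos H.he (Function.minimalPeriod_pos_of_mem_periodicPts (periodic hc)))
    obtain ⟨y, hy, hFy, hκ, -⟩ := h2 s hs
    refine hs0 (hκ ▸ K.zero_of_mem hc2 (A' := {θ}) ?_ hne (zX y (up y (RGD.Sup_mono ?_ hy) hFy (K.pow_p' hy))))
    · rintro _ rfl
      exact ⟨H.root, hθ2.ge⟩
    · exact fun c hc => ⟨hc.1, lt_of_lt_of_le two_pos hc.2⟩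
  set A : Set (D.I → ℤ) := {c | D.Rt c ∧ 0 < cpr D.cs D.h c θ} with hA
  set B := Nb D.cs D.h {a | D.Rt a} θ with hB
  have hθA : θ ∈ A := ⟨H.root, by omega⟩
  have hAB : A \ B ⊆ {θ} := fun c hc => by_contra fun h => hc.2 ⟨hc.1.1, h, hc.1.2⟩
  obtain ⟨κ, K⟩ := exists_crd (crel_cz H.cz) (A := A) (B := B) (fun _ h => h.1) (el D.cs D.h θ) (fun a ha => ha.2)
    (fun c hc => ⟨hc.1, hc.2.2⟩) fun a ha a' ha' _ c hc => by
      have h1 := zb hc.1 one_pos ha.2 ha'.2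
      have h2 : c = θ := by_contra fun h => by have := one c hc.1.1 h; omega
      rw [h2]
      exact ⟨hθA, fun h => h.2.1 rfl⟩
  have gA : ∀ c ∈ A, D.g c ∈ A := fun c hc => ⟨D.g_root c hc.1, by rw [cg c hc.1]; exact hc.2⟩
  have gB : ∀ c ∈ B, D.g c ∈ B := fun c hc => ⟨D.g_root c hc.1, fun h => hc.2.1 (D.g_inj hc.1 H.root (h.trans hg.symm)),
    by rw [cg c hc.1]; exact hc.2.2⟩
  have hAU : D.S A ≤ D.U := RGD.Sup_mono fun c hc => ⟨hc.1, nonneg_of_cpr_pos H.dom H.root hc.1 hc.2⟩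
  have hXA : D.X θ ≤ D.S A := RGD.le_Sup hθA
  have z0 : ∀ y ∈ D.S A, F y = y → y ^ p = 1 → ∀ b ∈ B, κ b y = 0 := fun y hy hFy hyp b hb =>
    K.zero_of_mem hb (A' := {θ}) (by rintro _ rfl; exact hθA) hb.2.1 (zX y (up y hy hFy hyp))
  have pw : ∀ y ∈ D.S A, F y = y → y ^ p ∈ Subgroup.zpowers a := fun y hy hFy => by
    have h1 := S_le_X hAB (K.pow_p hy)
    exact up _ (hXA h1) (by rw [map_pow, hFy]) (X_pow_p H.root h1)
  rcases B.eq_empty_or_nonempty with h0 | ⟨b, hb⟩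
  · exact Or.inl h0
  right
  have per : ∀ b ∈ B, 2 ≤ Function.minimalPeriod D.g b := fun b hb => by
    have h1 := Function.minimalPeriod_pos_of_mem_periodicPts (periodic hb.1)
    by_contra h2
    have h3 : D.g b = b := Function.minimalPeriod_eq_one_iff_isFixedPt.1 (by omega)
    obtain ⟨s, hs, hs0⟩ := exists_sol_ne (p := p) (cF_ne (D := D) b) one_pos
    have h4 := z0 _ (x_mem_S (K.sub hb) hb.1 s) (by rw [F_x hb.1, h3, H.ex b hb.1, he, hs]) (x_pow_p hb.1 s) b hb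
    exact hs0 (by rwa [K.self b hb] at h4)
  obtain ⟨C, hC, hy⟩ := K.exists_orbit H.ex gA gB hb
  rw [he, one_mul] at hy
  have hd := per b hb
  have hd0 : 0 < Function.minimalPeriod D.g b := by omega
  have p2 : p = 2 := by
    by_contra hp2
    choose! y hy hFy hκ _ using hy
    obtain ⟨s, hs, s', hs', hne, e1⟩ := Set.exists_ne_map_eq_of_ncard_lt_of_maps_to
      (s := {s : k | C * s ^ p ^ Function.minimalPeriod D.g b = s}) (t := (fun i : ℕ => a ^ i) '' Set.Iio p)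
      (f := fun s => y s ^ p) (lt_of_le_of_lt (Set.ncard_image_le (Set.finite_Iio p)) (by
        rw [Set.ncard_Iio_nat, ncard_sol hC hd0]
        conv_lhs => rw [← pow_one p]
        exact Nat.pow_lt_pow_right hp.one_lt hd)) (fun s hs => by
        obtain ⟨i, hi, e⟩ := exists_pow_lt hp.pos hap (pw _ (hy s hs) (hFy s hs))
        exact ⟨i, hi, e.symm⟩) ((Set.finite_Iio p).image _)
    have m1 := hy s hs
    have m2 := inv_mem (hy s' hs')
    have h1 : (y s * (y s')⁻¹)⁻¹ * ((y s')⁻¹ * y s) ∈ D.X θ :=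
      S_le_X hAB (K.ker _ (mul_mem (inv_mem (mul_mem m1 m2)) (mul_mem m2 m1)) fun c hc => by
        rw [K.mul c hc _ (inv_mem (mul_mem m1 m2)) _ (mul_mem m2 m1), K.inv hc (mul_mem m1 m2), K.mul c hc _ m1 _ m2,
          K.mul c hc _ m2 _ m1]
        ring)
    have h2 : ∀ u ∈ D.S A, Commute ((y s * (y s')⁻¹)⁻¹ * ((y s')⁻¹ * y s)) u := fun u hu =>
      H.cent (RGD.le_Sup (X := D.X) (S := Orb D θ) ⟨0, rfl⟩ h1) (hAU hu)
    have h3 := mul_pow_central (mul_inv_cancel_left _ _).symm (h2 _ m1) (h2 _ m2) p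
    obtain ⟨j, hj⟩ := hp.dvd_choose_self two_ne_zero (lt_of_le_of_ne hp.two_le (Ne.symm hp2))
    rw [hj, pow_mul, X_pow_p H.root h1, one_pow, mul_one, inv_pow, show y s ^ p = y s' ^ p from e1, mul_inv_cancel] at h3
    have h4 := z0 _ (mul_mem m1 m2) (by rw [map_mul, map_inv, hFy s hs, hFy s' hs']) h3 b hb
    rw [K.mul b hb _ m1 _ m2, K.inv hb (hy s' hs'), hκ s hs, hκ s' hs'] at h4
    exact hne (by linear_combination h4)
  subst p2
  have sq : ∀ y ∈ D.S A, F y = y → ∀ b ∈ B, κ b y ≠ 0 → y ^ 2 = a := fun y hy hFy b hb h => by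
    obtain ⟨i, hi, e⟩ := exists_pow_lt two_pos hap (pw y hy hFy)
    interval_cases i
    · exact absurd (z0 y hy hFy (by rw [e, pow_zero]) b hb) h
    · rw [e, pow_one]
  have add2 : ∀ {s t : k}, s ≠ t → s + t ≠ 0 := fun {s t} h h' => h (by
    linear_combination h' - t * (CharP.cast_eq_zero k 2 : ((2 : ℕ) : k) = 0))
  obtain ⟨s₁, e₁, n₁⟩ := exists_sol_ne (p := 2) hC hd0
  obtain ⟨s₂, e₂, n₂⟩ := exists_sol (p := 2) hC hd0 (E := {0, s₁}) (Set.toFinite _) (by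
    have := Set.ncard_insert_le (0 : k) {s₁}
    rw [Set.ncard_singleton] at this
    exact lt_of_le_of_lt this (lt_of_lt_of_le (by norm_num) (Nat.pow_le_pow_right two_pos hd)))
  simp only [Set.mem_insert_iff, Set.mem_singleton_iff, not_or] at n₂
  obtain ⟨y₁, m₁, f₁, k₁, o₁⟩ := hy s₁ e₁
  obtain ⟨y₂, m₂, f₂, k₂, o₂⟩ := hy s₂ e₂
  have q₁ := sq y₁ m₁ f₁ b hb (k₁ ▸ n₁)
  have three : ∀ y₃ ∈ D.S A, F y₃ = y₃ → ∀ c ∈ B, κ c y₃ ≠ 0 → κ c y₁ + κ c y₃ ≠ 0 → κ c y₂ + κ c y₃ ≠ 0 →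
      κ c y₁ + (κ c y₂ + κ c y₃) ≠ 0 → False := fun y₃ m₃ f₃ c hc h1 h2 h3 h4 =>
    no_three ha1 q₁ (sq y₂ m₂ f₂ b hb (k₂ ▸ n₂.1)) (sq y₃ m₃ f₃ c hc h1)
      (sq _ (mul_mem m₁ m₂) (by rw [map_mul, f₁, f₂]) b hb (by
        rw [K.mul b hb _ m₁ _ m₂, k₁, k₂]; exact add2 (Ne.symm n₂.2)))
      (sq _ (mul_mem m₁ m₃) (by rw [map_mul, f₁, f₃]) c hc (by rwa [K.mul c hc _ m₁ _ m₃]))
      (sq _ (mul_mem m₂ m₃) (by rw [map_mul, f₂, f₃]) c hc (by rwa [K.mul c hc _ m₂ _ m₃]))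
      (sq _ (mul_mem m₁ (mul_mem m₂ m₃)) (by rw [map_mul, map_mul, f₁, f₂, f₃]) c hc (by
        rwa [K.mul c hc _ m₁ _ (mul_mem m₂ m₃), K.mul c hc _ m₂ _ m₃]))
  have d2 : Function.minimalPeriod D.g b = 2 := by
    by_contra h1
    obtain ⟨s₃, e₃, n₃⟩ := exists_sol (p := 2) hC hd0 (E := {0, s₁, s₂, s₁ + s₂}) (Set.toFinite _) (by
      have h2 := Set.ncard_insert_le (0 : k) {s₁, s₂, s₁ + s₂}
      have h3 := Set.ncard_insert_le s₁ {s₂, s₁ + s₂}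
      have h4 := Set.ncard_insert_le s₂ {s₁ + s₂}
      rw [Set.ncard_singleton] at h4
      have h5 : 2 ^ 3 ≤ 2 ^ Function.minimalPeriod D.g b := Nat.pow_le_pow_right two_pos (by omega)
      omega)
    simp only [Set.mem_insert_iff, Set.mem_singleton_iff, not_or] at n₃
    obtain ⟨y₃, m₃, f₃, k₃, -⟩ := hy s₃ e₃
    refine three y₃ m₃ f₃ b hb (k₃ ▸ n₃.1) ?_ ?_ ?_
    · rw [k₁, k₃]; exact add2 (Ne.symm n₃.2.1)
    · rw [k₂, k₃]; exact add2 (Ne.symm n₃.2.2.1)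
    · rw [k₁, k₂, k₃, ← add_assoc]; exact add2 (Ne.symm n₃.2.2.2)
  have gg : D.g (D.g b) = b := by
    have := Function.isPeriodicPt_minimalPeriod D.g b
    rwa [d2] at this
  have orb : ∀ i, D.g^[i] b = b ∨ D.g^[i] b = D.g b := fun i => by
    induction i with
    | zero => exact Or.inl rfl
    | succ i ih =>
      rw [Function.iterate_succ_apply']
      rcases ih with h | h <;> rw [h]
      exacts [Or.inr rfl, Or.inl gg]
  have hB2 : B = {b, D.g b} := by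
    refine Set.Subset.antisymm (fun c hc => ?_) (by rintro _ (rfl | rfl); exacts [hb, gB b hb])
    by_contra h1
    have z : ∀ y, (∀ a ∈ B, κ a y ≠ 0 → ∃ i, D.g^[i] b = a) → κ c y = 0 := fun y h => by
      by_contra h2
      obtain ⟨i, rfl⟩ := h c hc h2
      exact h1 (orb i)
    obtain ⟨C', hC', hy'⟩ := K.exists_orbit H.ex gA gB hc
    obtain ⟨s, hs, hs0⟩ := exists_sol_ne (p := 2) hC'
      (Nat.mul_pos H.he (Function.minimalPeriod_pos_of_mem_periodicPts (periodic hc.1)))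
    obtain ⟨y₃, m₃, f₃, k₃, -⟩ := hy' s hs
    refine three y₃ m₃ f₃ c hc ?_ ?_ ?_ ?_ <;> simp only [z y₁ o₁, z y₂ o₂, k₃, zero_add] <;> exact hs0
  have b1 : cpr D.cs D.h b θ = 1 := le_antisymm (one b hb.1 hb.2.1) hb.2.2
  have hsum : θ = b + D.g b := by
    have h1 : θ - b ∈ B := by
      refine ⟨?_, fun e => (hb.1 : D.Rt b).ne_zero (sub_eq_self.1 e), by rw [cpr_sub, hθ2, b1]; omega⟩
      have := (isRoot_refl D.cs D.h hb.1 H.root).neg
      rwa [b1, one_smul, neg_sub] at this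
    rw [hB2] at h1
    rcases h1 with h1 | h1
    · exact absurd (by rw [two_smul]; exact sub_eq_iff_eq_add.1 h1) (ne_two_smul H.root b)
    · rw [← h1, add_sub_cancel]
  refine ⟨rfl, b, hB2, gg, hsum, b1, fun hcm => ?_, y₁, hAU m₁, f₁, by
    rw [show 4 = 2 * 2 from rfl, pow_mul, q₁, hap], q₁ ▸ ha1⟩
  have hcomm : ∀ u ∈ D.S A, ∀ v ∈ D.S A, u * v = v * u := fun u hu v hv => by
    refine comm_S_S (fun c hc c' hc' u hu v hv => ?_) hu hv
    by_cases h1 : c = θ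
    · exact H.cent (RGD.le_Sup (X := D.X) (S := Orb D θ) ⟨0, h1.symm⟩ hu) (hAU (RGD.le_Sup (X := D.X) hc' hv))
    by_cases h2 : c' = θ
    · exact (H.cent (RGD.le_Sup (X := D.X) (S := Orb D θ) ⟨0, h2.symm⟩ hv) (hAU (RGD.le_Sup (X := D.X) hc hu))).symm
    have h3 : c ∈ B := ⟨hc.1, h1, hc.2⟩
    have h4 : c' ∈ B := ⟨hc'.1, h2, hc'.2⟩
    rw [hB2] at h3 h4
    rcases h3 with rfl | rfl <;> rcases h4 with rfl | rfl
    exacts [x_comm hc.1 hu hv, hcm u hu v hv, (hcm v hv u hu).symm, x_comm hc.1 hu hv]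
  refine ha1 (q₁ ▸ S_ind K.root (P := fun y => y ^ 2 = 1) (one_pow 2) (fun c hc s => x_pow_p hc.1 s)
    (fun u hu v hv h1 h2 => ?_) m₁)
  rw [Commute.mul_pow (hcomm u hu v hv), h1, h2, mul_one]

end EC

end Cfsg.Agent.SB.Exc.Max
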