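import Cfsg.Agent.SB.Exc.Max.Top

/-!
# S5765, `BoxMax`: the main argument (helper50)

`SQ.stepB`, `SQ.stepD` : the form of a lift fixing `U₁ ^ σ`; `SQ.not_odd`, `SQ.not_graph`, `SQ.not_inner`; `boxMain_of`.
-/

set_option autoImplicit false
set_option linter.unusedSectionVars false
set_option linter.unusedVariables false
set_option maxHeartbeats 400000

namespace Cfsg.Agent.SB.Exc.Max

open CoxeterSystem Cfsg.Agent.ChevalleyStructure.CoxeterGeom Cfsg.Agent.Tits.Roots Cfsg.Agent.Nodes.Reps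
  Cfsg.Agent.Nodes.BNOf Cfsg.Agent.Nodes.Bruhat Cfsg.Agent.LangThm Cfsg.Agent.Nodes.SubComb
  Cfsg.Agent.Nodes.Coroot Cfsg.Agent.Nodes.Slope Cfsg.Agent.Nodes.NormalForm Cfsg.Agent.DL.Base Cfsg.Agent.DL
  Cfsg.Agent.BpExc.Zc
open scoped Pointwise commutatorElement

attribute [local instance] fintypeSmp decSmp

variable {p : ℕ} [Fact p.Prime] {k : Type} [Field k] [CharP k p] {Y : Type} [Group Y] {N : Type} [Fintype N]
  [DecidableEq N] {ρ : Y →* GL N k} {σ : MulAut Y} [IsAlgClosed k]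

section Gen

variable {G : Subgroup Y} {D : Datum p ρ σ G}

theorem exists_pos_twist {Z : Set Y} (hZ : Z ⊆ D.T) (hF : ∀ a ∈ D.Sz Z, D.g a ∈ D.Sz Z) :
    ∃ m ∈ D.NN, m ∈ D.cen Z ∧ ∀ a ∈ Ps D Z, D.act (D.pr m) (D.g a) ∈ Ps D Z := by
  obtain ⟨m, hm, -⟩ := (D.sub hZ hF rfl).exists_rp (D.sub hZ hF rfl).wF⁻¹
  have h1 := D.rp_of_sub hZ hF rfl hm
  refine ⟨m, ⟨_, h1⟩, Datum.Rp.mem_G hm, fun a ha => ?_⟩
  obtain ⟨c, hc, rfl⟩ := exists_io hZ hF rfl ha.2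
  have h2 := ((D.sub hZ hF rfl).wF_spec hc).2 ((io_nonneg hZ hF rfl hc).1 ha.1.2)
  have h3 := ((D.sub hZ hF rfl).g_root c hc).act (D.sub hZ hF rfl).wF⁻¹
  rw [Datum.Rp.pr_eq h1, ← D.sub_g hZ hF rfl hc, D.act_subW hZ hF rfl]
  exact ⟨⟨(io_mem hZ hF rfl h3).1, iota_nonneg h2⟩, io_mem hZ hF rfl h3⟩

theorem exists_crd_Ps {Z : Set Y} (hZ : Z ⊆ D.T) (hF : ∀ a ∈ D.Sz Z, D.g a ∈ D.Sz Z) (cz : CommZ D.cs D.h D.X) :
    ∃ κ, Crd D (Ps D Z) (Bs D Z) κ := by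
  refine exists_crd (crel_cz cz) (fun _ => Ps.root) htHom ht_Ps (fun _ => bs_mem_Ps) ?_
  rintro a ha a' ha' hne c ⟨⟨hc, i, j, hi, hj, e⟩, -⟩
  refine ⟨⟨⟨hc, ?_⟩, ?_⟩, fun hb => not_btwn_Bs hZ hF ha ha' hne hb ⟨hc, 1, i, j, one_pos, hi, hj, by rw [one_smul, e]⟩⟩
  · rw [e]
    exact add_nonneg (smul_nonneg hi.le ha.1.2) (smul_nonneg hj.le ha'.1.2)
  · rw [e] at hc ⊢
    exact Sz_sub ha.2 ha'.2 hc

theorem Ps_le_U {Z : Set Y} : D.S (Ps D Z) ≤ D.U := RGD.Sup_mono Set.inter_subset_left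

theorem act_pow_eq {w : D.W} {a : D.I → ℤ} (h : D.act w a = a) (i : ℕ) : D.act (w ^ i) a = a := by
  induction i with
  | zero => rw [pow_zero, act_one]
  | succ i ih => rw [pow_succ, act_mul, h, ih]

theorem act_ne_neg {w : D.W} {s : ℕ} (hs : Odd s) (hw : w ^ s = 1) {a : D.I → ℤ} (ha : D.Rt a) : D.act w a ≠ -a := by
  intro h
  obtain ⟨n, rfl⟩ := hs
  have h1 : D.act (w ^ 2) a = a := by rw [pow_two, act_mul, h, act_neg, h, neg_neg]
  have h2 := act_pow_eq h1 n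
  have h3 : D.act (w ^ (2 * n + 1)) a = -a := by rw [pow_succ, act_mul, h, act_neg, pow_mul, h2]
  rw [hw, act_one] at h3
  have h4 := congrArg htHom h3
  rw [map_neg] at h4
  exact ht_ne_zero ha (by omega)

theorem Graph.conj {φ : MulAut Y} (H : Graph D φ) {y : Y} (hy : y ∈ G) (hF : y⁻¹ * σ y ∈ D.NN) :
    Graph (D.conj hy hF) φ := ⟨H.1, H.2.1.conj hy hF, H.2.2.conj hy hF⟩

theorem OddD.conj {φ : MulAut Y} (H : OddD D φ) {y : Y} (hy : y ∈ G) (hF : y⁻¹ * σ y ∈ D.NN) :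
    OddD (D.conj hy hF) φ := ⟨H.1.imp fun _ h => h.conj hy hF, H.2⟩

end Gen

namespace SQ

variable {D : Datum p ρ σ ⊤} {e : ℕ} {Γ : Subgroup (MulAut Y)} {K R F0 Z : Subgroup Y} (H : SQ D e Γ K R F0 Z)
include H

theorem g_Bs : ∀ a ∈ Bs D Z, D.g a ∈ Bs D Z := fun _ => g_mem_Bs H.hyp.ex H.g_Ps

/-- a lift fixing `U₁ ^ σ` normalises `U₁` -/
theorem stepB {ψ : MulAut Y} (hψ : ψ ∈ Γ) {ex : (D.I → ℤ) → ℕ} (h : IsFA D ψ ex)
    (hf : ∀ u ∈ D.S (Ps D Z), σ u = u → ψ u = u) :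
    ∃ u ∈ D.S (Ps D Z), ∃ β h, FA D β h ex ∧ ψ = MulAut.conj u * β ∧ ∀ a ∈ Ps D Z, h a ∈ Ps D Z := by
  obtain ⟨c, hc, β, h, hβ, e1, hZ⟩ := H.str hψ h
  obtain ⟨m₁, hm₁, hm₁', h1⟩ := exists_pos_twist (D := hβ.dat) (Z := Z) H.le fun a ha => hβ.dat.g_mem_Sz H.le hZ ha
  replace hm₁ : m₁ ∈ D.NN := hm₁
  replace hm₁' : m₁ ∈ D.cen Z := hm₁'
  replace h1 : ∀ a ∈ Ps D Z, D.act (D.pr m₁) (h a) ∈ Ps D Z := h1
  obtain ⟨v, u, hu, m, -, hm, u', hu', e2⟩ := sub_nf H.le H.hF (mul_mem (D.S_le_cen _ hc) (inv_mem hm₁'))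
  obtain ⟨κ, C⟩ := exists_crd_Ps H.le H.hF H.hyp.cz
  have hr : ∀ b ∈ Bs D Z, D.Rt b := fun _ hb => (bs_mem_Ps hb).1.1
  obtain ⟨t, t1, t2⟩ := exists_full (p := p) (cF_ne (D := D)) H.hyp.he (D.finite_roots.subset hr) (g_injOn hr) H.g_Bs
    fun b hb => periodic (hr b hb)
  obtain ⟨y, hy, hσ, h4⟩ := C.exists_fix H.g_Ps H.g_Bs (t := t) fun b hb => by rw [H.hyp.ex b (hr b hb), t1 b hb]
  have e3 : c = u * m * u' * m₁ := by rw [← e2, inv_mul_cancel_right]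
  have h5 : (MulAut.conj m₁ * β) y ∈ D.S (Ps D Z) := (hβ.twist hm₁).dat.F_mem_S (fun _ => Ps.root) h1 hy
  have h6 : u⁻¹ * y * u⁻¹⁻¹ = m * (u' * (MulAut.conj m₁ * β) y * u'⁻¹) * m⁻¹ := by
    have := hf y hy hσ
    rw [e1, e3, MulAut.mul_apply, MulAut.conj_apply] at this
    rw [MulAut.mul_apply, MulAut.conj_apply]
    generalize β y = y' at this
    rw [← this]
    group
  have h7 : u⁻¹ * y * u⁻¹⁻¹ ∈ D.S (Ps D Z) := mul_mem (mul_mem (inv_mem hu) hy) (inv_mem (inv_mem hu))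
  have h8 : u⁻¹ * y * u⁻¹⁻¹ ∈ D.S (RGD.Pos D.cs D.h ∩ D.act (D.subW Z v) '' RGD.Pos D.cs D.h) :=
    inf_S D.uni_pos (D.uni_pos.act _) (Ps_le_U h7) (h6 ▸ D.conj_mem_S hm (fun _ h => h.1)
      (fun a ha => Set.mem_image_of_mem _ ha) (Ps_le_U (mul_mem (mul_mem hu' h5) (inv_mem hu'))))
  have h9 : u⁻¹ * y * u⁻¹⁻¹ ∈ D.S (RGD.Pos D.cs D.h ∩ D.act (D.subW Z v) '' RGD.Pos D.cs D.h ∩ D.Sz Z) := by
    rw [← (D.uni_pos.subset (D.cl_pos.inter (D.uni_pos.act _).cl) Set.inter_subset_left).inf_centralizer H.le]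
    exact ⟨h8, D.cen_le_centralizer H.le (D.S_le_cen _ (H.U_le h7))⟩
  have h10 : v⁻¹ = 1 := subW_eq_one H.le H.hF fun b hb => by
    by_contra h0
    have h11 := C.zero_of_mem hb (fun a ha => ⟨ha.1.1, ha.2⟩) (fun h12 => h0 ?_) h9
    · rw [C.conj hb (inv_mem hu) hy, h4 b hb] at h11
      exact t2 b hb h11
    · obtain ⟨⟨-, a, ha, rfl⟩, -⟩ := h12
      rw [map_inv, act_inv_act]
      exact ha.2
  rw [inv_eq_one.1 h10, map_one] at hm
  have hT := hm.mem_of_one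
  refine ⟨u * (m * u' * m⁻¹), mul_mem hu (D.conj_mem_S_of_T (fun _ => Ps.root) hT hu'), _, _,
    hβ.twist (mul_mem (D.T_le_NN hT) hm₁), ?_, fun a ha => ?_⟩
  · rw [e1, e3, ← mul_assoc, ← map_mul]
    congr 2
    group
  · rw [D.pr_mul (D.T_le_NN hT) hm₁, Datum.Rp.pr_eq hm, one_mul]
    exact h1 a ha

/-- comparison with `σ` on the simple root groups -/
theorem stepD {u : Y} (hu : u ∈ D.S (Ps D Z)) {β : MulAut Y} {h : (D.I → ℤ) → (D.I → ℤ)} (hβ : FA D β h fun _ => 1)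
    (hh : ∀ a ∈ Ps D Z, h a ∈ Ps D Z) (hf : ∀ y ∈ D.S (Ps D Z), σ y = y → u * β y * u⁻¹ = y) {b : D.I → ℤ}
    (hb : b ∈ Bs D Z) : h b = D.g b ∧ ∀ s, β (D.x b s) = σ (D.x b s) := by
  obtain ⟨κ, C⟩ := exists_crd_Ps H.le H.hF H.hyp.cz
  have hb0 := bs_mem_Ps hb
  have hr : D.Rt b := hb0.1.1
  have he := H.shape.1
  have hb' : h b ∈ Bs D Z := g_mem_Bs (D := hβ.dat) (e := 1) (fun _ _ => rfl) hh hb
  obtain ⟨d, hd, hx⟩ := hβ.x b hr
  have key : ∀ y ∈ D.S (Ps D Z), σ y = y → κ (h b) y = d * κ b y ^ p ^ 1 ∧ κ (D.g b) y = cF D b * κ b y ^ p ^ 1 :=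
    fun y hy hσ => by
      constructor
      · rw [← C.map β hh (fun a ha s => hβ.dat.F_mem_X ha.1.1 (D.x_mem ha.1.1 s)) hb hb'
          (fun a ha e => hβ.dat.g_inj ha.1.1 hr e) hx hy,
          ← C.conj hb' hu (hβ.dat.F_mem_S (fun _ => Ps.root) hh hy), hf y hy hσ]
      · have := C.mapF H.g_Ps hb (H.g_Bs b hb) hy
        rwa [hσ, H.hyp.ex b hr, he] at this
  have h2 : D.g (D.g b) = b := by
    obtain ⟨θ, -, -, h1, rfl | ⟨-, h2⟩⟩ := H.cov hb0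
    · rw [h1, h1]
    · exact h2
  obtain ⟨c, hc, h3⟩ := C.exists_orbit H.hyp.ex H.g_Ps H.g_Bs hb
  have hm := Function.minimalPeriod_pos_of_mem_periodicPts (periodic (D := D) hr)
  have hp1 : 1 < p := (Fact.out : p.Prime).one_lt
  have h4 : h b = D.g b := by
    by_contra h4
    have h5 : D.g b = b ∨ 2 ≤ Function.minimalPeriod D.g b := by
      by_contra h5
      push Not at h5
      exact h5.1 (Function.minimalPeriod_eq_one_iff_isFixedPt.1 (by omega))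
    obtain ⟨s, s1, s2⟩ := exists_sol (p := p) hc (Nat.mul_pos H.hyp.he hm)
      (E := if D.g b = b then {0} else {s | d * s ^ p ^ 1 = s})
      (by
        split_ifs
        · exact Set.finite_singleton _
        · exact Set.finite_of_ncard_pos (by rw [ncard_sol hd one_pos]; positivity))
      (by
        split_ifs with h6
        · rw [Set.ncard_singleton]
          exact Nat.one_lt_pow (Nat.mul_pos H.hyp.he hm).ne' hp1
        · rw [ncard_sol hd one_pos, he, one_mul]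
          exact Nat.pow_lt_pow_right hp1 (h5.resolve_left h6))
    have s0 : s ≠ 0 := fun h0 => s2 (by
      split_ifs
      · exact h0
      · show d * s ^ p ^ 1 = s
        rw [h0, zero_pow (by positivity), mul_zero])
    obtain ⟨y, hy, hσ, rfl, h6⟩ := h3 s s1
    have h7 := (key y hy hσ).1
    obtain ⟨i, hi⟩ := h6 _ hb' (by rw [h7]; exact mul_ne_zero hd (pow_ne_zero _ s0))
    have h8 : ∀ i, D.g^[i] b = b ∨ D.g^[i] b = D.g b := fun i => by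
      induction i with
      | zero => exact Or.inl rfl
      | succ i ih =>
        rw [Function.iterate_succ_apply']
        rcases ih with h | h <;> rw [h]
        exacts [Or.inr rfl, Or.inl h2]
    have h9 : h b = b := hi ▸ (h8 i).resolve_right fun h9 => h4 (hi ▸ h9)
    rw [if_neg fun h10 => h4 (h9.trans h10.symm)] at s2
    rw [h9] at h7
    exact s2 h7.symm
  refine ⟨h4, fun s => ?_⟩
  obtain ⟨s, s1, s0⟩ := exists_sol_ne (p := p) hc (Nat.mul_pos H.hyp.he hm)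
  obtain ⟨y, hy, hσ, rfl, -⟩ := h3 s s1
  obtain ⟨h7, h8⟩ := key y hy hσ
  rw [h4, h8] at h7
  rw [hx, F_x hr, H.hyp.ex b hr, he, h4, mul_right_cancel₀ (pow_ne_zero _ s0) h7]

theorem exists_Ps : ∃ a, a ∈ Ps D Z := by
  obtain ⟨a, ha⟩ := H.rt
  exact (pos_or_neg_Ps ha).elim (fun h => ⟨_, h⟩) fun h => ⟨_, h⟩

theorem not_odd {φ : MulAut Y} (hφ : φ ∈ Γ) (hf : ∀ u ∈ D.S (Ps D Z), σ u = u → φ u = u) : ¬ OddD D φ := by
  rintro ⟨⟨ex, h⟩, n, hn, hq⟩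
  obtain ⟨u, hu, β, h, hβ, e1, -⟩ := H.stepB hφ h hf
  obtain ⟨a, ha⟩ := H.exists_Ps
  obtain ⟨θ, hθ, hd, hg, -⟩ := H.cov ha
  have hr : D.Rt θ := hθ.1.1
  obtain ⟨s, s1, s0⟩ := exists_sol_ne (p := p) (cF_ne (D := D) θ) H.hyp.he
  have h1 := hf _ (x_mem_S hθ hr s) (by rw [F_x hr, H.hyp.ex θ hr, hg, s1])
  have h2 := H.comm_U hu (x_mem_S (A := S0 D Z) ⟨hr, hd, θ, hθ, by rw [cpr_self _ _ hr]; omega⟩ hr s)
  have h3 : β (D.x θ s) = D.x θ s := by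
    rw [e1, MulAut.mul_apply, MulAut.conj_apply, mul_inv_eq_iff_eq_mul, ← h2] at h1
    exact mul_left_cancel h1
  have h4 : h θ = θ := by
    by_contra h4
    exact s0 ((D.x_eq_one_iff hr).1 (D.eq_one_of_mem_X_X (hβ.root θ hr) hr h4
      (h3 ▸ hβ.dat.F_mem_X hr (D.x_mem hr s)) (D.x_mem hr s)))
  have h5 := hq u⁻¹
  rw [e1, ← mul_assoc, ← map_mul, inv_mul_cancel, map_one, one_mul] at h5
  have h6 : ∑ i ∈ Finset.range 1, ∑ j ∈ Finset.range 2, ex (h^[j] ((h^[2])^[i] θ)) = n * 1 :=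
    h5.sum_ex (hβ.dat.pow two_pos) hr one_pos (show h (h θ) = θ by rw [h4, h4])
  simp only [Finset.sum_range_succ, Finset.sum_range_zero, Function.iterate_zero, Function.iterate_succ, id,
    Function.comp, h4] at h6
  obtain ⟨j, rfl⟩ := hn
  omega

theorem not_graph (hE : BoxE6) {φ : MulAut Y} (hφ : φ ∈ Γ) (hf : ∀ u ∈ D.S (Ps D Z), σ u = u → φ u = u) :
    ¬ Graph D φ := by
  rintro ⟨h6, h, y, w, h1, h2⟩
  have hf' : ∀ u ∈ D.S (Ps D Z), σ u = u → (σ * φ) u = u := fun u hu hσ => by rw [MulAut.mul_apply, hf u hu hσ, hσ]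
  obtain ⟨u, hu, β, h, hβ, e1, hh⟩ := H.stepB (mul_mem H.gc.σ_mem hφ) h hf'
  have e2 : ∀ t, (MulAut.conj y * φ) t = y * σ⁻¹ u * σ⁻¹ (β t) * (y * σ⁻¹ u)⁻¹ := fun t => by
    rw [eq_inv_mul_iff_mul_eq.2 e1]
    simp only [MulAut.mul_apply, MulAut.conj_apply, map_mul, map_inv]
    group
  have hn : y * σ⁻¹ u ∈ D.NN := D.mem_NN_of_conj (Subgroup.mem_top _) fun t ht => by
    have := h1 (β⁻¹ (σ t)) ((hβ.dat.F_mem_T_iff _).1 (by rw [MulAut.apply_inv_self]; exact D.F_mem_T ht))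
    rwa [e2, MulAut.apply_inv_self, MulAut.inv_apply_self] at this
  refine hE p k Y N ρ σ D e Γ K R F0 Z H.toSit H.dc h6 (w⁻¹ * D.pr (y * σ⁻¹ u)) fun a ha => ?_
  refine map_eq_of_Bs (rep D.cs D.h (w⁻¹ * D.pr (y * σ⁻¹ u))).toAddMonoidHom (-AddMonoidHom.id _) (fun b hb => ?_) ha
  have hr : D.Rt b := (bs_mem_Ps hb).1.1
  have h3 := (H.stepD hu hβ hh (fun y hy hσ => by have := hf' y hy hσ; rwa [e1] at this) hb).2 1
  have h4 := h2 b hr _ (D.x_mem hr 1)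
  rw [e2, h3, MulAut.inv_apply_self] at h4
  have h5 : D.act (D.pr (y * σ⁻¹ u)) b = -D.act w b := by
    by_contra h5
    have := D.eq_one_of_mem_X_X (hr.act _) (hr.act _).neg h5 (D.conj_mem (D.rp_pr hn) hr (D.x_mem hr 1)) h4
    rw [conj_eq_one_iff, D.x_eq_one_iff hr] at this
    exact one_ne_zero this
  show D.act _ b = -b
  rw [act_mul, h5, act_neg, act_inv_act]

theorem not_inner (hP : BoxPerp) {κ : (D.I → ℤ) → Y → k} (C : Crd D (S0 D Z) (B2 D Z) κ) {x : Y} (hx : x ∈ D.S (S0 D Z))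
    (hκ : ∀ b ∈ B2 D Z, κ b x ≠ 0) {φ : MulAut Y} (hφ : Bad Γ R F0 x φ) : ¬ Inner p φ := by
  rintro ⟨y, s, hs, hsp, hy, hy1, rfl⟩
  have hf : ∀ u ∈ D.S (Ps D Z), σ u = u → y * u * y⁻¹ = u := fun u hu hσ => H.fixU C hx hκ hφ hu hσ
  have he := H.shape.1
  obtain ⟨hI, hP2⟩ := hP p k Y N ρ σ D e Γ K R F0 Z H.toSit H.dc
  have hσy : σ y = y := by
    have := H.gc.cent (y⁻¹ * σ y) fun z hz => by
      have h1 := H.gc.comm _ hφ.mem z
      rw [MulAut.conj_apply, MulAut.conj_apply, map_mul, map_mul, map_inv, H.gc.fix z hz] at h1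
      calc y⁻¹ * σ y * z = y⁻¹ * (σ y * z * (σ y)⁻¹) * σ y := by group
        _ = z * (y⁻¹ * σ y) := by rw [h1]; group
    exact (inv_mul_eq_one.1 this).symm
  have hf' : ∀ u ∈ D.S (Ps D Z), σ u = u → (MulAut.conj y * σ) u = u := fun u hu hσ => by
    rw [MulAut.mul_apply, hσ]
    exact hf u hu hσ
  obtain ⟨u, hu, β, h, hβ, e1, hh⟩ := H.stepB (mul_mem hφ.mem H.gc.σ_mem)
    ⟨y, σ, _, (fa_self D).congr (ex' := fun _ => 1) fun a ha => by rw [H.hyp.ex a ha, he], rfl⟩ hf'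
  have e2 : ∀ t, β (σ⁻¹ t) = u⁻¹ * y * t * (u⁻¹ * y)⁻¹ := fun t => by
    rw [← inv_mul_eq_iff_eq_mul.2 e1]
    simp only [MulAut.mul_apply, MulAut.conj_apply, ← map_inv, MulAut.apply_inv_self]
    group
  have hn : u⁻¹ * y ∈ D.NN := D.mem_NN_of_conj (Subgroup.mem_top _) fun t ht => by
    rw [← e2]
    exact hβ.dat.F_mem_T ((D.F_mem_T_iff _).1 (by rwa [MulAut.apply_inv_self]))
  have hσu : σ u = u := by
    have h1 := (D.eq_of_mem_UNU (Ps_le_U (D.F_mem_S (fun _ => Ps.root) H.g_Ps hu)) (Ps_le_U hu)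
      (D.rp_pr (D.F_mem_NN hn)) (D.rp_pr hn) (one_mem _) (one_mem _) (by
        rw [mul_one, mul_one, ← map_mul, mul_inv_cancel_left, hσy])).2
    rw [map_mul, hσy, map_inv, mul_left_inj, inv_inj] at h1
    exact h1
  have hu1 : u = 1 := by
    have hc : Commute u⁻¹ y := Commute.inv_left (mul_inv_eq_iff_eq_mul.1 (hf u hu hσu)).symm
    have h1 : (u⁻¹ * y) ^ s = u⁻¹ ^ s := by rw [hc.mul_pow, hy, mul_one]
    have h2 := (D.eq_of_mem_UNU (one_mem _) (pow_mem (inv_mem (Ps_le_U hu)) s) (D.rp_pr (pow_mem hn s))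
      (D.rp_pr (one_mem _)) (one_mem _) (one_mem _) (by rw [one_mul, mul_one, mul_one, mul_one, h1])).2
    rw [h1, inv_pow, inv_eq_one] at h2
    obtain ⟨j, hj⟩ := pel_of_pos (fun _ => Ps.root) _ ht_Ps hu
    have h3 := pow_gcd_eq_one.2 ⟨h2, hj⟩
    rwa [Nat.Coprime.pow_right j ((Nat.coprime_primes hs Fact.out).2 hsp), pow_one] at h3
  subst hu1
  rw [inv_one, one_mul] at hn e2
  have h1 : ∀ b ∈ Bs D Z, ∀ t, y * D.x b t * y⁻¹ = D.x b t := fun b hb t => by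
    obtain ⟨b, hb', rfl⟩ := (D.g_bijOn (fun _ h => (bs_mem_Ps h).1.1) H.g_Bs).surjOn hb
    have hr : D.Rt b := (bs_mem_Ps hb').1.1
    obtain ⟨t', ht'⟩ := (D.mem_X b hr (σ⁻¹ (D.x (D.g b) t))).1 ((D.F_mem_X_iff hr _).1
      (by rw [MulAut.apply_inv_self]; exact D.x_mem (D.g_root b hr) t))
    rw [← e2, ← ht', (H.stepD hu hβ hh (fun y hy hσ => by have := hf' y hy hσ; rwa [e1] at this) hb').2, ht',
      MulAut.apply_inv_self]
  have h2 : ∀ a ∈ D.Sz Z, D.act (D.pr y) a = a := fun a ha =>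
    map_eq_of_Bs (rep D.cs D.h (D.pr y)).toAddMonoidHom (AddMonoidHom.id _) (fun b hb => by
      have hr : D.Rt b := (bs_mem_Ps hb).1.1
      by_contra h3
      exact one_ne_zero ((D.x_eq_one_iff hr).1 (D.eq_one_of_mem_X_X (hr.act _) hr h3
        (h1 b hb 1 ▸ D.conj_mem (D.rp_pr hn) hr (D.x_mem hr 1)) (D.x_mem hr 1)))) ha
  have h3 : D.pr y ^ s = 1 := by
    have : ∀ n : ℕ, D.pr (y ^ n) = D.pr y ^ n := fun n => by
      induction n with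
      | zero => rw [pow_zero, pow_zero]; exact (D.pr_eq_one_iff (one_mem _)).2 (one_mem _)
      | succ n ih => rw [pow_succ, pow_succ, D.pr_mul (pow_mem hn n) hn, ih]
    rw [← this, hy]
    exact (D.pr_eq_one_iff (one_mem _)).2 (one_mem _)
  have h4 : ∀ i a, ∀ c ∈ D.Sz Z, cpr D.cs D.h (D.act (D.pr y ^ i) a) c = cpr D.cs D.h a c := fun i a c hc => by
    rw [← cpr_act (D.pr y ^ i) a hc.1, act_pow_eq (h2 c hc)]
  have hT : y ∈ D.T := (D.pr_eq_one_iff hn).1 (eq_one_of_sum D h3 fun a ha h0 => by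
    by_cases h5 : a ∈ Perp D (D.Sz Z)
    · have h6 : Odd s := hs.odd_of_ne_two fun h6 => by
        rw [hP2 fun h7 => hsp (h6.trans h7.symm)] at h5
        exact h5
      have h7 := congrArg (el D.cs D.h a) h0
      rw [map_sum, map_zero] at h7
      refine (Finset.sum_pos' (fun i _ => ?_) ⟨0, Finset.mem_range.2 hs.pos, ?_⟩).ne' h7
      · rcases hI.orth (fun c hc => ⟨hc.1.neg, fun d hd => by rw [cpr_neg', hc.2 d hd, neg_zero]⟩) h5
          (b := D.act (D.pr y ^ i) a) ⟨ha.act _, fun c hc => by rw [h4 i a c hc, h5.2 c hc]⟩ with h | h | h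
        · rw [el_apply, h, cpr_self _ _ ha]
          omega
        · exact absurd h (act_ne_neg h6 (by rw [← pow_mul, mul_comm, pow_mul, h3, one_pow]) ha)
        · exact h.ge
      · rw [el_apply, pow_zero, act_one, cpr_self _ _ ha]
        omega
    · refine h5 ⟨ha, fun c hc => ?_⟩
      have h7 := congrArg (el D.cs D.h c) h0
      rw [map_sum, map_zero, Finset.sum_congr rfl fun i _ => (el_apply _ _ _ _).trans (h4 i a c hc), Finset.sum_const,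
        Finset.card_range, nsmul_eq_mul] at h7
      exact (mul_eq_zero.1 h7).resolve_left (Nat.cast_ne_zero.2 hs.ne_zero))
  have l1 : ∀ a ∈ D.Sz Z, a ∈ D.Lam {y} := fun a => mem_of_Bs _ fun b hb z hz => by
    have hr : D.Rt b := (bs_mem_Ps hb).1.1
    have := h1 b hb 1
    rw [D.tor' hr hT, mul_one] at this
    rw [hz]
    exact D.x_inj b hr this
  have l2 : ∀ b ∈ B1 D Z, b ∈ D.Lam {y} := mem_of_B2 H.dc _ fun b hb z hz => by
    have h5 := D.conj_mem_S_of_T (fun _ h => h.1) hT hx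
    have h6 : x⁻¹ * (y * x * y⁻¹) ∈ D.S (S0 D Z ∩ D.Sz Z) := by
      rw [← (uni_S0 (D := D) Z).inf_centralizer H.le]
      refine Subgroup.mem_inf.2 ⟨mul_mem (inv_mem hx) h5, fun z hz => ?_⟩
      have h7 := H.rk hx hφ hz
      rw [MulAut.conj_apply] at h7
      generalize y * x * y⁻¹ = x' at h7
      calc z * (x⁻¹ * x') = x⁻¹ * (x * z * x⁻¹) * x' := by group
        _ = x⁻¹ * x' * z := by rw [← h7]; group
    have h7 := C.zero_of_mem hb Set.inter_subset_left (fun h => hb.1.2 h.2) h6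
    rw [C.mul b hb _ (inv_mem hx) _ h5, C.inv hb hx, C.tor hb hT hx] at h7
    rw [hz]
    exact mul_right_cancel₀ (hκ b hb) (by linear_combination h7)
  have l3 : ∀ c, D.Rt c → c ∉ Perp D (D.Sz Z) → c ∈ D.Lam {y} := fun c hc h5 => by
    by_contra h6
    obtain ⟨b, hb, hd⟩ := exists_dm (Z := Z) (E := {c | D.Rt c ∧ c ∉ Perp D (D.Sz Z) ∧ c ∉ D.Lam {y}}) (fun _ h => h.1)
      ⟨c, hc, h5, h6⟩ fun c hc a ha h0 => ⟨isRoot_refl _ _ hc.1 ha.1.1, fun h => by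
        have := h.2 a ha.2
        rw [cpr_sub, cpr_smul', cpr_self _ _ ha.1.1] at this
        omega, fun h => hc.2.2 (by simpa using add_mem h ((D.Lam {y}).zsmul_mem (l1 a ha.2) (cpr D.cs D.h c a)))⟩
    refine hb.2.2 (l2 b ⟨⟨hb.1, hd, ?_⟩, fun h => hb.2.2 (l1 b h)⟩)
    by_contra h7
    push Not at h7
    refine hb.2.1 ⟨hb.1, fun a ha => ?_⟩
    rcases pos_or_neg_Ps ha with h | h
    · exact le_antisymm (h7 a h) (hd a h)
    · have := le_antisymm (h7 _ h) (hd _ h)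
      rwa [cpr_neg_right _ _ _ ha.1, neg_eq_zero] at this
  have l4 : ∀ c, D.Rt c → c ∈ D.Lam {y} := fun c hc => by
    by_cases h5 : c ∈ Perp D (D.Sz Z)
    · obtain ⟨c₁, -, -, r₁, -, -, -, -, -, e₁, -⟩ := H.hyp.ir c hc
      have h6 : c₁ ∉ Perp D (D.Sz Z) := fun h => by
        have : c₁ ∈ Nb D.cs D.h (Perp D (D.Sz Z)) c :=
          ⟨h, fun h => by rw [h, cpr_self _ _ hc] at e₁; omega, by omega⟩
        rwa [hI c h5] at this
      have h7 := isRoot_refl _ _ r₁ hc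
      rw [e₁, one_smul] at h7
      simpa using sub_mem (l3 c₁ r₁ h6) (l3 _ h7 fun h => h6 ⟨r₁, fun a ha => by
        have := h.2 a ha
        rwa [cpr_sub, h5.2 a ha, sub_zero] at this⟩)
    · exact l3 c hc h5
  refine hy1 (H.gc.cent y fun z _ => D.cen_le_centralizer (Z := {y}) (Set.singleton_subset_iff.2 hT) ?_ y rfl)
  have l5 : {c | D.Rt c} ⊆ D.Sz {y} := fun c hc => ⟨hc, l4 c hc⟩
  exact (D.G_eq.ge.trans (sup_le_sup_left (RGD.Sup_mono l5) _)) (Subgroup.mem_top z)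

end SQ

theorem Sit.reframe {D : Datum p ρ σ ⊤} {e : ℕ} {Γ : Subgroup (MulAut Y)} {K R F0 Z : Subgroup Y}
    (H : Sit D e Γ K R F0 Z) : ∃ (y : Y) (hy : y ∈ ⊤) (hy' : y⁻¹ * σ y ∈ D.NN), Sit (D.conj hy hy') e Γ K R F0 Z ∧
      ∀ a ∈ (D.conj hy hy').Sz Z, 0 ≤ a → 0 ≤ (D.conj hy hy').g a := by
  obtain ⟨y, hy, hy', h1, -, h2⟩ := exists_reframe D H.le fun _ => H.g_mem
  have h3 : ∀ z ∈ Z, y * z * y⁻¹ = z := fun z hz => by
    rw [← D.cen_le_centralizer H.le h1 z hz, mul_inv_cancel_right]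
  have h4 : ∀ a, ∀ z ∈ Z, (D.conj hy hy').χ a z = D.χ a z := fun a z hz => by
    rw [← D.conj_χ hy hy' a (H.le hz), h3 z hz]
  obtain ⟨b, hb⟩ := H.rt
  refine ⟨y, hy, hy', ⟨H.gc, H.hyp.conj hy hy', fun z hz => ?_, H.ne, H.inv, b, hb.1, fun z hz => ?_⟩,
    fun a ha => h2 a ⟨ha.1, fun z hz => h4 a z hz ▸ ha.2 z hz⟩⟩
  · rw [← h3 z hz]
    exact conj_mem_cj.2 (H.le hz)
  · rw [h4 b z hz]
    exact hb.2 z hz

theorem boxMain_of (hP : BoxPerp) (hF4 : BoxF4) (hE6 : BoxE6) : BoxMain := by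
  intro p _ k _ _ _ Y _ N _ _ ρ σ D e Γ K R F0 Z gc hyp ne inv ⟨x₀, h1, b, hb, h2⟩
  obtain ⟨y, hy, hy', h3, h4⟩ := exists_conj_le_T D (Z := Z) (inv σ gc.σ_mem) (Subgroup.mem_top x₀) h1
  have S1 : Sit (D.conj hy hy') e Γ K R F0 Z := ⟨gc, hyp.conj hy hy', h3, ne, inv, b, hb, fun z hz => by
    rw [← h2 z hz, ← D.conj_χ hy hy' b (h1 z hz), ← h4 z hz]
    congr 1
    group⟩
  obtain ⟨y₂, hy₂, hy₂', S2, q⟩ := S1.reframe
  have H : SQ _ e Γ K R F0 Z := ⟨S2, q, hF4 p k Y N ρ σ _ e Γ K R F0 Z S2⟩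
  obtain ⟨κ, C, x, hx, hK, hκ⟩ := H.exists_x
  refine ⟨H.shape.1, x, hK, fun φ hφ => ?_⟩
  rintro (h | h | h)
  · exact H.not_inner hP C hx hκ hφ h
  · exact H.not_graph hE6 hφ.mem (fun u => H.fixU C hx hκ hφ) ((h.conj hy hy').conj hy₂ hy₂')
  · exact H.not_odd hφ.mem (fun u => H.fixU C hx hκ hφ) ((h.conj hy hy').conj hy₂ hy₂')

end Cfsg.Agent.SB.Exc.Max
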