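import Cfsg.Agent.SB.Exc.Max.Sub

/-!
# S5765, `BoxMax`: the roots orthogonal to the subsystem of `Z`, and the case of `E₆` (helper52)
-/

set_option autoImplicit false
set_option linter.unusedSectionVars false

namespace Cfsg.Agent.SB.Exc.Max

open CoxeterSystem Cfsg.Agent.ChevalleyStructure.CoxeterGeom Cfsg.Agent.Tits.Roots Cfsg.Agent.Nodes.Reps
  Cfsg.Agent.Nodes.BNOf Cfsg.Agent.Nodes.Bruhat Cfsg.Agent.LangThm Cfsg.Agent.Nodes.SubComb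
  Cfsg.Agent.Nodes.Coroot Cfsg.Agent.Nodes.Slope Cfsg.Agent.Nodes.NormalForm Cfsg.Agent.DL.Base Cfsg.Agent.DL
  Cfsg.Agent.BpExc.Zc
open scoped Pointwise commutatorElement

namespace PerpL

variable {p : ℕ} [Fact p.Prime] {k : Type} [Field k] [CharP k p] {Y : Type} [Group Y] {N : Type} [Fintype N]
  [DecidableEq N] {ρ : Y →* GL N k} {σ : MulAut Y} {G : Subgroup Y} [IsAlgClosed k] {D : Datum p ρ σ G}

theorem perp_root {P : Set (D.I → ℤ)} : ∀ a ∈ Perp D P, D.Rt a := fun _ h => h.1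

theorem perp_neg {P : Set (D.I → ℤ)} : ∀ a ∈ Perp D P, -a ∈ Perp D P := fun _ h =>
  ⟨h.1.neg, fun b hb => by rw [cpr_neg', h.2 b hb, neg_zero]⟩

theorem perp_g {P : Set (D.I → ℤ)} (hP : ∀ a ∈ P, D.Rt a) (hF : ∀ a ∈ P, D.g a ∈ P) :
    ∀ a ∈ Perp D P, D.g a ∈ Perp D P := fun a ha => ⟨D.g_root a ha.1, fun b hb => by
  obtain ⟨b, hb', rfl⟩ := (D.g_bijOn hP hF).surjOn hb
  exact cpr_g_zero ha.1 (hP b hb') (ha.2 b hb')⟩

theorem dcon_of_dc (h : DC D.cs D.h D.X) {P : Set (D.I → ℤ)} (hP : ∀ a ∈ P, D.Rt a) : ∀ θ ∈ P, DCon D P θ :=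
  fun θ hθ c hc => h θ c (hP θ hθ) (hP c hc)

theorem χ_coch (b m : _) (u : kˣ) : D.χ b (D.τ (coch m u)) = ((u ^ (∑ j, D.wt b j * m j) : kˣ) : k) := by
  rw [D.χ_τ, chr_coch]

variable (D) in
/-- the tori of the coroots of `P` -/
def Zc (P : Set (D.I → ℤ)) : Set Y := {t | ∃ a ∈ P, ∃ u : kˣ, t = D.τ (coch (D.cor a) u)}

theorem zc_le {P : Set (D.I → ℤ)} : Zc D P ⊆ D.T := by
  rintro _ ⟨a, -, u, rfl⟩
  exact D.τ_mem _

theorem sz_zc {P : Set (D.I → ℤ)} (hP : ∀ a ∈ P, D.Rt a) : D.Sz (Zc D P) = Perp D P := by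
  ext b
  refine and_congr_right fun _ => ⟨fun h a ha => eq_zero_of_zpow (k := k) fun u => ?_, ?_⟩
  · have := h _ ⟨a, ha, u, rfl⟩
    rwa [χ_coch, D.pair_cor (hP a ha), Units.val_eq_one] at this
  · rintro h _ ⟨a, ha, u, rfl⟩
    rw [χ_coch, D.pair_cor (hP a ha), h a ha, zpow_zero, Units.val_one]

theorem pr_pow {y : Y} (hy : y ∈ D.NN) (n : ℕ) : D.pr (y ^ n) = D.pr y ^ n := by
  induction n with
  | zero => rw [pow_zero, pow_zero, (D.pr_eq_one_iff (one_mem _)).2 (one_mem _)]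
  | succ n ih => rw [pow_succ, pow_succ, D.pr_mul (pow_mem hy n) hy, ih]

theorem sq_eq_one_of_shp (H : Shp D.cs D.h {a | D.Rt a}) {y : Y} (hy : y ∈ D.NN) (h : y ^ 4 = 1) (hp : p = 2) :
    y ^ 2 = 1 := by
  have h1 := H.sq_eq_one (w := D.pr y) (by rw [← pr_pow hy, h, D.pr_eq_one_iff (one_mem _)]; exact one_mem _)
  rw [← pr_pow hy, D.pr_eq_one_iff (pow_mem hy 2)] at h1
  exact eq_one_of_T_pel h1 (j := 1) (by rwa [hp, ← pow_mul])

theorem eq_one_of_iso (H : Iso D.cs D.h {a | D.Rt a}) {y : Y} (hy : y ∈ D.NN) (h : y ^ p = 1) (hp : p ≠ 2) : y = 1 := by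
  have h1 : D.pr y ^ p = 1 := by rw [← pr_pow hy, h, D.pr_eq_one_iff (one_mem _)]; exact one_mem _
  have h2 := (pow_eq_one_iff_of_coprime ((Nat.coprime_primes Fact.out Nat.prime_two).2 hp)).1 ⟨h1, H.sq_eq_one _⟩
  rw [D.pr_eq_one_iff hy] at h2
  exact eq_one_of_T_pel h2 (j := 1) (by rwa [pow_one])

/-- an element normalising a subgroup of the torus on which no root is trivial normalises the torus -/
theorem mem_NN_of_norm {Z : Subgroup Y} (hZ : (Z : Set Y) ⊆ D.T) (h0 : D.Sz Z = ∅) {y : Y} (hy : y ∈ G)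
    (h1 : ∀ z ∈ Z, y * z * y⁻¹ ∈ Z) (h2 : ∀ z ∈ Z, y⁻¹ * z * y ∈ Z) : y ∈ D.NN := by
  obtain ⟨c, hc, m, hm, -, rfl⟩ := D.exists_conj_form (s := fun z : Z => z) (t := fun z : Z => y * z * y⁻¹)
    (fun z => hZ z.2) (fun z => hZ (h1 z z.2)) hy (fun z => by rw [inv_mul_cancel_right])
  have h3 : c = 1 := Subgroup.mem_bot.1 (RGD.Sup_le (K := ⊥) (fun a ha => by
    have : a ∈ D.Sz Z := ⟨ha.1, fun z hz => ha.2 z ⟨⟨_, h2 z hz⟩, by group⟩⟩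
    rw [h0] at this
    exact this.elim) hc)
  rwa [h3, one_mul]

variable (D) in
/-- the squares of the elements of the torus on which `P` is trivial -/
def Zs (P : Set (D.I → ℤ)) : Set Y := {s | ∃ t ∈ D.T, (∀ a ∈ P, D.χ a t = 1) ∧ s = t * t}

theorem zs_le {P : Set (D.I → ℤ)} : Zs D P ⊆ D.T := by
  rintro _ ⟨t, ht, -, rfl⟩
  exact mul_mem ht ht

theorem zs_F {P : Set (D.I → ℤ)} (hP : ∀ a ∈ P, D.Rt a) (hF : ∀ a ∈ P, D.g a ∈ P) : ∀ s ∈ Zs D P, σ s ∈ Zs D P := by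
  rintro _ ⟨t, ht, h, rfl⟩
  refine ⟨σ t, D.F_mem_T ht, fun b hb => ?_, map_mul _ _ _⟩
  obtain ⟨b, hb', rfl⟩ := (D.g_bijOn hP hF).surjOn hb
  rw [D.χ_F (hP b hb') ht, h b hb', one_pow]

theorem mem_sz_zs {P : Set (D.I → ℤ)} {a : D.I → ℤ} (hr : D.Rt a) (ha : a ∈ P) : a ∈ D.Sz (Zs D P) := by
  refine ⟨hr, ?_⟩
  rintro _ ⟨t, ht, h, rfl⟩
  rw [D.χ_mul a ht ht, h a ha, one_mul]

section Sit

variable {D : Datum p ρ σ ⊤} {e : ℕ} {Γ : Subgroup (MulAut Y)} {K R F0 Z : Subgroup Y} (H : Sit D e Γ K R F0 Z)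
  (hC : DC D.cs D.h D.X)
include H hC

omit H in
theorem comm_perp {u v : Y} (hu : u ∈ D.S (D.Sz Z)) (hv : v ∈ D.S (Perp D (D.Sz Z))) : u * v = v * u :=
  comm_S_S (fun a ha b hb => hC a b ha.1 hb.1 (hb.2 a ha).ge) hu hv

theorem inv_perp : Inv Γ (D.S (Perp D (D.Sz Z))) :=
  H.inv_S perp_root (fun c hc m hm => by rwa [comm_perp hC hc hm, mul_inv_cancel_right])
    fun _ _ _ hβ hZ => perp_g (D := hβ.dat) D.Sz_root fun _ ha => hβ.dat.g_mem_Sz H.le hZ ha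

theorem not_le_perp : ¬ K ≤ D.S (Perp D (D.Sz Z)) := by
  obtain ⟨a, ha⟩ := H.rt
  exact Sit.not_le H.gc (z := D.x a 1) (fun e => one_ne_zero ((D.x_eq_one_iff ha.1).1 e)) fun m hm =>
    comm_perp hC (x_mem_S ha ha.1 1) hm

theorem perp (h : BoxShape) : Iso D.cs D.h (Perp D (D.Sz Z)) ∧ (p ≠ 2 → Perp D (D.Sz Z) = ∅) := by
  have e1 : D.Sz (Zc D (D.Sz Z)) = Perp D (D.Sz Z) := sz_zc D.Sz_root
  have hF : ∀ a ∈ D.Sz (Zc D (D.Sz Z)), D.g a ∈ D.Sz (Zc D (D.Sz Z)) := by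
    rw [e1]
    exact perp_g D.Sz_root fun _ => H.g_mem
  obtain ⟨h1, h2, h3⟩ := h p k Y N ρ σ ⊤ D e (Zc D (D.Sz Z)) H.hyp.he H.hyp.ex H.hyp.cz zc_le hF
    (by rw [e1]; exact H.gc.he _ (inv_perp H hC) (not_le_perp H hC)) (dcon_of_dc hC D.Sz_root)
  have key : ∀ y ∈ D.S (D.Sz (Zc D (D.Sz Z))), σ y = y → (∃ j : ℕ, y ^ p ^ j = 1) → y ∈ (D.sub zc_le hF rfl).NN := by
    intro y hy hσ hp
    have h4 := H.gc.conj_mem y (H.gc.inv _ (inv_perp H hC) (not_le_perp H hC) y (by rwa [← e1]) (H.gc.pel y hσ hp))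
    refine mem_NN_of_norm (D := D.sub zc_le hF rfl) H.le (Set.eq_empty_of_forall_notMem fun c hc => ?_)
      (D.S_le_cen _ hy) (H.inv _ h4) fun z hz => ?_
    · have h5 := io_mem zc_le hF rfl hc.1
      rw [e1] at h5
      have h6 := h5.2 _ ⟨h5.1, hc.2⟩
      rw [cpr_self _ _ h5.1] at h6
      omega
    · have := H.inv _ (inv_mem h4) z hz
      rwa [MulAut.conj_inv_apply] at this
  have hI : Iso D.cs D.h (D.Sz (Zc D (D.Sz Z))) := by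
    rcases h3 with h3 | ⟨hp, y, hy, hσ, h4, h5⟩
    · exact h3
    exact absurd (sq_eq_one_of_shp ((shp_sub_iff zc_le hF rfl).2 h2) (key y hy hσ ⟨2, by rwa [hp]⟩) h4 hp) h5
  refine ⟨e1 ▸ hI, fun hp => ?_⟩
  by_contra h4
  rw [← e1] at h4
  obtain ⟨-, y, hy, hσ, h5, h6⟩ := h1 (Set.nonempty_iff_ne_empty.2 h4)
  exact h6 (eq_one_of_iso ((iso_sub_iff zc_le hF rfl).2 hI) (key y hy hσ ⟨1, by rwa [pow_one]⟩) h5 hp)

end Sit

section Comb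

variable {I W : Type} [Fintype I] [DecidableEq I] [Group W] [Finite W] {M : CoxeterMatrix I}
  {cs : CoxeterSystem M W} {A : I → I → ℤ} {h : IsCartan M A}

/-- a root of `P` that is not orthogonal to `a` lies in the span of the `A₂` generated by `a`, `b` -/
theorem span_of_shp {P : Set (I → ℤ)} (H : Shp cs h P) (hP : ∀ a ∈ P, IsRoot cs h a) (hn : ∀ a ∈ P, -a ∈ P)
    {a b c : I → ℤ} (ha : a ∈ P) (hb : b ∈ P) (hab : a + b ∈ P) (h1 : cpr cs h b a = -1) (hc : c ∈ P)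
    (h0 : cpr cs h c a ≠ 0) (f : (I → ℤ) →+ ℤ) (fa : f a = 0) (fb : f b = 0) : f c = 0 := by
  have h2 := cpr_self cs h (hP a ha)
  have key : ∀ c ∈ P, 0 < cpr cs h c a → f c = 0 := fun c hc h0 => by
    by_cases e : c = a
    · rwa [e]
    rcases H.two a ha c ⟨hc, e, h0⟩ (-b) ⟨hn b hb, fun e => by rw [← e, cpr_neg'] at h2; rw [← e] at h1; omega,
      by rw [cpr_neg']; omega⟩ (a + b) ⟨hab, fun e => (hP b hb).ne_zero (add_eq_left.1 e),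
        by rw [cpr_add']; omega⟩ with e | e | e
    · rw [e, map_neg, fb, neg_zero]
    · rw [e, map_add, fa, fb, add_zero]
    · exact absurd (show a = (2 : ℤ) • (-b) by rw [two_smul, eq_add_neg_iff_add_eq, e]) (ne_two_smul (hP a ha) _)
  rcases lt_or_gt_of_ne h0 with h3 | h3
  · have := key (-c) (hn c hc) (by rw [cpr_neg']; omega)
    rwa [map_neg, neg_eq_zero] at this
  · exact key c hc h3

end Comb

section Six

variable {D : Datum p ρ σ ⊤} {e : ℕ} {Γ : Subgroup (MulAut Y)} {K R F0 Z : Subgroup Y} (H : Sit D e Γ K R F0 Z)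
  (hC : DC D.cs D.h D.X) (h6 : E6C D.cs D.h) (h : BoxShape)
include H hC h6 h

theorem not_iso : ¬ Iso D.cs D.h (D.Sz Z) := fun hI => by
  have hI' := (perp H hC h).1
  have hP : ∀ a ∈ D.Sz Z ∪ Perp D (D.Sz Z), D.Rt a := fun a ha => ha.elim (fun h => h.1) fun h => h.1
  obtain ⟨⟨f, f0, hf⟩, a, ha, b, hb, c, hc, d, hd, r, hr, e2, ea, eb, ec, hab, hac, hbc⟩ :=
    h6.orth (D.Sz Z ∪ Perp D (D.Sz Z)) hP (fun a ha => ha.imp D.Sz_neg (perp_neg a)) (by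
      rintro a (ha | ha) b (hb | hb)
      · exact hI.orth (fun _ => D.Sz_neg) ha hb
      · exact Or.inr (Or.inr (hb.2 a ha))
      · exact Or.inr (Or.inr ((cpr_zero_comm _ _ ha.1 hb.1).1 (ha.2 b hb)))
      · exact hI'.orth perp_neg ha hb) (fun r hr => by
      by_contra h1
      push Not at h1
      have := h1 r (Or.inr ⟨hr, fun a ha => h1 a (Or.inl ha)⟩)
      rw [cpr_self _ _ hr] at this
      omega)
  have hg : ∀ {β : MulAut Y} {g ex} (hβ : FA D β g ex), (∀ z ∈ Z, β z ∈ Z) →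
      ∀ a ∈ D.Sz (Zs D (D.Sz Z ∪ Perp D (D.Sz Z))), g a ∈ D.Sz (Zs D (D.Sz Z ∪ Perp D (D.Sz Z))) :=
    fun hβ hZ a ha => hβ.dat.g_mem_Sz zs_le (zs_F (D := hβ.dat) hP fun a ha => ha.imp (hβ.dat.g_mem_Sz H.le hZ)
      (perp_g (D := hβ.dat) D.Sz_root (fun _ ha => hβ.dat.g_mem_Sz H.le hZ ha) a)) ha
  have hinv : Inv Γ (D.S (D.Sz (Zs D (D.Sz Z ∪ Perp D (D.Sz Z))))) :=
    H.inv_S D.Sz_root (fun c hc m hm => by
      have h1 : c ∈ D.S (D.Sz (Zs D (D.Sz Z ∪ Perp D (D.Sz Z)))) :=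
        RGD.Sup_mono (fun b hb => mem_sz_zs hb.1 (Or.inl hb)) hc
      exact mul_mem (mul_mem h1 hm) (inv_mem h1)) fun _ _ _ hβ hZ => hg hβ hZ
  obtain ⟨z, hz, hz1⟩ : ∃ z ∈ Zs D (D.Sz Z ∪ Perp D (D.Sz Z)), z ≠ 1 := by
    obtain ⟨m, hm⟩ := H.hyp.adj f
    by_contra h1
    push Not at h1
    refine f0 (AddMonoidHom.ext fun x => ?_)
    have h2 : f x + f x = 0 := eq_zero_of_zpow (k := k) fun u => by
      have h3 := h1 _ ⟨D.τ (coch m u), D.τ_mem _, fun a ha => by rw [χ_coch, hm, hf a ha, zpow_zero, Units.val_one], rfl⟩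
      have h4 := D.χ_mul x (D.τ_mem (coch m u)) (D.τ_mem (coch m u))
      rw [h3, D.χ_one, χ_coch, hm, ← Units.val_mul, ← zpow_add, eq_comm, Units.val_eq_one] at h4
      exact h4
    show f x = 0
    omega
  have hE := H.gc.he _ hinv (Sit.not_le H.gc hz1 fun m hm => D.cen_le_centralizer zs_le (D.S_le_cen _ hm) z hz)
  obtain ⟨-, h2, -⟩ := h p k Y N ρ σ ⊤ D e _ H.hyp.he H.hyp.ex H.hyp.cz zs_le (hg (fa_self D) (H.inv σ H.gc.σ_mem)) hE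
    (dcon_of_dc hC D.Sz_root)
  have hr' : r ∈ D.Sz (Zs D (D.Sz Z ∪ Perp D (D.Sz Z))) := by
    refine ⟨hr, ?_⟩
    rintro _ ⟨t, ht, h3, rfl⟩
    rw [D.χ_mul r ht ht, ← D.χ_add, ← two_zsmul, e2, D.χ_add, D.χ_add, D.χ_add, h3 a ha, h3 b hb, h3 c hc, h3 d hd,
      one_mul, one_mul, one_mul]
  have hn : ∀ a ∈ D.Sz Z ∪ Perp D (D.Sz Z), cpr D.cs D.h a r = 1 →
      a ∈ Nb D.cs D.h (D.Sz (Zs D (D.Sz Z ∪ Perp D (D.Sz Z)))) r := fun a ha h1 =>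
    ⟨mem_sz_zs (hP a ha) ha, fun e => by rw [e, cpr_self _ _ hr] at h1; omega, by omega⟩
  rcases h2.two r hr' a (hn a ha ea) b (hn b hb eb) c (hn c hc ec) with e | e | e
  exacts [hab e, hac e, hbc e]

theorem six (w : D.W) : ¬ ∀ a ∈ D.Sz Z, D.act w a = -a := fun hw => by
  obtain ⟨-, h2, -⟩ := h p k Y N ρ σ ⊤ D e Z H.hyp.he H.hyp.ex H.hyp.cz H.le (fun _ => H.g_mem) H.he
    (dcon_of_dc hC D.Sz_root)
  refine not_iso H hC h6 h fun b hb => Set.eq_empty_of_forall_notMem fun a ha => ?_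
  have ha' := D.Sz_neg ha.1
  have h1 : cpr D.cs D.h (-a) b = -1 := by rw [cpr_neg', h2.one b hb a ha]
  have h1' : cpr D.cs D.h b (-a) = -1 := by rw [h6.symm _ _ hb.1 ha'.1, h1]
  have h3 : -a + b ∈ D.Sz Z := by
    have := (Sz_refl hb ha'.1).2 ha'
    rwa [h1, neg_smul, one_smul, sub_neg_eq_add] at this
  obtain ⟨r, r', hr, hr', h4, h5, h7, h8, h9⟩ := h6.perp (-a) b ha'.1 hb.1 h1
  have key : ∀ r, D.Rt r → cpr D.cs D.h r (-a) = 0 → cpr D.cs D.h r b = 0 → r ∈ Perp D (D.Sz Z) := by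
    intro r hr f1 f2
    rw [h6.symm _ _ hr ha'.1] at f1
    rw [h6.symm _ _ hr hb.1] at f2
    refine ⟨hr, fun c hc => ?_⟩
    rw [h6.symm _ _ hr hc.1]
    by_cases g1 : cpr D.cs D.h c (-a) = 0
    · by_cases g2 : cpr D.cs D.h c b = 0
      · exact absurd ⟨hw _ ha', hw _ hb, hw _ hc⟩ (h6.inv w (-a) b c ha'.1 hb.1 hc.1 h1 g1 g2)
      · exact span_of_shp h2 D.Sz_root (fun _ => D.Sz_neg) hb ha' (by rwa [add_comm]) h1 hc g2 (el D.cs D.h r) f2 f1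
    · exact span_of_shp h2 D.Sz_root (fun _ => D.Sz_neg) ha' hb h3 h1' hc g1 (el D.cs D.h r) f1 f2
  rcases (perp H hC h).1.orth perp_neg (key r hr h5 h7) (key r' hr' h8 h9) with e | e | e
  · rw [e, cpr_self _ _ hr] at h4
    omega
  · rw [e, cpr_neg', cpr_self _ _ hr] at h4
    omega
  · omega

end Six

end PerpL

theorem boxPerp_of (h : BoxShape) : BoxPerp := fun _ _ _ _ _ _ _ _ _ _ _ _ _ _ _ _ _ _ _ _ H hC => PerpL.perp H hC h

theorem boxE6_of (h : BoxShape) : BoxE6 := fun _ _ _ _ _ _ _ _ _ _ _ _ _ _ _ _ _ _ _ _ H hC h6 =>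
  PerpL.six H hC h6 h

end Cfsg.Agent.SB.Exc.Max
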