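import Cfsg.Agent.SB.Exc.Max.Crd
import Cfsg.Agent.DL.Dat.Card

/-!
# S5765, `BoxMax`: root combinatorics (helper50)

* `el`, signs of `cpr`, dominant roots, `Nb` (the neighbours of a root inside a set), `Shp` (types `A₁`, `A₂`), `Iso`
  (type `A₁`), `sq_eq_one_of_shp`;
* `exists_orbit`, `exists_full` : fixed vectors of `t (g a) = c a * t a ^ q`;
* data with a constant exponent: `g_add`, `cpr_g`, `ht_g`.
-/

set_option autoImplicit false
set_option linter.unusedSectionVars false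

namespace Cfsg.Agent.SB.Exc.Max

open CoxeterSystem Cfsg.Agent.ChevalleyStructure.CoxeterGeom Cfsg.Agent.Tits.Roots Cfsg.Agent.Nodes.Reps
  Cfsg.Agent.Nodes.BNOf Cfsg.Agent.Nodes.Bruhat Cfsg.Agent.LangThm Cfsg.Agent.Nodes.SubComb
  Cfsg.Agent.Nodes.Coroot Cfsg.Agent.Nodes.Slope Cfsg.Agent.Nodes.NormalForm Cfsg.Agent.DL.Base Cfsg.Agent.DL
open scoped Pointwise commutatorElement

section Roots

variable {I W : Type} [Fintype I] [DecidableEq I] [Group W] [Finite W] {M : CoxeterMatrix I}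
  (cs : CoxeterSystem M W) {A : I → I → ℤ} (h : IsCartan M A)

theorem cpr_add' (x x' y : I → ℤ) : cpr cs h (x + x') y = cpr cs h x y + cpr cs h x' y := by
  by_cases hy : IsRoot cs h y
  · exact cpr_add cs h x x' hy
  · simp only [cpr, dif_neg hy, add_zero]

/-- the coroot as a functional -/
noncomputable def el (y : I → ℤ) : (I → ℤ) →+ ℤ := AddMonoidHom.mk' (fun x => cpr cs h x y) fun x x' => cpr_add' cs h x x' y

theorem el_apply (x y : I → ℤ) : el cs h y x = cpr cs h x y := rfl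

theorem cpr_sub (x x' y : I → ℤ) : cpr cs h (x - x') y = cpr cs h x y - cpr cs h x' y := map_sub (el cs h y) x x'

theorem cpr_neg' (x y : I → ℤ) : cpr cs h (-x) y = -cpr cs h x y := map_neg (el cs h y) x

theorem cpr_smul' (m : ℤ) (x y : I → ℤ) : cpr cs h (m • x) y = m * cpr cs h x y := map_zsmul (el cs h y) m x

variable {cs h} {a b c r θ θ' : I → ℤ}

theorem cpr_pos_comm (ha : IsRoot cs h a) (hb : IsRoot cs h b) : 0 < cpr cs h a b ↔ 0 < cpr cs h b a := by
  have := Fintype.ofFinite W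
  rw [cpr_pos_iff _ _ _ ha, form_comm, cpr_pos_iff _ _ _ hb]

theorem cpr_nonneg_comm (ha : IsRoot cs h a) (hb : IsRoot cs h b) : 0 ≤ cpr cs h a b ↔ 0 ≤ cpr cs h b a := by
  rw [le_iff_lt_or_eq, le_iff_lt_or_eq, cpr_pos_comm ha hb, eq_comm, cpr_zero_comm cs h ha hb, eq_comm]

theorem cpr_nonneg_iff [Fintype W] (x : I → ℤ) (hb : IsRoot cs h b) : 0 ≤ cpr cs h x b ↔ 0 ≤ form cs h x b := by
  rw [le_iff_lt_or_eq, le_iff_lt_or_eq, cpr_pos_iff _ _ _ hb, eq_comm, cpr_zero_iff cs h x hb, eq_comm]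

theorem cpr_le_three (ha : IsRoot cs h a) (hb : IsRoot cs h b) : cpr cs h a b ≤ 3 := by
  by_cases h1 : a = b
  · rw [h1, cpr_self cs h hb]; omega
  by_cases h2 : a = -b
  · rw [h2, cpr_neg', cpr_self cs h hb]; omega
  have h3 := cpr_mul_lt ha hb h1 h2
  by_contra h4
  have h5 : 0 < cpr cs h b a := (cpr_pos_comm ha hb).1 (by omega)
  nlinarith

theorem dom_cpr (hθ : Dom A θ) (hr : IsRoot cs h θ) (ha : 0 ≤ a) : 0 ≤ cpr cs h a θ := by
  have := Fintype.ofFinite W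
  rw [cpr_nonneg_iff _ hr, form_comm]
  exact form_nonneg_of_dom cs h hθ ha

theorem dom_cpr' (hθ : Dom A θ) (hr : IsRoot cs h a) (ha : 0 ≤ a) : 0 ≤ cpr cs h θ a := by
  have := Fintype.ofFinite W
  rw [cpr_nonneg_iff _ hr]
  exact form_nonneg_of_dom cs h hθ ha

theorem nonneg_of_cpr_pos (hθ : Dom A θ) (hr : IsRoot cs h θ) (ha : IsRoot cs h a) (h0 : 0 < cpr cs h a θ) : 0 ≤ a := by
  by_contra h1
  have := dom_cpr hθ hr (ha.not_nonneg_iff_neg.1 h1)
  rw [cpr_neg'] at this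
  omega

theorem dom_nonneg (hθ : Dom A θ) (hr : IsRoot cs h θ) : 0 ≤ θ :=
  nonneg_of_cpr_pos hθ hr hr (by rw [cpr_self cs h hr]; omega)

variable (cs h) in
theorem rep_le_of_dom {x : I → ℤ} (hx : Dom A x) : ∀ w : W, rep cs h w x ≤ x := by
  intro w
  induction hn : cs.length w using Nat.strong_induction_on generalizing w with
  | _ n ih =>
  by_cases hw : w = 1
  · rw [hw, map_one, Module.End.one_apply]
  obtain ⟨i, hi⟩ := cs.exists_rightDescent_of_ne_one hw
  have hi' : cs.length (w * cs.simple i) < cs.length w := hi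
  have h1 := ih _ (by omega) (w * cs.simple i) rfl
  have h2 : w = w * cs.simple i * cs.simple i := by rw [mul_assoc, simple_mul_simple_self, mul_one]
  have h3 : 0 ≤ rep cs h (w * cs.simple i) (sr i) :=
    nonneg_of_lt cs h (w * cs.simple i) i (by rwa [simple_mul_simple_cancel_right])
  have h5 : rep cs h w x = rep cs h (w * cs.simple i) x - pairing A i x • rep cs h (w * cs.simple i) (sr i) := by
    conv_lhs => rw [h2]
    rw [map_mul, Module.End.mul_apply, rep_simple_eq, map_sub, map_smul]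
  rw [h5]
  exact (sub_le_self _ (smul_nonneg (hx i) h3)).trans h1

theorem exists_refl (ha : IsRoot cs h a) : ∃ v : W, ∀ x, rep cs h v x = x - cpr cs h x a • a := by
  obtain ⟨w, i, rfl⟩ := ha
  exact ⟨_, rep_rfl'_eq cs h w i⟩

/-- orthogonal dominant roots lie in different components -/
theorem cpr_rep_zero (hθ : Dom A θ) (hr : IsRoot cs h θ) (hθ' : Dom A θ') (hr' : IsRoot cs h θ')
    (h0 : cpr cs h θ' θ = 0) (w : W) : cpr cs h (rep cs h w θ') θ = 0 := by
  have key : ∀ w : W, cpr cs h (rep cs h w θ') θ ≤ 0 := fun w => by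
    have := dom_cpr hθ hr (sub_nonneg.2 (rep_le_of_dom cs h hθ' w))
    rw [cpr_sub, h0] at this
    omega
  obtain ⟨v, hv⟩ := exists_refl hr'
  have h1 := key (w * v)
  rw [map_mul, Module.End.mul_apply, hv, cpr_self cs h hr', two_smul, show θ' - (θ' + θ') = -θ' by abel, map_neg,
    cpr_neg'] at h1
  have := key w
  omega

theorem cpr_rep_symm (ha : IsRoot cs h a) (w : W) : cpr cs h a (rep cs h w a) = cpr cs h (rep cs h w a) a := by
  have := Fintype.ofFinite W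
  have h1 := two_form_cpr cs h a (ha.act w)
  have h2 := two_form_cpr cs h (rep cs h w a) ha
  rw [form_rep, form_comm, h2] at h1
  exact (mul_right_cancel₀ (form_pos cs h ha.ne_zero).ne' h1).symm

theorem cpr_rep_ge (ha : IsRoot cs h a) {w : W} (hw : rep cs h w a ≠ -a) : -1 ≤ cpr cs h (rep cs h w a) a := by
  by_cases h1 : rep cs h w a = a
  · rw [h1, cpr_self cs h ha]; omega
  have h2 := cpr_mul_lt (ha.act w) ha h1 hw
  rw [cpr_rep_symm ha] at h2
  nlinarith

theorem ne_two_smul (ha : IsRoot cs h a) (b : I → ℤ) : a ≠ (2 : ℤ) • b := fun e => by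
  have := isUnit_of_smul cs h ha 2 e
  rw [Int.isUnit_iff] at this
  omega

variable (cs h) in
/-- the neighbours of `r` in `P` -/
def Nb (P : Set (I → ℤ)) (r : I → ℤ) : Set (I → ℤ) := {c | c ∈ P ∧ c ≠ r ∧ 0 < cpr cs h c r}

variable (cs h) in
/-- types `A₁`, `A₂` -/
structure Shp (P : Set (I → ℤ)) : Prop where
  one : ∀ r ∈ P, ∀ c ∈ Nb cs h P r, cpr cs h c r = 1
  two : ∀ r ∈ P, ∀ c₁ ∈ Nb cs h P r, ∀ c₂ ∈ Nb cs h P r, ∀ c₃ ∈ Nb cs h P r, c₁ = c₂ ∨ c₁ = c₃ ∨ c₂ = c₃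

variable (cs h) in
/-- type `A₁` -/
def Iso (P : Set (I → ℤ)) : Prop := ∀ r ∈ P, Nb cs h P r = ∅

theorem Iso.orth {P : Set (I → ℤ)} (H : Iso cs h P) (hn : ∀ a ∈ P, -a ∈ P) (ha : a ∈ P) (hb : b ∈ P) :
    b = a ∨ b = -a ∨ cpr cs h b a = 0 := by
  by_contra h1
  push Not at h1
  rcases lt_or_gt_of_ne h1.2.2 with h2 | h2
  · have : -b ∈ Nb cs h P a := ⟨hn b hb, fun e => h1.2.1 (by rw [← e, neg_neg]), by rw [cpr_neg']; omega⟩
    rw [H a ha] at this
    exact this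
  · have : b ∈ Nb cs h P a := ⟨hb, h1.1, h2⟩
    rw [H a ha] at this
    exact this

theorem Iso.shp {P : Set (I → ℤ)} (H : Iso cs h P) : Shp cs h P :=
  ⟨fun r hr c hc => by rw [H r hr] at hc; exact hc.elim, fun r hr c hc => by rw [H r hr] at hc; exact hc.elim⟩

theorem exists_sign (ha : IsRoot cs h a) (h0 : cpr cs h a b ≠ 0) :
    ∃ a', IsRoot cs h a' ∧ (a' = a ∨ a' = -a) ∧ 0 < cpr cs h a' b := by
  rcases lt_or_gt_of_ne h0 with h2 | h2
  · exact ⟨-a, ha.neg, Or.inr rfl, by rw [cpr_neg']; omega⟩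
  · exact ⟨a, ha, Or.inl rfl, h2⟩

theorem Shp.trans (H : Shp cs h {a | IsRoot cs h a}) {x y z : I → ℤ} (hx : IsRoot cs h x) (hy : IsRoot cs h y)
    (hz : IsRoot cs h z) (h1 : cpr cs h x y ≠ 0) (h2 : cpr cs h y z ≠ 0) : cpr cs h x z ≠ 0 := by
  intro h0
  obtain ⟨x', hx', e1, p1⟩ := exists_sign hx h1
  obtain ⟨z', hz', e2, p2⟩ := exists_sign hz (fun e => h2 ((cpr_zero_comm cs h hz hy).1 e))
  have h3 : cpr cs h x' z' = 0 := by
    rcases e1 with rfl | rfl <;> rcases e2 with rfl | rfl <;>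
      simp only [cpr_neg', cpr_neg_right cs h _ hz, h0, neg_zero]
  have h4 := (cpr_zero_comm cs h hx' hz').1 h3
  have n1 : x' ≠ y := fun e => by rw [← e] at p2; omega
  have n2 : z' ≠ y := fun e => by rw [← e] at p1; omega
  have c1 := H.one y hy x' ⟨hx', n1, p1⟩
  have c2 := H.one x' hx' y ⟨hy, n1.symm, (cpr_pos_comm hx' hy).1 p1⟩
  have h5 : IsRoot cs h (y - x') := by
    have := (isRoot_refl cs h hx' hy).neg
    rwa [c1, one_smul, neg_sub] at this
  rcases H.two y hy x' ⟨hx', n1, p1⟩ z' ⟨hz', n2, p2⟩ (y - x') ⟨h5, fun e => hx'.ne_zero (sub_eq_self.1 e), by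
    rw [cpr_sub, cpr_self cs h hy, c1]; omega⟩ with e | e | e
  · rw [e, cpr_self cs h hz'] at h3; omega
  · exact ne_two_smul hy x' (by rw [two_smul]; exact (sub_eq_iff_eq_add.1 e.symm))
  · rw [e, cpr_sub, c2, cpr_self cs h hx'] at h4; omega

theorem Shp.rep_ne (H : Shp cs h {a | IsRoot cs h a}) (w : W) (hr : IsRoot cs h r) : cpr cs h (rep cs h w r) r ≠ 0 := by
  induction w using cs.simple_induction_left with
  | one => rw [map_one, Module.End.one_apply, cpr_self cs h hr]; omega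
  | mul_simple_left w i ih =>
    rw [map_mul, Module.End.mul_apply]
    by_cases h0 : cpr cs h (rep cs h w r) (sr i) = 0
    · rwa [rep_simple_eq, ← cpr_sr cs h, h0, zero_smul, sub_zero]
    · have hs := isRoot_sr cs h i
      refine H.trans ((hr.act w).act _) hs hr ?_
        (H.trans hs (hr.act w) hr (fun e => h0 ((cpr_zero_comm cs h hs (hr.act w)).1 e)) ih)
      rw [rep_simple_eq, ← cpr_sr cs h, cpr_sub, cpr_smul', cpr_self cs h hs]
      omega

theorem Shp.sq_eq_one (H : Shp cs h {a | IsRoot cs h a}) {w : W} (hw : w ^ 4 = 1) : w ^ 2 = 1 := by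
  refine eq_one_of_fix cs h _ fun i => ?_
  have hr := isRoot_sr cs h i
  show rep cs h (w ^ 2) (sr i) = sr i
  generalize sr i = r at hr
  by_contra hne
  have e : ∀ m n : ℕ, ∀ x, rep cs h (w ^ m) (rep cs h (w ^ n) x) = rep cs h (w ^ (m + n)) x := fun m n x => by
    rw [pow_add, map_mul]; rfl
  have e4 : ∀ x, rep cs h (w ^ 4) x = x := fun x => by rw [hw, map_one]; rfl
  have inj : ∀ m : ℕ, Function.Injective (rep cs h (w ^ m)) := fun m x y hxy => by
    rw [← rep_inv_apply cs h (w ^ m) x, hxy, rep_inv_apply]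
  have s1 : ∀ x, rep cs h (w ^ 1) x = x ∨ rep cs h (w ^ 1) x = -x → rep cs h (w ^ 2) x = x := by
    rintro x (h1 | h1)
    · rw [← e 1 1, h1, h1]
    · rw [← e 1 1, h1, map_neg, h1, neg_neg]
  have n2 : ∀ x, IsRoot cs h x → rep cs h (w ^ 2) x ≠ -x := fun x hx h1 => by
    have h2 := cpr_rep cs h (w ^ 1) (rep cs h (w ^ 1) x) hx
    rw [e, h1, cpr_neg', cpr_rep_symm hx] at h2
    exact H.rep_ne (w ^ 1) hx (by omega)
  have d : ∀ m : ℕ, rep cs h (w ^ 2) (rep cs h (w ^ m) r) ≠ rep cs h (w ^ m) r := fun m h1 =>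
    hne (inj m (by rw [e, add_comm, ← e, h1]))
  obtain ⟨c₁, r₁, e₁, p₁⟩ := exists_sign (hr.act (w ^ 1)) (H.rep_ne (w ^ 1) hr)
  obtain ⟨c₂, r₂, e₂, p₂⟩ := exists_sign (hr.act (w ^ 2)) (H.rep_ne (w ^ 2) hr)
  obtain ⟨c₃, r₃, e₃, p₃⟩ := exists_sign (hr.act (w ^ 3)) (H.rep_ne (w ^ 3) hr)
  have pm : ∀ {c c' x x' : I → ℤ}, (c = x ∨ c = -x) → (c' = x' ∨ c' = -x') → c = c' → x' = x ∨ x' = -x := by
    rintro c c' x x' (rfl | rfl) (rfl | rfl) h1
    · exact Or.inl h1.symm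
    · exact Or.inr (by rw [h1, neg_neg])
    · exact Or.inr h1.symm
    · exact Or.inl (neg_inj.1 h1).symm
  have e0 : r = rep cs h (w ^ 0) r := by rw [pow_zero, map_one]; rfl
  rcases H.two r hr c₁ ⟨r₁, fun e' => hne (s1 r (pm (Or.inl rfl) e₁ e'.symm)), p₁⟩
    c₂ ⟨r₂, fun e' => (pm (Or.inl rfl) e₂ e'.symm).elim hne (n2 r hr), p₂⟩
    c₃ ⟨r₃, fun e' => d 3 (s1 _ (by rw [e, e4]; exact pm e₃ (Or.inl rfl) e')), p₃⟩ with h1 | h1 | h1
  · exact d 1 (s1 _ (by rw [e]; exact pm e₁ e₂ h1))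
  · exact (pm e₁ e₃ h1).elim (fun h2 => d 1 (by rwa [e])) fun h2 => n2 _ (hr.act (w ^ 1)) (by rwa [e])
  · exact d 2 (s1 _ (by rw [e]; exact pm e₂ e₃ h1))

theorem Iso.sq_eq_one (H : Iso cs h {a | IsRoot cs h a}) (w : W) : w ^ 2 = 1 := by
  refine eq_one_of_fix cs h _ fun i => ?_
  have hr := isRoot_sr cs h i
  show rep cs h (w ^ 2) (sr i) = sr i
  rw [pow_two, map_mul, Module.End.mul_apply]
  rcases H.orth (fun _ h => IsRoot.neg h) hr (hr.act w) with h1 | h1 | h1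
  · rw [h1, h1]
  · rw [h1, map_neg, h1, neg_neg]
  · exact absurd h1 (H.shp.rep_ne w hr)

end Roots

section Vec

variable {α k : Type*} [Field k]

theorem exists_orbit {g : α → α} {c : α → k} (hc : ∀ a, c a ≠ 0) {q : ℕ} (hq : q ≠ 0) {B : Set α} (hinj : Set.InjOn g B)
    (hB : Set.MapsTo g B B) {b : α} (hbB : b ∈ B) (hb : b ∈ Function.periodicPts g) :
    ∃ C : k, C ≠ 0 ∧ ∀ s, C * s ^ q ^ Function.minimalPeriod g b = s →
      ∃ t : α → k, (∀ a ∈ B, t (g a) = c a * t a ^ q) ∧ t b = s ∧ ∀ a, t a ≠ 0 → ∃ i, g^[i] b = a := by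
  classical
  let C : ℕ → k := fun n => Nat.rec 1 (fun i x => c (g^[i] b) * x ^ q) n
  have C0 : C 0 = 1 := rfl
  have C1 : ∀ i, C (i + 1) = c (g^[i] b) * C i ^ q := fun _ => rfl
  have hC : ∀ i, C i ≠ 0 := fun i => by
    induction i with
    | zero => exact one_ne_zero
    | succ i ih => exact mul_ne_zero (hc _) (pow_ne_zero _ ih)
  set d := Function.minimalPeriod g b
  have hd : 0 < d := Function.minimalPeriod_pos_of_mem_periodicPts hb
  refine ⟨C d, hC d, fun s hs => ?_⟩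
  let sq : ℕ → k := fun i => C i * s ^ q ^ i
  have s1 : ∀ i, sq (i + 1) = c (g^[i] b) * sq i ^ q := fun i => by
    simp only [sq]
    rw [C1, mul_pow, ← pow_mul, pow_succ, mul_assoc]
  have hper : Function.Periodic sq d := fun i => by
    induction i with
    | zero => simp only [sq, zero_add, hs, C0, pow_zero, pow_one, one_mul]
    | succ i ih => rw [add_right_comm, s1, s1, ih, Function.iterate_add_minimalPeriod_eq]
  have wd : ∀ i j, g^[i] b = g^[j] b → sq i = sq j := fun i j e => by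
    rw [← Function.iterate_mod_minimalPeriod_eq (n := i), ← Function.iterate_mod_minimalPeriod_eq (n := j),
      Function.iterate_eq_iterate_iff_of_lt_minimalPeriod (Nat.mod_lt _ hd) (Nat.mod_lt _ hd)] at e
    rw [← hper.map_mod_nat i, ← hper.map_mod_nat j, e]
  let t : α → k := fun a => if h : ∃ i, g^[i] b = a then sq h.choose else 0
  have ht : ∀ i, t (g^[i] b) = sq i := fun i => by
    have h1 : ∃ j, g^[j] b = g^[i] b := ⟨i, rfl⟩
    simp only [t, dif_pos h1]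
    exact wd _ _ h1.choose_spec
  refine ⟨t, fun a ha => ?_, ?_, fun a ha => ?_⟩
  · by_cases h1 : ∃ i, g^[i] b = a
    · obtain ⟨i, rfl⟩ := h1
      rw [← Function.iterate_succ_apply' g, ht, ht, s1]
    · have h2 : ¬ ∃ i, g^[i] b = g a := by
        rintro ⟨i, e⟩
        refine h1 ⟨i + d - 1, hinj (hB.iterate _ hbB) ha ?_⟩
        rw [← Function.iterate_succ_apply' g, show (i + d - 1).succ = i + d by omega,
          Function.iterate_add_minimalPeriod_eq, e]
      simp only [t, dif_neg h1, dif_neg h2]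
      rw [zero_pow hq, mul_zero]
  · have := ht 0
    simpa only [Function.iterate_zero, id, sq, C0, pow_zero, pow_one, one_mul] using this
  · by_contra h1
    exact ha (dif_neg h1)

variable {p : ℕ} [Fact p.Prime] {k : Type} [Field k] [CharP k p] [IsAlgClosed k]

theorem ncard_sol {C : k} (hC : C ≠ 0) {n : ℕ} (hn : 0 < n) : {s : k | C * s ^ p ^ n = s}.ncard = p ^ n := by
  have h1 : 1 < p ^ n := Nat.one_lt_pow hn.ne' (Fact.out : p.Prime).one_lt
  obtain ⟨s₀, hs⟩ := IsAlgClosed.exists_pow_nat_eq C⁻¹ (show 0 < p ^ n - 1 by omega)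
  have h0 : s₀ ≠ 0 := by
    rintro rfl
    rw [zero_pow (by omega)] at hs
    exact inv_ne_zero hC hs.symm
  have h2 : C * s₀ ^ p ^ n = s₀ := by
    rw [show p ^ n = p ^ n - 1 + 1 by omega, pow_succ, hs, ← mul_assoc, mul_inv_cancel₀ hC, one_mul]
  have e : {s : k | C * s ^ p ^ n = s} = (fun z => s₀ * z) '' {z : k | z ^ p ^ n = z} := by
    ext s
    constructor
    · intro h
      refine ⟨s₀⁻¹ * s, mul_left_cancel₀ h0 ?_, mul_inv_cancel_left₀ h0 s⟩
      rw [mul_inv_cancel_left₀ h0]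
      calc s₀ * (s₀⁻¹ * s) ^ p ^ n = C * s₀ ^ p ^ n * (s₀⁻¹ * s) ^ p ^ n := by rw [h2]
        _ = s := by rw [mul_assoc, ← mul_pow, mul_inv_cancel_left₀ h0]; exact h
    · rintro ⟨z, hz, rfl⟩
      show C * (s₀ * z) ^ p ^ n = s₀ * z
      rw [mul_pow, ← mul_assoc, h2, hz]
  rw [e, Set.ncard_image_of_injective _ (mul_right_injective₀ h0), ← Nat.card_coe_set_eq]
  exact card_pow_eq hn

theorem exists_sol {C : k} (hC : C ≠ 0) {n : ℕ} (hn : 0 < n) {E : Set k} (hE : E.Finite) (h : E.ncard < p ^ n) :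
    ∃ s, C * s ^ p ^ n = s ∧ s ∉ E := by
  by_contra h1
  push Not at h1
  have := Set.ncard_le_ncard (s := {s : k | C * s ^ p ^ n = s}) h1 hE
  rw [ncard_sol hC hn] at this
  omega

theorem exists_sol_ne {C : k} (hC : C ≠ 0) {n : ℕ} (hn : 0 < n) : ∃ s, C * s ^ p ^ n = s ∧ s ≠ 0 :=
  exists_sol hC hn (E := {0}) (Set.finite_singleton 0) (by
    rw [Set.ncard_singleton]; exact Nat.one_lt_pow hn.ne' (Fact.out : p.Prime).one_lt)

theorem exists_full {g : α → α} {c : α → k} (hc : ∀ a, c a ≠ 0) {e : ℕ} (he : 0 < e) {B : Set α} (hf : B.Finite)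
    (hinj : Set.InjOn g B) (hB : Set.MapsTo g B B) (hb : ∀ b ∈ B, b ∈ Function.periodicPts g) :
    ∃ t : α → k, (∀ a ∈ B, t (g a) = c a * t a ^ p ^ e) ∧ ∀ b ∈ B, t b ≠ 0 := by
  have hq : p ^ e ≠ 0 := pow_ne_zero _ (Fact.out : p.Prime).ne_zero
  suffices h : ∀ B' : Set α, B'.Finite → B' ⊆ B →
    ∃ t : α → k, (∀ a ∈ B, t (g a) = c a * t a ^ p ^ e) ∧ ∀ b ∈ B', t b ≠ 0 from h B hf subset_rfl
  intro B' hB'
  induction B', hB' using Set.Finite.induction_on with
  | empty => exact fun _ => ⟨0, fun _ _ => by rw [Pi.zero_apply, Pi.zero_apply, zero_pow hq, mul_zero], fun _ h => h.elim⟩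
  | @insert b B' _ _ ih =>
    intro hs
    obtain ⟨t, ht, h1⟩ := ih ((Set.subset_insert _ _).trans hs)
    have hbB := hs (Set.mem_insert _ _)
    by_cases h0 : t b = 0
    · obtain ⟨C, hC, h2⟩ := exists_orbit hc hq hinj hB hbB (hb b hbB)
      obtain ⟨s, hs1, hs0⟩ := exists_sol_ne (p := p) hC
        (Nat.mul_pos he (Function.minimalPeriod_pos_of_mem_periodicPts (hb b hbB)))
      obtain ⟨t', ht', h3, h4⟩ := h2 s (by rwa [← pow_mul])
      have h5 : ∀ i, t (g^[i] b) = 0 := fun i => by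
        induction i with
        | zero => exact h0
        | succ i ih => rw [Function.iterate_succ_apply', ht _ (hB.iterate i hbB), ih, zero_pow hq, mul_zero]
      refine ⟨t + t', fun a ha => by rw [Pi.add_apply, Pi.add_apply, ht a ha, ht' a ha, add_pow_char_pow, mul_add], ?_⟩
      rintro a (rfl | ha)
      · rwa [Pi.add_apply, h0, zero_add, h3]
      · have h6 : t' a = 0 := by
          by_contra h7
          obtain ⟨i, rfl⟩ := h4 a h7
          exact h1 _ ha (h5 i)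
        rw [Pi.add_apply, h6, add_zero]
        exact h1 a ha
    · refine ⟨t, ht, ?_⟩
      rintro a (rfl | ha)
      exacts [h0, h1 a ha]

end Vec

variable {p : ℕ} [Fact p.Prime] {k : Type} [Field k] [CharP k p] {Y : Type} [Group Y] {N : Type} [Fintype N]
  [DecidableEq N] {ρ : Y →* GL N k} {F : MulAut Y} {G : Subgroup Y} [IsAlgClosed k] {D : Datum p ρ F G}

theorem periodic {a : D.I → ℤ} (ha : D.Rt a) : a ∈ Function.periodicPts D.g := by
  obtain ⟨d, e, H⟩ := D.exists_split'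
  refine ⟨d, H.d_pos, ?_⟩
  obtain ⟨c, -, hc⟩ := D.F_pow_x d ha
  by_contra h
  have h1 := D.eq_one_of_mem_X_X (D.iterate_g_root d ha) ha h (u := (F ^ d) (D.x a 1))
    (by rw [hc]; exact D.x_mem (D.iterate_g_root d ha) _) (by rw [H.x a ha]; exact D.x_mem ha _)
  rw [H.x a ha, one_pow, D.x_eq_one_iff ha] at h1
  exact one_ne_zero h1

theorem g_injOn {B : Set (D.I → ℤ)} (hB : ∀ a ∈ B, D.Rt a) : Set.InjOn D.g B := fun a ha b hb =>
  D.g_inj (hB a ha) (hB b hb)

/-- orthogonality is preserved -/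
theorem cpr_g_zero {a b : D.I → ℤ} (ha : D.Rt a) (hb : D.Rt b) (h : cpr D.cs D.h a b = 0) :
    cpr D.cs D.h (D.g a) (D.g b) = 0 := by
  have h1 := D.g_act (D.rf b) ha
  rw [D.Fw_rf hb, D.act_rf hb, D.act_rf (D.g_root b hb), h, zero_smul, sub_zero, eq_comm, sub_eq_self] at h1
  exact (smul_eq_zero.1 h1).resolve_right (D.g_root b hb).ne_zero

section Const

variable {e : ℕ} (hex : ∀ a, D.Rt a → D.ex a = e)
include hex

theorem ψ_g' {a : D.I → ℤ} (ha : D.Rt a) : D.ψ (D.g a) = ((p : ℤ) ^ e) • a := by rw [D.ψ_g ha, hex a ha]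

theorem g_lin {a b c : D.I → ℤ} (ha : D.Rt a) (hb : D.Rt b) (hc : D.Rt c) {i j : ℤ} :
    D.g c = i • D.g a + j • D.g b ↔ c = i • a + j • b := by
  have hq : (p : ℤ) ^ e ≠ 0 := pow_ne_zero _ (Int.natCast_ne_zero.2 (Fact.out : p.Prime).ne_zero)
  rw [← D.ψ_injective.eq_iff, map_add, map_zsmul, map_zsmul, ψ_g' hex ha, ψ_g' hex hb, ψ_g' hex hc, smul_comm i,
    smul_comm j, ← smul_add, (smul_right_injective _ hq).eq_iff]

theorem g_add {a b : D.I → ℤ} (ha : D.Rt a) (hb : D.Rt b) (hc : D.Rt (a + b)) : D.g (a + b) = D.g a + D.g b := by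
  have := (g_lin hex ha hb hc (i := 1) (j := 1)).2 (by rw [one_smul, one_smul])
  rwa [one_smul, one_smul] at this

theorem cpr_g {a b : D.I → ℤ} (ha : D.Rt a) (hb : D.Rt b) : cpr D.cs D.h (D.g a) (D.g b) = cpr D.cs D.h a b := by
  have h1 := D.g_act (D.rf b) ha
  rw [D.Fw_rf hb, D.act_rf hb, D.act_rf (D.g_root b hb)] at h1
  have h2 := (g_lin hex ha hb (isRoot_refl D.cs D.h ha hb) (i := 1) (j := -cpr D.cs D.h a b)).2 (by
    rw [one_smul, neg_smul, sub_eq_add_neg])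
  rw [h1, one_smul, neg_smul, ← sub_eq_add_neg, sub_right_inj] at h2
  exact smul_left_injective ℤ (D.g_root b hb).ne_zero h2

theorem ht_g (hq : D.QS) {a : D.I → ℤ} (ha : D.Rt a) : htHom (D.g a) = htHom a := by
  have hq' : (p : ℤ) ^ e ≠ 0 := pow_ne_zero _ (Int.natCast_ne_zero.2 (Fact.out : p.Prime).ne_zero)
  have h0 : ∀ i : D.I, htHom (sr i) = 1 := fun i => by
    show ∑ j, sr i j = 1
    simp [sr]
  have h1 : ∀ x, htHom (D.ψ x) = (p : ℤ) ^ e * htHom x := fun x => by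
    rw [show htHom (D.ψ x) = (htHom.comp D.ψ) x from rfl, D.map_eq_sum, D.map_eq_sum htHom x, Finset.mul_sum]
    refine Finset.sum_congr rfl fun i _ => ?_
    obtain ⟨j, rfl⟩ := D.σ.surjective i
    rw [AddMonoidHom.comp_apply, h0, ← hq.g_sr, ψ_g' hex (isRoot_sr _ _ j), map_zsmul, h0, smul_eq_mul]
    ring
  have h2 := h1 (D.g a)
  rw [ψ_g' hex ha, map_zsmul, smul_eq_mul] at h2
  exact (mul_left_cancel₀ hq' h2).symm

theorem dom_g (hq : D.QS) {a : D.I → ℤ} (ha : D.Rt a) (h : Dom D.A a) : Dom D.A (D.g a) := fun i => by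
  obtain ⟨j, rfl⟩ := D.σ.surjective i
  rw [← cpr_sr D.cs D.h, ← hq.g_sr, cpr_g hex ha (isRoot_sr _ _ j), cpr_sr]
  exact h j

end Const

end Cfsg.Agent.SB.Exc.Max
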