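import Cfsg.Agent.SB.Exc.Max.Iface

/-!
# S5765, `BoxMax`: transfer between a datum and the datum of a centraliser (helper50)

`cpr_io`, `commZ_sub`, `dcon_sub`, `sub_S_roots`, `shp_sub_iff`, `iso_sub_iff`; `Ps` (positive roots trivial on `Z`),
`Dm` (dominance for `Ps`), `sub_nf` (Bruhat decomposition in the centraliser), `eq_of_dm`, `subW_eq_one`.
-/

set_option autoImplicit false
set_option linter.unusedSectionVars false

namespace Cfsg.Agent.SB.Exc.Max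

open CoxeterSystem Cfsg.Agent.ChevalleyStructure.CoxeterGeom Cfsg.Agent.Tits.Roots Cfsg.Agent.Nodes.Reps
  Cfsg.Agent.Nodes.BNOf Cfsg.Agent.Nodes.Bruhat Cfsg.Agent.LangThm Cfsg.Agent.Nodes.SubComb
  Cfsg.Agent.Nodes.Coroot Cfsg.Agent.Nodes.Slope Cfsg.Agent.Nodes.NormalForm Cfsg.Agent.DL.Base Cfsg.Agent.DL
  Cfsg.Agent.BpExc.Zc
open scoped Pointwise commutatorElement

attribute [local instance] fintypeSmp decSmp

variable {p : ℕ} [Fact p.Prime] {k : Type} [Field k] [CharP k p] {Y : Type} [Group Y] {N : Type} [Fintype N]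
  [DecidableEq N] {ρ : Y →* GL N k} {σ : MulAut Y} {G : Subgroup Y} [IsAlgClosed k] (D : Datum p ρ σ G)

/-- the positive roots trivial on `Z` -/
def Ps (Z : Set Y) : Set (D.I → ℤ) := RGD.Pos D.cs D.h ∩ D.Sz Z

/-- dominance with respect to the positive roots trivial on `Z` -/
def Dm (Z : Set Y) (b : D.I → ℤ) : Prop := ∀ a ∈ Ps D Z, 0 ≤ cpr D.cs D.h b a

/-- the simple roots trivial on `Z` -/
def Bs (Z : Set Y) : Set (D.I → ℤ) := Set.range (bs D.cs D.h (D.Lam Z))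

variable {D} {Z : Set Y}

theorem Ps.root {a : D.I → ℤ} (ha : a ∈ Ps D Z) : D.Rt a := ha.1.1

theorem bs_mem_Ps {a : D.I → ℤ} (ha : a ∈ Bs D Z) : a ∈ Ps D Z := by
  obtain ⟨j, rfl⟩ := ha
  exact ⟨⟨bs_root j, bs_nonneg j⟩, bs_root j, bs_mem j⟩

theorem mem_Bs {a : D.I → ℤ} : a ∈ Bs D Z ↔ a ∈ Ps D Z ∧ ∀ b ∈ Ps D Z, ∀ c ∈ Ps D Z, a ≠ b + c := by
  constructor
  · rintro ⟨j, rfl⟩
    exact ⟨bs_mem_Ps ⟨j, rfl⟩, fun b hb c hc => j.2.2 b c ⟨hb.1.1, hb.1.2, hb.2.2⟩ ⟨hc.1.1, hc.1.2, hc.2.2⟩⟩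
  · rintro ⟨h1, h2⟩
    exact ⟨⟨a, ⟨h1.1.1, h1.1.2, h1.2.2⟩, fun b c hb hc =>
      h2 b ⟨⟨hb.1, hb.2.1⟩, hb.1, hb.2.2⟩ c ⟨⟨hc.1, hc.2.1⟩, hc.1, hc.2.2⟩⟩, rfl⟩

theorem Sz_sub {a b : D.I → ℤ} (ha : a ∈ D.Sz Z) (hb : b ∈ D.Sz Z) {i j : ℤ} (h : D.Rt (i • a + j • b)) :
    i • a + j • b ∈ D.Sz Z :=
  ⟨h, (D.Lam Z).add_mem ((D.Lam Z).zsmul_mem ha.2 i) ((D.Lam Z).zsmul_mem hb.2 j)⟩

theorem Sz_refl {a b : D.I → ℤ} (ha : a ∈ D.Sz Z) (hb : D.Rt b) : b - cpr D.cs D.h b a • a ∈ D.Sz Z ↔ b ∈ D.Sz Z := by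
  refine ⟨fun h => ⟨hb, ?_⟩, fun h => ⟨isRoot_refl D.cs D.h hb ha.1, ?_⟩⟩
  · have := (D.Lam Z).add_mem h.2 ((D.Lam Z).zsmul_mem ha.2 (cpr D.cs D.h b a))
    rwa [sub_add_cancel] at this
  · exact (D.Lam Z).sub_mem h.2 ((D.Lam Z).zsmul_mem ha.2 _)

/-- an additive statement holds on `D.Sz Z` if it holds on the simple roots -/
theorem map_eq_of_Bs {V : Type*} [AddCommGroup V] (f f' : (D.I → ℤ) →+ V) (h : ∀ b ∈ Bs D Z, f b = f' b) {a : D.I → ℤ}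
    (ha : a ∈ D.Sz Z) : f a = f' a := by
  obtain ⟨c, -, rfl⟩ := exists_root (Λ := D.Lam Z) ha.1 ha.2
  rw [iota_apply, map_sum, map_sum]
  exact Finset.sum_congr rfl fun j _ => by rw [map_zsmul, map_zsmul, h _ ⟨j, rfl⟩]

variable (hZ : Z ⊆ D.T) (hF : ∀ a ∈ D.Sz Z, D.g a ∈ D.Sz Z) {C : Subgroup Y} (hC : D.cen Z = C)

theorem exists_io {a : D.I → ℤ} (ha : a ∈ D.Sz Z) : ∃ c, (D.sub hZ hF hC).Rt c ∧ D.io Z c = a :=
  exists_root (Λ := D.Lam Z) ha.1 ha.2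

theorem io_mem {c : (D.sub hZ hF hC).I → ℤ} (hc : (D.sub hZ hF hC).Rt c) : D.io Z c ∈ D.Sz Z := (D.sub_rt hZ hF hC).1 hc

theorem io_nonneg {c : (D.sub hZ hF hC).I → ℤ} (hc : (D.sub hZ hF hC).Rt c) : 0 ≤ D.io Z c ↔ 0 ≤ c := iota_nonneg_iff hc

theorem cpr_io (a : (D.sub hZ hF hC).I → ℤ) {b : (D.sub hZ hF hC).I → ℤ} (hb : (D.sub hZ hF hC).Rt b) :
    cpr D.cs D.h (D.io Z a) (D.io Z b) = cpr (D.sub hZ hF hC).cs (D.sub hZ hF hC).h a b := by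
  have h1 := D.act_subW hZ hF hC ((D.sub hZ hF hC).rf b) a
  have h2 := (io_mem hZ hF hC hb).1
  rw [D.subW_rf hZ hF hC hb, D.act_rf h2, (D.sub hZ hF hC).act_rf hb, map_sub, map_zsmul, sub_right_inj] at h1
  exact smul_left_injective ℤ h2.ne_zero h1

theorem sub_S_roots : (D.sub hZ hF hC).S {c | (D.sub hZ hF hC).Rt c} = D.S (D.Sz Z) := by
  rw [D.sub_S hZ hF hC]
  exact congrArg D.S (D.io_roots Z)

theorem sub_U_eq : (D.sub hZ hF hC).U = D.S (Ps D Z) := D.sub_U' hZ hF hC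

theorem commZ_sub (H : CommZ D.cs D.h D.X) : CommZ (D.sub hZ hF hC).cs (D.sub hZ hF hC).h (D.sub hZ hF hC).X := by
  intro a b ha hb h1 h2 u hu v hv
  have h3 := H _ _ (io_mem hZ hF hC ha).1 (io_mem hZ hF hC hb).1 (fun e => h1 (D.io_injective Z e))
    (fun e => h2 (D.io_injective Z (by rw [e, map_neg]))) u hu v hv
  show _ ∈ (D.sub hZ hF hC).S _
  rw [D.sub_S hZ hF hC]
  refine RGD.Sup_mono ?_ h3
  rintro z ⟨hz, i, j, hi, hj, rfl⟩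
  have e : D.io Z (i • a + j • b) = i • D.io Z a + j • D.io Z b := by rw [map_add, map_zsmul, map_zsmul]
  exact ⟨i • a + j • b, ⟨(isRoot_iff _).2 (by erw [e]; exact hz), i, j, hi, hj, rfl⟩, e⟩

theorem dcon_sub {c : (D.sub hZ hF hC).I → ℤ} (hc : (D.sub hZ hF hC).Rt c) (H : DCon D (D.Sz Z) (D.io Z c)) :
    DCon (D.sub hZ hF hC) {c | (D.sub hZ hF hC).Rt c} c := fun d hd h0 u hu v hv =>
  H _ (io_mem hZ hF hC hd) (by rwa [cpr_io hZ hF hC d hc]) u hu v hv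

theorem dc_sub (H : DC D.cs D.h D.X) : DC (D.sub hZ hF hC).cs (D.sub hZ hF hC).h (D.sub hZ hF hC).X :=
  fun a b ha hb h0 u hu v hv =>
    H _ _ (io_mem hZ hF hC ha).1 (io_mem hZ hF hC hb).1 (by rwa [cpr_io hZ hF hC b ha]) u hu v hv

theorem io_mem_nb {r c : (D.sub hZ hF hC).I → ℤ} (hr : (D.sub hZ hF hC).Rt r) :
    D.io Z c ∈ Nb D.cs D.h (D.Sz Z) (D.io Z r) ↔
      c ∈ Nb (D.sub hZ hF hC).cs (D.sub hZ hF hC).h {c | (D.sub hZ hF hC).Rt c} r := by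
  unfold Nb
  rw [Set.mem_ofPred_eq, Set.mem_ofPred_eq, cpr_io hZ hF hC c hr, ← D.sub_rt hZ hF hC, (D.io_injective Z).ne_iff]
  rfl

theorem nb_io {r : (D.sub hZ hF hC).I → ℤ} (hr : (D.sub hZ hF hC).Rt r) : Nb D.cs D.h (D.Sz Z) (D.io Z r) =
    D.io Z '' Nb (D.sub hZ hF hC).cs (D.sub hZ hF hC).h {c | (D.sub hZ hF hC).Rt c} r := by
  ext a
  constructor
  · intro ha
    obtain ⟨c, -, rfl⟩ := exists_io hZ hF hC ha.1
    exact ⟨c, (io_mem_nb hZ hF hC hr).1 ha, rfl⟩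
  · rintro ⟨c, hc, rfl⟩
    exact (io_mem_nb hZ hF hC hr).2 hc

theorem iso_sub_iff : Iso (D.sub hZ hF hC).cs (D.sub hZ hF hC).h {c | (D.sub hZ hF hC).Rt c} ↔
    Iso D.cs D.h (D.Sz Z) := by
  constructor
  · intro H r hr
    obtain ⟨c, hc, rfl⟩ := exists_io hZ hF hC hr
    rw [nb_io hZ hF hC hc, H c hc, Set.image_empty]
  · intro H r hr
    have := H _ (io_mem hZ hF hC hr)
    rwa [nb_io hZ hF hC hr, Set.image_eq_empty] at this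

theorem shp_sub_iff : Shp (D.sub hZ hF hC).cs (D.sub hZ hF hC).h {c | (D.sub hZ hF hC).Rt c} ↔
    Shp D.cs D.h (D.Sz Z) := by
  constructor
  · intro H
    refine ⟨fun r hr c hc => ?_, fun r hr c₁ h₁ c₂ h₂ c₃ h₃ => ?_⟩
    · obtain ⟨r, hr', rfl⟩ := exists_io hZ hF hC hr
      rw [nb_io hZ hF hC hr'] at hc
      obtain ⟨c, hc, rfl⟩ := hc
      rw [cpr_io hZ hF hC c hr']
      exact H.one r hr' c hc
    · obtain ⟨r, hr', rfl⟩ := exists_io hZ hF hC hr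
      rw [nb_io hZ hF hC hr'] at h₁ h₂ h₃
      obtain ⟨c₁, h₁, rfl⟩ := h₁
      obtain ⟨c₂, h₂, rfl⟩ := h₂
      obtain ⟨c₃, h₃, rfl⟩ := h₃
      rcases H.two r hr' c₁ h₁ c₂ h₂ c₃ h₃ with e | e | e <;> simp [e]
  · intro H
    refine ⟨fun r hr c hc => ?_, fun r hr c₁ h₁ c₂ h₂ c₃ h₃ => ?_⟩
    · rw [← cpr_io hZ hF hC c hr]
      exact H.one _ (io_mem hZ hF hC hr) _ ((io_mem_nb hZ hF hC hr).2 hc)
    · have := H.two _ (io_mem hZ hF hC hr) _ ((io_mem_nb hZ hF hC hr).2 h₁) _ ((io_mem_nb hZ hF hC hr).2 h₂) _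
        ((io_mem_nb hZ hF hC hr).2 h₃)
      simpa only [(D.io_injective Z).eq_iff] using this

theorem dom_iff {c : (D.sub hZ hF hC).I → ℤ} : Dom (D.sub hZ hF hC).A c ↔ Dm D Z (D.io Z c) := by
  have := (D.sub hZ hF hC).fW
  constructor
  · intro H a ha
    obtain ⟨d, hd, rfl⟩ := exists_io hZ hF hC ha.2
    rw [cpr_io hZ hF hC c hd]
    exact dom_cpr' H hd ((io_nonneg hZ hF hC hd).1 ha.1.2)
  · intro H j
    rw [← cpr_sr (D.sub hZ hF hC).cs (D.sub hZ hF hC).h, ← cpr_io hZ hF hC c (isRoot_sr _ _ j)]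
    refine H _ (bs_mem_Ps ⟨j, ?_⟩)
    exact (iota_sr _ j).symm

include hZ hF in
/-- the Bruhat decomposition in the connected centraliser -/
theorem sub_nf {y : Y} (hy : y ∈ D.cen Z) : ∃ v, ∃ u ∈ D.S (Ps D Z), ∃ m ∈ D.cen Z, D.Rp (D.subW Z v) m ∧
    ∃ u' ∈ D.S (Ps D Z), y = u * m * u' := by
  obtain ⟨v, u, hu, m, hm, u', hu', e⟩ := (D.sub hZ hF rfl).exists_normal_form hy
  exact ⟨v, u, sub_U_eq hZ hF rfl ▸ hu, m, Datum.Rp.mem_G hm, D.rp_of_sub hZ hF rfl hm, u',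
    sub_U_eq hZ hF rfl ▸ (D.sub hZ hF rfl).NW_le_U v hu', e⟩

include hZ hF in
theorem le_of_dm {b : D.I → ℤ} (hb : Dm D Z b) : ∀ v, D.act (D.subW Z v) b ≤ b := by
  intro w
  induction hn : (D.sub hZ hF rfl).cs.length w using Nat.strong_induction_on generalizing w with
  | _ n ih =>
  by_cases hw : w = 1
  · rw [hw, map_one, act_one]
  obtain ⟨i, hi⟩ := (D.sub hZ hF rfl).cs.exists_rightDescent_of_ne_one hw
  have hi' : (D.sub hZ hF rfl).cs.length (w * (D.sub hZ hF rfl).cs.simple i) < (D.sub hZ hF rfl).cs.length w := hi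
  have h1 := ih _ (by omega) (w * (D.sub hZ hF rfl).cs.simple i) rfl
  have h2 : w = w * (D.sub hZ hF rfl).cs.simple i * (D.sub hZ hF rfl).cs.simple i := by
    rw [mul_assoc, simple_mul_simple_self, mul_one]
  have h3 : 0 ≤ (D.sub hZ hF rfl).act (w * (D.sub hZ hF rfl).cs.simple i) (sr i) :=
    nonneg_of_lt _ _ (w * (D.sub hZ hF rfl).cs.simple i) i (by rwa [simple_mul_simple_cancel_right])
  have h4 : 0 ≤ D.act (D.subW Z (w * (D.sub hZ hF rfl).cs.simple i)) (bs D.cs D.h (D.Lam Z) i) := by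
    rw [← iota_sr (bs D.cs D.h (D.Lam Z)) i]
    erw [D.act_subW hZ hF rfl]
    exact iota_nonneg h3
  rw [h2, map_mul, act_mul, D.subW_simple hZ hF rfl, D.act_rf (bs_root i), Datum.act, map_sub, map_zsmul]
  exact (sub_le_self _ (smul_nonneg (hb _ (bs_mem_Ps ⟨i, rfl⟩)) h4)).trans h1

include hZ hF in
theorem eq_of_dm {b : D.I → ℤ} (hb : Dm D Z b) {v : (cox D.cs D.h (D.Lam Z)).Group}
    (hv : Dm D Z (D.act (D.subW Z v) b)) : D.act (D.subW Z v) b = b := by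
  refine le_antisymm (le_of_dm hZ hF hb v) ?_
  have := le_of_dm hZ hF hv v⁻¹
  rwa [map_inv, act_inv_act] at this

include hZ hF in
theorem subW_eq_one {v : (cox D.cs D.h (D.Lam Z)).Group} (h : ∀ b ∈ Bs D Z, 0 ≤ D.act (D.subW Z v) b) : v = 1 := by
  refine eq_one_of_pos (D.sub hZ hF rfl) fun j => ?_
  rw [← io_nonneg hZ hF rfl ((isRoot_sr _ _ j).act _), ← D.act_subW hZ hF rfl]
  exact h _ ⟨j, (iota_sr _ j).symm⟩

include hZ hF in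
theorem act_subW_mem (v : (cox D.cs D.h (D.Lam Z)).Group) {a : D.I → ℤ} (ha : a ∈ D.Sz Z) :
    D.act (D.subW Z v) a ∈ D.Sz Z := by
  obtain ⟨c, hc, rfl⟩ := exists_io hZ hF rfl ha
  rw [D.act_subW hZ hF rfl]
  exact io_mem hZ hF rfl (hc.act _)

include hZ hF in
theorem not_btwn_Bs {a a' b : D.I → ℤ} (ha : a ∈ Ps D Z) (ha' : a' ∈ Ps D Z) (hne : a ≠ a') (hb : b ∈ Bs D Z) :
    ¬ Btwn D.cs D.h a a' b := by
  obtain ⟨j, rfl⟩ := hb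
  obtain ⟨c, hc, rfl⟩ := exists_io hZ hF rfl ha.2
  obtain ⟨c', hc', rfl⟩ := exists_io hZ hF rfl ha'.2
  rw [← iota_sr (bs D.cs D.h (D.Lam Z)) j]
  intro h
  have h1 := btwn_iff.2 h
  have p1 := (io_nonneg hZ hF rfl hc).1 ha.1.2
  have p2 := (io_nonneg hZ hF rfl hc').1 ha'.1.2
  by_cases e : c' = sr j
  · exact Nodes.StabComb.btwn_ne_sr h1.symm p2 hc p1 (fun e' => hne (by rw [e, e'])) rfl
  · exact Nodes.StabComb.btwn_ne_sr h1 p1 hc' p2 e rfl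

end Cfsg.Agent.SB.Exc.Max
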