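import Cfsg.Agent.SB.Exc.Max.Shape

/-!
# S5765, `BoxMax`: the dominant roots and the first step of the main argument (helper50)

`SQ` : `Sit` in a frame in which `σ` preserves the positive roots trivial on `Z`, with `DC`.  `S0` the dominant roots,
`B1 = S0 \ Sz Z`, `B2` the indecomposable ones.  `SQ.rk` (RK1), `SQ.fixU` : a bad lift fixes `U₁ ^ σ` pointwise.
-/

set_option autoImplicit false
set_option linter.unusedSectionVars false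
set_option linter.unusedVariables false

namespace Cfsg.Agent.SB.Exc.Max

open CoxeterSystem Cfsg.Agent.ChevalleyStructure.CoxeterGeom Cfsg.Agent.Tits.Roots Cfsg.Agent.Nodes.Reps
  Cfsg.Agent.Nodes.BNOf Cfsg.Agent.Nodes.Bruhat Cfsg.Agent.LangThm Cfsg.Agent.Nodes.SubComb
  Cfsg.Agent.Nodes.Coroot Cfsg.Agent.Nodes.Slope Cfsg.Agent.Nodes.NormalForm Cfsg.Agent.DL.Base Cfsg.Agent.DL
  Cfsg.Agent.BpExc.Zc
open scoped Pointwise commutatorElement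

attribute [local instance] fintypeSmp decSmp

variable {p : ℕ} [Fact p.Prime] {k : Type} [Field k] [CharP k p] {Y : Type} [Group Y] {N : Type} [Fintype N]
  [DecidableEq N] {ρ : Y →* GL N k} {σ : MulAut Y} [IsAlgClosed k]

section Gen

variable {G : Subgroup Y} {D : Datum p ρ σ G}

theorem eq_one_of_mul_pel {A : Set (D.I → ℤ)} (hA : ∀ a ∈ A, D.Rt a) (lam : (D.I → ℤ) →+ ℤ) (hl : ∀ a ∈ A, 0 < lam a)
    {u t : Y} (hu : u ∈ D.S A) (ht : t ∈ D.T) {j : ℕ} (h : (u * t) ^ p ^ j = 1) : t = 1 := by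
  have key : ∀ n : ℕ, (u * t) ^ n * (t ^ n)⁻¹ ∈ D.S A := fun n => by
    induction n with
    | zero => simp
    | succ n ih =>
      have := mul_mem ih (D.conj_mem_S_of_T hA (pow_mem ht n) hu)
      convert this using 1
      rw [pow_succ, pow_succ]
      group
  have h1 := key (p ^ j)
  rw [h, one_mul, inv_mem_iff] at h1
  obtain ⟨i, hi⟩ := pel_of_pos hA lam hl h1
  exact eq_one_of_T_pel ht (eq_one_of_T_pel (pow_mem ht _) hi)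

theorem Cm.map {a b : D.I → ℤ} (ha : D.Rt a) (hb : D.Rt b) (h : Cm D a b) : Cm D (D.g a) (D.g b) := fun u hu v hv => by
  have h1 := h (σ⁻¹ u) ((D.F_mem_X_iff ha _).1 (by rwa [MulAut.apply_inv_self])) (σ⁻¹ v)
    ((D.F_mem_X_iff hb _).1 (by rwa [MulAut.apply_inv_self]))
  rw [← map_mul, ← map_mul] at h1
  exact (σ⁻¹).injective h1

theorem mem_of_Bs {Z : Set Y} (L : AddSubgroup (D.I → ℤ)) (h : ∀ b ∈ Bs D Z, b ∈ L) {a : D.I → ℤ} (ha : a ∈ D.Sz Z) :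
    a ∈ L := by
  obtain ⟨c, -, rfl⟩ := exists_root (Λ := D.Lam Z) ha.1 ha.2
  rw [iota_apply]
  exact sum_mem fun j _ => L.zsmul_mem (h _ ⟨j, rfl⟩) _

theorem pos_or_neg_Ps {Z : Set Y} {a : D.I → ℤ} (ha : a ∈ D.Sz Z) : a ∈ Ps D Z ∨ -a ∈ Ps D Z := by
  rcases ha.1.pos_or_neg with h | h
  · exact Or.inl ⟨⟨ha.1, h⟩, ha⟩
  · exact Or.inr ⟨⟨ha.1.neg, neg_nonneg.2 h⟩, D.Sz_neg ha⟩

theorem nonneg_of_dm {Z : Set Y} {a b : D.I → ℤ} (hb : Dm D Z b) (ha : a ∈ D.Sz Z) (h : 0 < cpr D.cs D.h b a) :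
    a ∈ Ps D Z := (pos_or_neg_Ps ha).resolve_right fun h1 => by
  have := hb _ h1
  rw [cpr_neg_right _ _ _ ha.1] at this
  omega

theorem finite_Ps (Z : Set Y) : (Ps D Z).Finite := D.finite_roots.subset fun _ h => h.1.1

theorem ht_Ps {Z : Set Y} : ∀ a ∈ Ps D Z, 0 < htHom a := fun a ha => D.ht_pos_of_pos a ha.1

theorem g_mem_Bs {Z : Set Y} {e : ℕ} (hex : ∀ a, D.Rt a → D.ex a = e) (hg : ∀ a ∈ Ps D Z, D.g a ∈ Ps D Z) {a : D.I → ℤ}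
    (ha : a ∈ Bs D Z) : D.g a ∈ Bs D Z := by
  rw [mem_Bs] at ha ⊢
  refine ⟨hg a ha.1, fun b hb c hc h => ?_⟩
  obtain ⟨b, hb', rfl⟩ := (D.g_bijOn (fun _ => Ps.root) hg).surjOn hb
  obtain ⟨c, hc', rfl⟩ := (D.g_bijOn (fun _ => Ps.root) hg).surjOn hc
  have := (g_lin hex hb'.1.1 hc'.1.1 ha.1.1.1 (i := 1) (j := 1)).1 (by rwa [one_smul, one_smul])
  exact ha.2 b hb' c hc' (by rwa [one_smul, one_smul] at this)

variable (D) in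
/-- the dominant roots that are not orthogonal to the subsystem -/
def S0 (Z : Set Y) : Set (D.I → ℤ) := {b | D.Rt b ∧ Dm D Z b ∧ ∃ a ∈ Ps D Z, 0 < cpr D.cs D.h b a}

variable (D) in
/-- those outside the subsystem -/
def B1 (Z : Set Y) : Set (D.I → ℤ) := S0 D Z \ D.Sz Z

variable (D) in
/-- the indecomposable ones -/
def B2 (Z : Set Y) : Set (D.I → ℤ) := {b | b ∈ B1 D Z ∧ ∀ a ∈ S0 D Z, ∀ a' ∈ S0 D Z, a ≠ a' → b ∉ CZ D a a'}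

variable (D) in
/-- the sum of the positive coroots -/
noncomputable def lamZ (Z : Set Y) : (D.I → ℤ) →+ ℤ := ∑ a ∈ (finite_Ps (D := D) Z).toFinset, el D.cs D.h a

theorem lamZ_pos {Z : Set Y} : ∀ b ∈ S0 D Z, 0 < lamZ D Z b := by
  rintro b ⟨-, h1, a, ha, h2⟩
  rw [lamZ, AddMonoidHom.finsetSum_apply]
  exact Finset.sum_pos' (fun c hc => h1 c ((finite_Ps Z).mem_toFinset.1 hc)) ⟨a, (finite_Ps Z).mem_toFinset.2 ha, h2⟩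

theorem uni_S0 (Z : Set Y) : D.Uni (S0 D Z) := by
  refine ⟨⟨fun _ h => h.1, ?_⟩, lamZ D Z, lamZ_pos⟩
  rintro b ⟨-, h1, a, ha, h2⟩ b' ⟨-, h3, -⟩ c hc
  exact ⟨hc.1, fun d hd => btwn_nonneg' hc (el D.cs D.h d) (h1 d hd) (h3 d hd), a, ha,
    btwn_pos' hc (el D.cs D.h a) h2 (h3 a ha)⟩

theorem mem_of_B2 {Z : Set Y} (dc : DC D.cs D.h D.X) (L : AddSubgroup (D.I → ℤ)) (h : ∀ b ∈ B2 D Z, b ∈ L) :
    ∀ b ∈ B1 D Z, b ∈ L := by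
  intro b hb
  induction hn : (lamZ D Z b).toNat using Nat.strong_induction_on generalizing b with
  | _ n ih =>
  by_cases h1 : b ∈ B2 D Z
  · exact h b h1
  have h2 : ¬ ∀ a ∈ S0 D Z, ∀ a' ∈ S0 D Z, a ≠ a' → b ∉ CZ D a a' := fun h2 => h1 ⟨hb, h2⟩
  push Not at h2
  obtain ⟨a, ha, a', ha', -, ⟨-, i, j, hi, hj, e⟩, h3⟩ := h2
  have h4 : ¬ 0 ≤ cpr D.cs D.h a' a := fun h => h3 (dc a a' ha.1 ha'.1 h)
  have ps : ∀ c ∈ S0 D Z, c ∈ D.Sz Z → c ∈ Ps D Z := fun c hc hz =>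
    nonneg_of_dm hc.2.1 hz (by rw [cpr_self _ _ hc.1]; omega)
  have p1 := lamZ_pos a ha
  have p2 := lamZ_pos a' ha'
  have h5 : lamZ D Z b = i * lamZ D Z a + j * lamZ D Z a' := by rw [e, map_add, map_zsmul, map_zsmul]; rfl
  rw [e]
  refine L.add_mem (L.zsmul_mem (ih _ ?_ a ⟨ha, fun hz => h4 (ha'.2.1 a (ps a ha hz))⟩ rfl) i)
    (L.zsmul_mem (ih _ ?_ a' ⟨ha', fun hz => h4 ((cpr_nonneg_comm ha.1 ha'.1).1 (ha.2.1 a' (ps a' ha' hz)))⟩ rfl) j)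
  · have : lamZ D Z a < lamZ D Z b := by nlinarith
    omega
  · have : lamZ D Z a' < lamZ D Z b := by nlinarith
    omega

/-- climbing to a dominant root -/
theorem exists_dm {Z : Set Y} {E : Set (D.I → ℤ)} (hE : ∀ c ∈ E, D.Rt c) (hne : E.Nonempty)
    (h : ∀ c ∈ E, ∀ a ∈ Ps D Z, cpr D.cs D.h c a < 0 → c - cpr D.cs D.h c a • a ∈ E) : ∃ c ∈ E, Dm D Z c := by
  obtain ⟨c, hc, hmax⟩ := Set.Finite.exists_maximalFor htHom E (D.finite_roots.subset hE) hne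
  refine ⟨c, hc, fun a ha => not_lt.1 fun h1 => ?_⟩
  have h2 := ht_Ps a ha
  have h3 : htHom c < htHom (c - cpr D.cs D.h c a • a) := by
    rw [map_sub, map_zsmul, smul_eq_mul]
    nlinarith
  have := hmax (h c hc a ha h1) h3.le
  omega

end Gen

/-- the situation in an adapted frame -/
structure SQ (D : Datum p ρ σ ⊤) (e : ℕ) (Γ : Subgroup (MulAut Y)) (K R F0 Z : Subgroup Y) : Prop
    extends Sit D e Γ K R F0 Z where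
  q : ∀ a ∈ D.Sz Z, 0 ≤ a → 0 ≤ D.g a
  dc : DC D.cs D.h D.X

namespace SQ

variable {D : Datum p ρ σ ⊤} {e : ℕ} {Γ : Subgroup (MulAut Y)} {K R F0 Z : Subgroup Y} (H : SQ D e Γ K R F0 Z)
include H

theorem hF : ∀ a ∈ D.Sz Z, D.g a ∈ D.Sz Z := fun _ => H.g_mem

theorem shape : e = 1 ∧ Shp D.cs D.h (D.Sz Z) := by
  obtain ⟨h1, h2, -⟩ := boxShape p k Y N ρ σ ⊤ D e Z H.hyp.he H.hyp.ex H.hyp.cz H.le H.hF H.he
    fun θ hθ c hc h0 => H.dc θ c hθ.1 hc.1 h0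
  exact ⟨(h1 H.rt).1, h2⟩

theorem g_Ps : ∀ a ∈ Ps D Z, D.g a ∈ Ps D Z := fun a ha =>
  ⟨⟨D.g_root a ha.1.1, H.q a ha.2 ha.1.2⟩, H.g_mem ha.2⟩

theorem g_S0 : ∀ b ∈ S0 D Z, D.g b ∈ S0 D Z := by
  rintro b ⟨h0, h1, a, ha, h2⟩
  refine ⟨D.g_root b h0, fun c hc => ?_, _, H.g_Ps a ha, by rwa [cpr_g H.hyp.ex h0 ha.1.1]⟩
  obtain ⟨c, hc', rfl⟩ := (D.g_bijOn (fun _ => Ps.root) H.g_Ps).surjOn hc
  rw [cpr_g H.hyp.ex h0 hc'.1.1]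
  exact h1 c hc'

theorem g_B1 : ∀ b ∈ B1 D Z, D.g b ∈ B1 D Z := fun b hb => ⟨H.g_S0 b hb.1, fun h => by
  obtain ⟨c, hc, e⟩ := (D.g_bijOn D.Sz_root H.hF).surjOn h
  exact hb.2 (D.g_inj hc.1 hb.1.1 e ▸ hc)⟩

theorem g_B2 : ∀ b ∈ B2 D Z, D.g b ∈ B2 D Z := fun b hb => ⟨H.g_B1 b hb.1, fun a ha a' ha' hne hc => by
  obtain ⟨a, ha1, rfl⟩ := (D.g_bijOn (fun _ h => h.1) H.g_S0).surjOn ha
  obtain ⟨a', ha2, rfl⟩ := (D.g_bijOn (fun _ h => h.1) H.g_S0).surjOn ha'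
  obtain ⟨⟨-, i, j, hi, hj, e⟩, h1⟩ := hc
  exact hb.2 a ha1 a' ha2 (fun e => hne (congrArg _ e)) ⟨⟨hb.1.1.1, i, j, hi, hj,
    (g_lin H.hyp.ex ha1.1 ha2.1 hb.1.1.1).1 e⟩, fun h => h1 (Cm.map ha1.1 ha2.1 h)⟩⟩

theorem cov {a : D.I → ℤ} (ha : a ∈ Ps D Z) :
    ∃ θ ∈ Ps D Z, Dm D Z θ ∧ D.g θ = θ ∧ (a = θ ∨ (θ = a + D.g a ∧ D.g (D.g a) = a)) :=
  Max.cov H.le H.hF H.q H.hyp.he H.hyp.ex H.hyp.cz H.he H.dc ha

theorem exists_B1 {a : D.I → ℤ} (ha : a ∈ Ps D Z) : ∃ b ∈ B1 D Z, 0 < cpr D.cs D.h b a := by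
  obtain ⟨θ, hθ, hd, -, h1⟩ := H.cov ha
  obtain ⟨b, hb, hbd⟩ := exists_dm (Z := Z) (E := {c | D.Rt c ∧ c ∉ D.Sz Z ∧ 0 < cpr D.cs D.h c θ}) (fun _ h => h.1) (by
    obtain ⟨c₁, c₂, c₃, r₁, r₂, r₃, n₁, n₂, n₃, e₁, e₂, e₃⟩ := H.hyp.ir θ hθ.1.1
    by_contra h2
    have key : ∀ c, D.Rt c → cpr D.cs D.h c θ = 1 → c ∈ Nb D.cs D.h (D.Sz Z) θ := fun c hc e =>
      ⟨by_contra fun h => h2 ⟨c, hc, h, by omega⟩, fun h => by rw [h, cpr_self _ _ hθ.1.1] at e; omega, by omega⟩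
    rcases H.shape.2.two θ hθ.2 c₁ (key _ r₁ e₁) c₂ (key _ r₂ e₂) c₃ (key _ r₃ e₃) with h | h | h
    exacts [n₁ h, n₂ h, n₃ h]) fun c hc d hd' h0 => ⟨isRoot_refl _ _ hc.1 hd'.1.1,
      fun h => hc.2.1 ((Sz_refl hd'.2 hc.1).1 h), by
        rw [cpr_sub, cpr_smul']
        have := (cpr_nonneg_comm hθ.1.1 hd'.1.1).1 (hd d hd')
        nlinarith [hc.2.2]⟩
  have hb1 : b ∈ B1 D Z := ⟨⟨hb.1, hbd, θ, hθ, hb.2.2⟩, hb.2.1⟩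
  rcases h1 with rfl | ⟨h1, -⟩
  · exact ⟨b, hb1, hb.2.2⟩
  · have := Fintype.ofFinite D.W
    have h2 := hb.2.2
    rw [cpr_pos_iff _ _ _ hθ.1.1, h1, form_add_right] at h2
    by_cases h3 : 0 < form D.cs D.h b a
    · exact ⟨b, hb1, (cpr_pos_iff _ _ _ ha.1.1).2 h3⟩
    · obtain ⟨b', hb', rfl⟩ := (D.g_bijOn (fun _ h => h.1.1) H.g_B1).surjOn hb1
      refine ⟨b', hb', ?_⟩
      rw [← cpr_g H.hyp.ex hb'.1.1 ha.1.1, cpr_pos_iff _ _ _ (D.g_root a ha.1.1)]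
      omega

theorem exists_x : ∃ κ, Crd D (S0 D Z) (B2 D Z) κ ∧ ∃ x ∈ D.S (S0 D Z), x ∈ K ∧ ∀ b ∈ B2 D Z, κ b x ≠ 0 := by
  obtain ⟨κ, C⟩ := exists_crd_uni (crel_cz H.hyp.cz) (uni_S0 (D := D) Z) (B := B2 D Z) (fun _ h => h.1.1)
    fun a ha a' ha' hne b hb => hb.2 a ha a' ha' hne
  have hr : ∀ b ∈ B2 D Z, D.Rt b := fun _ h => h.1.1.1
  obtain ⟨t, h1, h2⟩ := exists_full (p := p) (cF_ne (D := D)) H.hyp.he (D.finite_roots.subset hr) (g_injOn hr) H.g_B2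
    fun b hb => periodic (hr b hb)
  obtain ⟨x, hx, h3, h4⟩ := C.exists_fix H.g_S0 H.g_B2 (t := t) fun b hb => by rw [H.hyp.ex b (hr b hb), h1 b hb]
  exact ⟨κ, C, x, hx, H.gc.pel x h3 (pel_of_uni (uni_S0 (D := D) Z) hx), fun b hb => by rw [h4 b hb]; exact h2 b hb⟩

theorem cm_mem {x : Y} (hx : x ∈ D.S (S0 D Z)) {z : Y} (hz : z ∈ Z) : x * z * x⁻¹ * z⁻¹ ∈ D.S (S0 D Z) := by
  have := mul_mem hx (D.conj_mem_S_of_T (fun _ h => h.1) (H.le hz) (inv_mem hx))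
  rwa [← mul_assoc, ← mul_assoc] at this

/-- RK1 -/
theorem rk {x : Y} (hx : x ∈ D.S (S0 D Z)) {φ : MulAut Y} (hφ : Bad Γ R F0 x φ) {z : Y} (hz : z ∈ Z) :
    φ x * z * (φ x)⁻¹ = x * z * x⁻¹ := by
  have h1 : x⁻¹ * (φ x * z * (φ x)⁻¹) * x ∈ Z := by
    have := H.inv _ (mul_mem hφ.mem' (inv_mem hφ.mem)) z hz
    convert this using 1
    show _ = x⁻¹ * φ (x * φ⁻¹ z * x⁻¹) * x
    rw [map_mul, map_mul, map_inv, MulAut.apply_inv_self]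
  obtain ⟨z', hz', e⟩ : ∃ z' ∈ Z, φ x * z * (φ x)⁻¹ = x * z' * x⁻¹ := ⟨_, h1, by group⟩
  obtain ⟨j, hj⟩ := pel_of_uni (uni_S0 (D := D) Z) (H.cm_mem hx (H.inv _ (inv_mem hφ.mem) z hz))
  have h2 := congrArg φ hj
  rw [map_pow, map_one, map_mul, map_mul, map_mul, map_inv, map_inv, MulAut.apply_inv_self, e,
    show x * z' * x⁻¹ * z⁻¹ = x * z' * x⁻¹ * z'⁻¹ * (z' * z⁻¹) by group] at h2
  have h3 := eq_one_of_mul_pel (fun _ h => h.1) _ lamZ_pos (H.cm_mem hx hz') (H.le (mul_mem hz' (inv_mem hz))) h2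
  rw [e, mul_inv_eq_one.1 h3]

theorem comm_U {u y : Y} (hu : u ∈ D.S (Ps D Z)) (hy : y ∈ D.S (S0 D Z)) : u * y = y * u :=
  comm_S_S (fun a ha b hb => H.dc a b ha.1.1 hb.1 (hb.2.1 a ha)) hu hy

theorem U_le : D.S (Ps D Z) ≤ D.S (D.Sz Z) := RGD.Sup_mono Set.inter_subset_right

/-- a bad lift fixes `U₁ ^ σ` -/
theorem fixU {κ : (D.I → ℤ) → Y → k} (C : Crd D (S0 D Z) (B2 D Z) κ) {x : Y} (hx : x ∈ D.S (S0 D Z))
    (hκ : ∀ b ∈ B2 D Z, κ b x ≠ 0) {φ : MulAut Y} (hφ : Bad Γ R F0 x φ) {u : Y} (hu : u ∈ D.S (Ps D Z)) (hσ : σ u = u) :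
    φ u = u := by
  obtain ⟨j, hj⟩ := pel_of_pos (fun _ => Ps.root) _ ht_Ps hu
  have hf := hφ.fit u (H.gc.inv _ H.inv_M H.not_le_M u (H.U_le hu) (H.gc.pel u hσ ⟨j, hj⟩))
  have hfM : φ u * u⁻¹ ∈ D.S (D.Sz Z) := mul_mem (H.inv_M φ hφ.mem u (H.U_le hu)) (inv_mem (H.U_le hu))
  have hc : ∀ z ∈ Z, φ u * u⁻¹ * (x * z * x⁻¹ * z⁻¹) = x * z * x⁻¹ * z⁻¹ * (φ u * u⁻¹) := fun z hz => by
    have h1 := congrArg φ (H.comm_U hu (H.cm_mem hx (H.inv _ (inv_mem hφ.mem) z hz)))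
    simp only [map_mul, map_inv, MulAut.apply_inv_self] at h1
    rw [H.rk hx hφ hz] at h1
    rw [mul_assoc, H.comm_U (inv_mem hu) (H.cm_mem hx hz), ← mul_assoc, h1, mul_assoc]
  obtain ⟨v, u₁, hu₁, m, hmc, hm, u₂, hu₂, e⟩ := sub_nf H.le H.hF (D.S_le_cen _ hfM)
  have h1 : ∀ b ∈ B2 D Z, D.act (D.subW Z v) b = b := fun b hb => by
    have h2 : ¬ ∀ z ∈ (Z : Set Y), D.χ b z = 1 := fun h => hb.1.2 ⟨hb.1.1.1, h⟩
    push Not at h2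
    obtain ⟨z, hz, h2⟩ := h2
    have hy := H.cm_mem hx hz
    have h3 : m * (x * z * x⁻¹ * z⁻¹) * m⁻¹ = x * z * x⁻¹ * z⁻¹ := by
      have h4 := hc z hz
      generalize x * z * x⁻¹ * z⁻¹ = y at hy h4
      rw [e] at h4
      calc m * y * m⁻¹ = u₁⁻¹ * (u₁ * m * (y * u₂)) * u₂⁻¹ * m⁻¹ := by group
        _ = u₁⁻¹ * (y * u₁) := by rw [← H.comm_U hu₂ hy, ← mul_assoc (u₁ * m), h4]; group
        _ = y := by rw [← H.comm_U hu₁ hy, inv_mul_cancel_left]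
    have h5 := inf_S (uni_S0 (D := D) Z) ((uni_S0 (D := D) Z).act (D.subW Z v)) hy
      (h3 ▸ D.conj_mem_S hm (fun _ h => h.1) (fun a ha => Set.mem_image_of_mem _ ha) hy)
    have h6 : b ∈ S0 D Z ∩ D.act (D.subW Z v) '' S0 D Z := by
      by_contra h7
      have h8 := C.zero_of_mem hb Set.inter_subset_left h7 h5
      rw [mul_assoc, mul_assoc, ← mul_assoc z, C.mul b hb _ hx _
        (D.conj_mem_S_of_T (fun _ h => h.1) (H.le hz) (inv_mem hx)), C.tor hb (H.le hz) (inv_mem hx), C.inv hb hx] at h8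
      exact h2 (mul_right_cancel₀ (hκ b hb) (by linear_combination -h8))
    obtain ⟨-, b₀, hb₀, rfl⟩ := h6
    rw [eq_of_dm H.le H.hF hb₀.2.1 hb.1.1.2.1, eq_of_dm H.le H.hF hb₀.2.1 hb.1.1.2.1]
  have h2 := mem_of_B2 H.dc ((rep D.cs D.h (D.subW Z v)).toAddMonoidHom.eqLocus (AddMonoidHom.id _)) h1
  have h3 : v = 1 := subW_eq_one H.le H.hF fun a ha => by
    have ha' := bs_mem_Ps ha
    obtain ⟨b, hb, h4⟩ := H.exists_B1 ha'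
    rw [← cpr_act (D.subW Z v) b ha'.1.1, show D.act (D.subW Z v) b = b from h2 b hb] at h4
    have h5 : D.act (D.subW Z v) a ∈ Ps D Z := nonneg_of_dm hb.1.2.1 (act_subW_mem H.le H.hF v ha'.2) h4
    exact h5.1.2
  rw [h3, map_one] at hm
  have hT := hm.mem_of_one
  have h4 : m = 1 := eq_one_of_mul_pel (fun _ => Ps.root) _ ht_Ps
    (mul_mem hu₁ (D.conj_mem_S_of_T (fun _ => Ps.root) hT (mul_mem hu₂ hu))) hT (j := j) (by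
      rw [show u₁ * (m * (u₂ * u) * m⁻¹) * m = u₁ * m * u₂ * u by group, ← e, inv_mul_cancel_right, ← map_pow, hj,
        map_one])
  rw [h4, mul_one] at e
  obtain ⟨i, hi⟩ := pel_of_pos (fun _ => Ps.root) _ ht_Ps (mul_mem hu₁ hu₂)
  exact mul_inv_eq_one.1 (H.gc.F0_pel _ hf i (by rw [e, hi]))

end SQ

end Cfsg.Agent.SB.Exc.Max
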